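import Cfsg.Agent.UGT.L2i.Defs
import Cfsg.Agent.UGT.L2Inner.WBAut
import Cfsg.Agent.UGT.Iface
import Cfsg.Agent.OddCyclic.PGLTorus
import Cfsg.Agent.OddHalf.D6.SubFix

/-!
# P0 (SETUP): facts on `PSL₂(q)`

`rep_four`, `rep_refl`, `rep_eleven`, `qfacts` : facts on `X ≅ PSL₂(F)`, `F` finite of odd characteristic.
-/

set_option autoImplicit false

open Cfsg Subgroup
open Cfsg.Agent.UGT.Iface (Bar IsInner IsL2)
open Cfsg.Agent.UGT.L2Inner
open scoped commutatorElement

universe u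

namespace Cfsg.Agent.UGT.L2i

section rep

variable {F : Type*} [Field F] [Finite F] {X : Type*} [Group X] (R : Cfsg.Agent.GH.L2Aut.Rep F X)

include R

/-- every involution commutes with another one -/
theorem rep_four {e : X} (hee : e * e = 1) (he1 : e ≠ 1) : ∃ f : X, f * f = 1 ∧ f ≠ 1 ∧ f ≠ e ∧ e * f = f * e := by
  obtain ⟨a, b, h⟩ := R.exists_four
  obtain ⟨g, hg⟩ := R.inv_conj h.aa h.a1 hee he1
  refine ⟨g * b * g⁻¹, ?_, ?_, ?_, ?_⟩
  · calc g * b * g⁻¹ * (g * b * g⁻¹) = g * (b * b) * g⁻¹ := by group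
      _ = 1 := by rw [h.bb]; group
  · intro h1
    apply h.b1
    calc b = g⁻¹ * (g * b * g⁻¹) * g := by group
      _ = 1 := by rw [h1]; group
  · intro h1
    apply h.ne
    rw [← hg] at h1
    calc a = g⁻¹ * (g * a * g⁻¹) * g := by group
      _ = g⁻¹ * (g * b * g⁻¹) * g := by rw [h1]
      _ = b := by group
  · rw [← hg]
    calc g * a * g⁻¹ * (g * b * g⁻¹) = g * (a * b) * g⁻¹ := by group
      _ = g * (b * a) * g⁻¹ := by rw [h.comm]
      _ = _ := by group

/-- an automorphism `δ ≠ 1` of odd order fixing the involution `l` moves an involution commuting with `l` -/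
theorem rep_refl {l : X} (hll : l * l = 1) (hl1 : l ≠ 1) {δ : MulAut X} (hδ : Odd (orderOf δ)) (hδ1 : δ ≠ 1)
    (hδl : δ l = l) : ∃ t : X, t * t = 1 ∧ t * l = l * t ∧ t ≠ l ∧ t ≠ 1 ∧ δ t ≠ t := by
  by_contra hcon
  push Not at hcon
  have hcP : MulAut.conj l ∈ R.PGL := R.conj_mem_PGL l
  have hc1 : MulAut.conj l ≠ 1 := fun h => hl1 (R.conj_injective (by rw [h, map_one]))
  have hcc : MulAut.conj l * MulAut.conj l = 1 := by rw [← map_mul, hll, map_one]
  have hcomm : δ * MulAut.conj l = MulAut.conj l * δ := by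
    have h1 : δ * MulAut.conj l * δ⁻¹ = MulAut.conj (δ l) := by
      ext y
      simp [MulAut.conj_apply]
    rw [hδl] at h1
    exact mul_inv_eq_iff_eq_mul.mp h1
  apply hδ1
  refine R.eq_one_of_fix hcP hc1 hcc hδ hcomm fun y hy => ?_
  have hyl : y * l = l * y := by
    have h1 : l * y * l⁻¹ = y := by simpa [MulAut.conj_apply] using hy
    rw [mul_inv_eq_iff_eq_mul] at h1
    exact h1.symm
  obtain ⟨B, hlB, hBc, hB2, hcov⟩ := R.inner_cent hll hl1
  obtain ⟨b, hbb, hb1, hbl, hlb⟩ := rep_four R hll hl1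
  have hbB : b ∉ B := by
    intro h
    rcases hB2 b h hbb with h1 | h1
    · exact hb1 h1
    · exact hbl h1
  -- elements of `C(l) ∖ B` are fixed
  have hout : ∀ z : X, z * l = l * z → z ∉ B → δ z = z := by
    intro z hz hzB
    rcases hcov z hz with h | ⟨hzz, -⟩
    · exact absurd h hzB
    · exact hcon z hzz hz (fun h => hzB (h ▸ hlB)) (fun h => hzB (h ▸ one_mem B))
  by_cases hyB : y ∈ B
  · have h1 : y * b ∉ B := fun h => hbB (by
      have := mul_mem (inv_mem hyB) h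
      rwa [inv_mul_cancel_left] at this)
    have h2 := hout b hlb.symm hbB
    have h3 := hout (y * b) (by rw [mul_assoc, ← hlb, ← mul_assoc, hyl, mul_assoc]) h1
    rw [map_mul, h2] at h3
    exact mul_right_cancel h3
  · exact hout y hyl hyB

/-- an element of odd order commuting with an involution -/
theorem rep_eleven {l s : X} (hll : l * l = 1) (hl1 : l ≠ 1) (hs : s * l = l * s) (hs1 : s ≠ 1)
    (hodd : Odd (orderOf s)) : 11 ≤ Nat.card F := by
  by_contra hlt
  push Not at hlt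
  obtain ⟨g, hg⟩ := R.mem_PGL.1 (R.conj_mem_PGL l)
  have hg1 : R.gl g ≠ 1 := by
    rw [← hg]
    exact fun h => hl1 (R.conj_injective (by rw [h, map_one]))
  have htr := OddCyclic.PGLTorus.trace_of_sq R hg1 (by rw [← hg, ← map_mul, hll, map_one])
  have hc := OddCyclic.PGLTorus.card_Tor_inn R htr ⟨l, hg⟩
  have hF := OddCyclic.PGLTorus.odd_card R
  have hgs : R.gl g s = s := by
    rw [← hg, MulAut.conj_apply, ← hs, mul_inv_cancel_right]
  have hss : s * s ≠ 1 := by
    intro h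
    have h1 : orderOf s = 2 := orderOf_eq_prime (by rw [pow_two, h]) hs1
    rw [h1] at hodd
    exact absurd hodd (by decide)
  have h3 := (OddCyclic.PGLTorus.mem_Cp_or_sq R hgs).resolve_right hss
  have h4 : orderOf (MulAut.conj s) ∣ Nat.card (OddCyclic.PGLTorus.Tor R g) := by
    have := orderOf_dvd_natCard (⟨MulAut.conj s, OddCyclic.PGLTorus.mem_Cp R |>.mp h3⟩ : OddCyclic.PGLTorus.Tor R g)
    rwa [orderOf_mk] at this
  rw [orderOf_injective _ R.conj_injective] at h4
  have h5 : orderOf s ≠ 1 := fun h => hs1 (orderOf_eq_one_iff.mp h)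
  have h6 : 3 ≤ Nat.card F := by
    have : 1 < Nat.card F := Finite.one_lt_card
    omega
  have key : ∀ m : ℕ, orderOf s ∣ 2 ^ m → False := by
    intro m h
    have h7 : Nat.Coprime (orderOf s) (2 ^ m) := Nat.Coprime.pow_right m (Nat.coprime_two_right.mpr hodd)
    exact h5 (Nat.eq_one_of_dvd_coprimes h7 dvd_rfl h)
  rw [hc] at h4
  obtain ⟨q, hq⟩ : ∃ q, q = Nat.card F := ⟨_, rfl⟩
  rw [← hq] at h4 h6 hlt hF
  unfold OddCyclic.PGLTorus.nu at h4
  have h7 : q = 3 ∨ q = 5 ∨ q = 7 ∨ q = 9 := by omega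
  rcases h7 with rfl | rfl | rfl | rfl
  · exact key 2 (by simpa using h4)
  · exact key 2 (by simpa using h4)
  · exact key 3 (by simpa using h4)
  · exact key 3 (by simpa using h4)

end rep

/-- `PSL₂(q)`, `q ≥ 11` odd, satisfies `QFacts`. -/
theorem qfacts {F : Type*} [Field F] [Finite F] {X : Type u} [Group X] (R : Cfsg.Agent.GH.L2Aut.Rep F X)
    (hq : 11 ≤ Nat.card F) : QFacts X where
  simple := OddHalf.D6.SubFix.isSimple R (by omega)
  nab := by
    intro h
    obtain ⟨a, b, hab⟩ := R.exists_four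
    have h1 : a ∈ center X := mem_center_iff.mpr fun g => h g a
    rw [R.center_eq_bot, mem_bot] at h1
    exact hab.a1 h1
  even := even_iff_two_dvd.mp (WBAut.even_card R)
  gam := SL.gamAut_rep R hq
  conj s t h1 h2 h3 h4 := R.inv_conj h1 h2 h3 h4
  four e h1 h2 := rep_four R h1 h2

theorem exists_rep {K : Type u} [Group K] (h : IsL2 K) :
    ∃ (F : Type) (_ : Field F) (_ : Finite F), 5 ≤ Nat.card F ∧
      Nonempty (Cfsg.Agent.GH.L2Aut.Rep F K) := by
  obtain ⟨F, i1, i2, h1, h2, ⟨e⟩⟩ := h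
  refine ⟨F, i1, inferInstance, ?_, ⟨Cfsg.Agent.GH.L2Aut.Rep.ofEquiv
    (Cfsg.Agent.GH.L2Aut.two_ne_zero_of_odd h1) e⟩⟩
  rwa [Nat.card_eq_fintype_card]

theorem center_of_L2 {K : Type*} [Group K] (h : IsL2 K) : center K = ⊥ := by
  obtain ⟨F, i1, i2, hodd, h5, ⟨e⟩⟩ := h
  exact (GH.L2Aut.Rep.ofEquiv (GH.L2Aut.two_ne_zero_of_odd hodd) e).center_eq_bot

theorem isL2_congr {K K' : Type*} [Group K] [Group K'] (h : IsL2 K) (e : K ≃* K') : IsL2 K' := by
  obtain ⟨F, i1, i2, h1, h2, ⟨f⟩⟩ := h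
  exact ⟨F, i1, i2, h1, h2, ⟨e.symm.trans f⟩⟩

/-- the order of `C / O(C)` divides the order of `J / O(J)` for `C ≤ J` -/
theorem card_bar_dvd {G : Type*} [Group G] [Finite G] {C J : Subgroup G} (h : C ≤ J) :
    Nat.card (↥C ⧸ oddCore ↥C) ∣ Nat.card (↥J ⧸ oddCore ↥J) := by
  have h2 : Fact (Nat.Prime 2) := ⟨Nat.prime_two⟩
  have h1 : (oddCore ↥J).relIndex (C.subgroupOf J) ∣ (oddCore ↥J).index :=
    relIndex_dvd_index_of_normal _ _
  refine dvd_trans ?_ h1
  let e : ↥(C.subgroupOf J) ≃* ↥C := subgroupOfEquivOfLe h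
  let N : Subgroup ↥C := ((oddCore ↥J).subgroupOf (C.subgroupOf J)).map e.toMonoidHom
  have hN : N ≤ oddCore ↥C := by
    refine Lib.Cores.le_pPrimeCore ?_ ?_
    · exact Normal.map inferInstance _ e.surjective
    · change (Nat.card N).Coprime 2
      have h3 : (Nat.card (oddCore ↥J)).Coprime 2 := Lib.Cores.pPrimeCore_coprime 2
      refine Nat.Coprime.coprime_dvd_left ?_ h3
      refine (card_map_dvd _ _).trans ?_
      exact card_comap_dvd_of_injective _ _ (subtype_injective _)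
  have h4 : (oddCore ↥C).index ∣ N.index := index_dvd_of_le hN
  have h5 : N.index = (oddCore ↥J).relIndex (C.subgroupOf J) := by
    rw [Subgroup.relIndex]
    exact index_map_equiv _ e
  rwa [h5] at h4

end Cfsg.Agent.UGT.L2i
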