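import Cfsg.Agent.UGT.L2i.Node
import Cfsg.Agent.UGT.Q2.End
import Cfsg.Agent.UGT.Q2.DD

/-!
# N5: THEOREM Q2 plugged in

* `thmQ2 : ThmQ2`
* `nodeL2r'` : N5 in the world `PSL₂(q)` from S1173, Feit-Thompson and the rank statement `Rank5`.
* `nodeL2i_of'` : N5 in the world `PSL₂(q)`, `A₇`, from these and `ThmBad`.
-/

set_option autoImplicit false

open Cfsg Subgroup
open Cfsg.Agent.UGT.Triple (IsTriple)
open Cfsg.Agent.UGT.Iface (Bar IsInner IsL2 IsAlt MinCex)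

universe u

namespace Cfsg.Agent.UGT.L2i

theorem thmQ2 : ThmQ2.{u} := by
  rintro G _ _ q W hH hr ⟨x, a, L, h1, h2, h3⟩
  exact Q2.no_inn Q2.badHyp (Q2.lineHyp W hH) W hH hr x a L ⟨h1, h2, h3⟩

theorem nodeL2r' (h1173 : SL.P1173.{u})
    (FT : ∀ (G : Type u) [Group G] [Finite G] (Y : Subgroup G), Odd (Nat.card Y) → Group.IsSolvable Y)
    (h5 : Rank5.{u}) : Nodes.NodeL2r.{u} := nodeL2r h1173 FT h5 thmQ2

theorem nodeL2i_of' (h1173 : SL.P1173.{u})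
    (FT : ∀ (G : Type u) [Group G] [Finite G] (Y : Subgroup G), Odd (Nat.card Y) → Group.IsSolvable Y)
    (h5 : Rank5.{u}) (hB : ThmBad.{u}) : Nodes.NodeL2i.{u} := nodeL2i_of h1173 FT h5 thmQ2 hB

end Cfsg.Agent.UGT.L2i
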