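import Cfsg.Agent.UGT.L2i.SitOf
import Cfsg.Agent.UGT.L2i.NodeQ2
import Cfsg.Agent.UGT.A7.M1.CfgTwo
import Cfsg.Agent.UGT.L2Inner.BadFive
import Cfsg.Agent.UGT.L2Inner.BadSeven
import Cfsg.Agent.UGT.A7.PumpSeven

/-!
# N5: there is no bad configuration

`Cfg7.Cx` (bb #12930 (1)-(4), helper179) + `false_of_s` ((5), helper837) ⊢ `Out` and the triple, hence rank at most 4
by `Out.rank_of` ((6)-(8), helper683).
-/

set_option autoImplicit false
set_option linter.unusedSectionVars false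

open Cfsg Subgroup Equiv Equiv.Perm
open Cfsg.Agent.SignalizersComponents Cfsg.Agent.Lib
open Cfsg.Agent.SignalizersComponents.IntrinsicBasic
open Cfsg.Agent.SignalizersComponents.PLayerAut
open Cfsg.Agent.Intrinsic.Basic Cfsg.Agent.Intrinsic.Cen Cfsg.Agent.Intrinsic.Diag
open Cfsg.Agent.McLLyComp.Act
open Cfsg.Agent.UAlt
open Cfsg.Agent.UGT.TMCBase
open Cfsg.Agent.UGT.Triple (IsTriple)
open Cfsg.Agent.UGT.Iface (Bar IsInner IsL2 IsAlt)
open Cfsg.Agent.UGT.L2Inner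
open Cfsg.Agent.UGT.A7.M1.Cfg7
open Cfsg.Agent.UGT.A7.M1 (VT ta_ta isV_mul)
open scoped commutatorElement

universe u

namespace Cfsg.Agent.UGT.L2i

variable {G : Type u} [Group G] [Finite G]

section cx

variable {GG : Subgroup G} {F : G → Subgroup G → Prop} {M Y V : Subgroup G} {w x : G} {K : Subgroup G}
  {c t : G} {L : Lab K} (C : Cx GG F M Y V w x K c t L)
  (hl : ∀ y ∈ Y, y ≠ 1 → ∀ N, IsComp (centralizer ({y} : Set G)) N → M ≤ N → L2T N)

include C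

/-- the common part of (3), (4) -/
theorem cx_common : w = t ∧ ∃ t' ∈ V, L.φ t' = ta ∧ ∃ y ∈ Y, y ≠ 1 ∧ y ∈ K ∧ IsV (L.φ y) := by
  by_cases h : ∀ y ∈ Y, IsV (L.φ y)
  · obtain ⟨h1, ⟨t', ht', h2⟩, h3⟩ := C.alpha h
    obtain ⟨y, hy, -, -, hy1, -, -⟩ := exists_gens C.ycard
    exact ⟨h1, t', ht', h2, y, hy, hy1, h3 hy, h y hy⟩
  · obtain ⟨h1, ⟨t', ht', h2⟩, h3, -⟩ := C.gamma h
    exact ⟨h1, t', ht', h2, h3⟩

include hl

theorem exists_g {s t' y : G} (hss : s * s = 1) (hs : ∀ e ∈ Y ⊔ V, s * e = e * s) (hJ : JY M Y s)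
    (ht' : t' ∈ V) (ht1' : t' ≠ 1) (hne : t ≠ t') (hy : y ∈ Y) (hy1 : y ≠ 1) :
    ∃ g, g * y = y * g ∧ g * s = s * g ∧ g * t * g⁻¹ = t' ∧ g * t' * g⁻¹ = t * t' := by
  obtain ⟨N, hN, hM, -⟩ := C.toFr.comp y hy hy1
  have hsy : s * y = y * s := hs y (C.yE hy)
  have hf := hJ y hy hy1 N hN hM
  have h1 := sup_cen' hN hss hsy hf
  have hVc : V ≤ cen N s := le_cen C.psq (C.pm.trans hM) fun p hp => (hs p (C.vE hp)).symm
  obtain ⟨e, -⟩ := exists_quotEquiv h1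
  have hT : L2T (cen N s) := l2t_congr e.symm (hl y hy hy1 N hN hM)
  obtain ⟨g, hg, h2, h3⟩ := cyc_of_l2 hT ⟨C.pcard, C.psq⟩ hVc C.tV ht' C.t1 ht1' hne
  exact ⟨g, comm_c (hN.le (cen_le _ _ hg)), comm_of_mem_cen hg, h2, h3⟩

/-- **(5)** -/
theorem no_s (hP : A7.Pump7 G) {s : G} (hss : s * s = 1) (hs1 : s ≠ 1) (hs : ∀ e ∈ Y ⊔ V, s * e = e * s)
    (hJ : JY M Y s) (hφ : L.φ s = ta) : False := by
  obtain ⟨hwt, t', ht', hφt', y, hy, hy1, hyK, hyV⟩ := cx_common C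
  subst hwt
  have ht1' : t' ≠ 1 := by
    rintro rfl
    rw [L.one] at hφt'
    exact absurd hφt' (by decide)
  have hne : w ≠ t' := by
    rintro rfl
    rw [C.φw] at hφt'
    exact absurd hφt' (by decide)
  obtain ⟨g, h1, h2, h3, h4⟩ := exists_g C hl hss hs hJ ht' ht1' hne hy hy1
  have hE : ∀ a ∈ Y ⊔ V, ∀ b ∈ Y ⊔ V, a * b = b * a := fun a ha b hb => C.toFr.E_comm ha hb
  refine false_of_s hP L C.bad.tri (C.psq t' ht') hss (hE _ (C.vE C.tV) _ (C.vE ht')) (hs _ (C.vE C.tV))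
    (hs _ (C.vE ht')) (C.ysq y hy) (hE _ (C.yE hy) _ (C.vE C.tV)) (hE _ (C.yE hy) _ (C.vE ht'))
    (hs _ (C.yE hy)).symm h1 h2 h3 h4 (C.eN (C.vE ht')) (C.one hss hs1 hs hJ).1 hφt' hφ
    (fun I hI => C.star hss hs1 hs hJ hI ht') (hs _ C.bad.xE) (hE _ (C.vE ht') _ C.bad.xE) hyK hyV
    (C.bad.y1 y hy hy1) (Or.inl rfl)

/-- (3) holds -/
theorem cx_alpha (hP : A7.Pump7 G) : (∀ y ∈ Y, IsV (L.φ y)) ∧ w = t ∧ (∃ t' ∈ V, L.φ t' = ta) ∧ Y ≤ K := by
  by_cases h : ∀ y ∈ Y, IsV (L.φ y)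
  · exact ⟨h, C.alpha h⟩
  · exfalso
    obtain ⟨-, -, -, s, hss, hs1, hs, hJ, hφ⟩ := C.gamma h
    exact no_s C hl hP hss hs1 hs hJ hφ

/-- `φ(Y) = V₄` -/
theorem exists_y (hP : A7.Pump7 G) {σ : P7} (hσ : IsV σ) : ∃ y ∈ Y, L.φ y = σ := by
  obtain ⟨hV, -⟩ := cx_alpha C hl hP
  obtain ⟨p, hp, q, hq, hp1, hq1, hpq⟩ := exists_gens C.ycard
  have e1 := C.bad.y1 p hp hp1
  have e2 := C.bad.y1 q hq hq1
  have hpq1 : p * q ≠ 1 := by
    intro h
    apply hpq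
    rw [eq_inv_of_mul_eq_one_left h, inv_eq_of_mul_eq_one_left (C.ysq q hq)]
  have e4 : L.φ (p * q) = L.φ p * L.φ q := L.mul _ _ (C.eN (C.yE hp)) (C.eN (C.yE hq))
  have e3 : L.φ p ≠ L.φ q := by
    intro h
    apply C.bad.y1 _ (mul_mem hp hq) hpq1
    rw [e4, h]
    exact isV_sq (hV q hq)
  have key : ∀ a b σ : P7, IsV a → IsV b → IsV σ → a ≠ 1 → b ≠ 1 → a ≠ b → σ = 1 ∨ σ = a ∨ σ = b ∨ σ = a * b := by
    rintro a b σ (rfl | rfl | rfl | rfl) (rfl | rfl | rfl | rfl) (rfl | rfl | rfl | rfl) <;> decide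
  rcases key _ _ σ (hV p hp) (hV q hq) hσ e1 e2 e3 with h | h | h | h
  · exact ⟨1, one_mem _, by rw [L.one, h]⟩
  · exact ⟨p, hp, h.symm⟩
  · exact ⟨q, hq, h.symm⟩
  · exact ⟨p * q, mul_mem hp hq, by rw [e4, h]⟩

/-- **(RK)** for the elements of `C(E)` -/
theorem mem_Y (hP : A7.Pump7 G) {j : G} (jj : j * j = 1) (hj : ∀ e ∈ Y ⊔ V, j * e = e * j) (hJ : JY M Y j) :
    j ∈ Y := by
  by_cases j1 : j = 1
  · rw [j1]; exact one_mem _
  obtain ⟨hjN, -, -⟩ := C.one jj j1 hj hJ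
  have hcomm : ∀ σ ∈ VT, L.φ j * σ = σ * L.φ j := by
    intro σ hσ
    obtain ⟨e, he, rfl⟩ := C.exists_φ hσ
    rw [← L.mul _ _ hjN (C.eN he), hj e he, L.mul _ _ (C.eN he) hjN]
  have hjVT : L.φ j ∈ VT := mem_VT_of_comm (hcomm b1 (Or.inl (Or.inr (Or.inl rfl))))
    (hcomm b2 (Or.inl (Or.inr (Or.inr (Or.inl rfl))))) (hcomm ta (Or.inr (Or.inl ta_ta)))
  -- the element of `Y` over the `V₄`-part
  obtain ⟨σ, hσ, hor⟩ : ∃ σ, IsV σ ∧ (L.φ j = σ ∨ L.φ j = σ * ta) := by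
    rcases hjVT with h | h
    · exact ⟨_, h, Or.inl rfl⟩
    · exact ⟨_, h, Or.inr (by rw [mul_assoc, ta_ta, mul_one])⟩
  obtain ⟨y, hy, hyσ⟩ := exists_y C hl hP hσ
  have hjy : j * y = y * j := hj y (C.yE hy)
  have hyE : ∀ e ∈ Y ⊔ V, y * e = e * y := fun e he => C.toFr.E_comm (C.yE hy) he
  by_contra hjY
  have h1 : y * j ≠ 1 := by
    intro h
    apply hjY
    have h2 : j = y := by
      rw [← inv_eq_of_mul_eq_one_right h, inv_eq_of_mul_eq_one_left (C.ysq y hy)]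
    rw [h2]; exact hy
  have h2 : y * j * (y * j) = 1 := Cx.sq_mul' (C.ysq y hy) jj hjy.symm
  have h3 : ∀ e ∈ Y ⊔ V, y * j * e = e * (y * j) := Cx.comm_mul' hyE hj
  have h4 : JY M Y (y * j) := by
    rw [← hjy]
    exact C.jyY hJ hy
  obtain ⟨-, h5, -⟩ := C.one h2 h1 h3 h4
  have h6 : L.φ (y * j) = σ * L.φ j := by rw [L.mul _ _ (C.eN (C.yE hy)) hjN, hyσ]
  rcases hor with h | h
  · apply h5
    rw [h6, h]
    exact isV_sq hσ
  · refine no_s C hl hP h2 h1 h3 h4 ?_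
    rw [h6, h, ← mul_assoc, isV_sq hσ, one_mul]

/-- **(RK)** -/
theorem rk_of (hP : A7.Pump7 G) {y : G} (hy : y ∈ Y) (hy1 : y ≠ 1) {N : Subgroup G}
    (hN : IsComp (centralizer ({y} : Set G)) N) (hM : M ≤ N) {r : G} (rr : r * r = 1) (hrt : r * t = t * r)
    (hrY : ∀ z ∈ Y, r * z = z * r) (hrN : Fixes r N) : r ∈ Y := by
  obtain ⟨-, -, ⟨t', ht', hφt'⟩, -⟩ := cx_alpha C hl hP
  have htt := C.psq t C.tV
  have htt' := C.psq t' ht'
  have ht1' : t' ≠ 1 := by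
    rintro rfl
    rw [L.one] at hφt'
    exact absurd hφt' (by decide)
  have hcomm : t * t' = t' * t := L2Inner.comm_of_sq C.psq C.tV ht'
  have htN : t ∈ N := hM (C.pm C.tV)
  have htN' : t' ∈ N := hM (C.pm ht')
  -- `D = C_{O(N)}(Y ⟨t⟩)`
  obtain ⟨D, hD⟩ : ∃ D, D = core N ⊓ centralizer ((Y : Set G) ∪ {t}) := ⟨_, rfl⟩
  have hDodd : Odd (Nat.card D) :=
    Odd.of_dvd_nat (odd_card_core N) (Subgroup.card_dvd_of_le (hD ▸ inf_le_left))
  have hmD : ∀ {d : G}, d ∈ D ↔ d ∈ core N ∧ (∀ z ∈ Y, d * z = z * d) ∧ d * t = t * d := by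
    intro d
    rw [hD, mem_inf, mem_centralizer_iff]
    constructor
    · rintro ⟨h1, h2⟩
      exact ⟨h1, fun z hz => (h2 z (Or.inl hz)).symm, (h2 t (Or.inr rfl)).symm⟩
    · rintro ⟨h1, h2, h3⟩
      refine ⟨h1, ?_⟩
      rintro z (hz | hz)
      · exact (h2 z hz).symm
      · rw [hz]; exact h3.symm
  have hri := inv_eq_of_mul_eq_one_left rr
  have hti' := inv_eq_of_mul_eq_one_left htt'
  have hrD : r ∈ normalizer (D : Set G) := by
    rw [mem_normalizer_iff_cj]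
    have key : ∀ d ∈ D, r * d * r⁻¹ ∈ D := by
      intro d hd
      obtain ⟨h1, h2, h3⟩ := hmD.mp hd
      refine hmD.mpr ⟨conj_mem_core hrN.1 h1, fun z hz => ?_, ?_⟩
      · have c1 : Commute r z := hrY z hz
        have c2 : Commute d z := h2 z hz
        exact ((c1.mul_left c2).mul_left c1.inv_left)
      · have c1 : Commute r t := hrt
        have c2 : Commute d t := h3
        exact ((c1.mul_left c2).mul_left c1.inv_left)
    apply le_antisymm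
    · intro d hd
      rw [mem_cj] at hd
      have := key _ hd
      have e : r * (r⁻¹ * d * r) * r⁻¹ = d := by group
      rwa [e] at this
    · intro d hd
      rw [mem_cj]
      have := key d hd
      rwa [hri] at this ⊢
  have h1 : t'⁻¹ * (r * t' * r⁻¹) ∈ D := by
    refine hmD.mpr ⟨?_, fun z hz => ?_, ?_⟩
    · have h2 := hrN.2 t' htN'
      have h3 : t'⁻¹ * (r * t' * r⁻¹) = t'⁻¹ * ⁅r, t'⁆ * t'⁻¹⁻¹ := by
        rw [commutatorElement_def]; group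
      rw [h3]
      exact conj_mem_core (le_normalizer (inv_mem htN')) h2
    · have c1 : Commute r z := hrY z hz
      have c2 : Commute t' z := (C.yp hz ht').symm
      exact c2.inv_left.mul_left ((c1.mul_left c2).mul_left c1.inv_left)
    · have c1 : Commute r t := hrt
      have c2 : Commute t' t := hcomm.symm
      exact c2.inv_left.mul_left ((c1.mul_left c2).mul_left c1.inv_left)
  obtain ⟨o, ho, hro⟩ := Intrinsic.Lifting.exists_commute hDodd (n := 1) (by rw [pow_one, pow_two, rr]) hrD h1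
  -- the involution of `⟨t' o⟩`
  have hti : ∀ d ∈ D, t' * d * t'⁻¹ ∈ D := by
    intro d hd
    obtain ⟨h2, h3, h4⟩ := hmD.mp hd
    refine hmD.mpr ⟨conj_mem_core (le_normalizer htN') h2, fun z hz => ?_, ?_⟩
    · have c1 : Commute t' z := (C.yp hz ht').symm
      have c2 : Commute d z := h3 z hz
      exact ((c1.mul_left c2).mul_left c1.inv_left)
    · have c1 : Commute t' t := hcomm.symm
      have c2 : Commute d t := h4
      exact ((c1.mul_left c2).mul_left c1.inv_left)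
  have h2 : (t' * o) ^ 2 ^ 1 ∈ D := by
    have e : (t' * o) ^ 2 ^ 1 = (t' * o * t'⁻¹) * o := by
      rw [pow_one, pow_two, hti']; group
    rw [e]
    exact mul_mem (hti o ho) ho
  obtain ⟨n, hn1, hn2⟩ := Intrinsic.Lifting.exists_two_part hDodd h2
  obtain ⟨w', hw'⟩ : ∃ w', w' = (t' * o) ^ n := ⟨_, rfl⟩
  rw [← hw'] at hn1 hn2
  rw [pow_one, pow_two] at hn1
  have hrw : r * w' = w' * r := by
    rw [hw']
    exact (Commute.pow_right (show Commute r (t' * o) from hro) n).eq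
  have hmem : t' * w' ∈ D := by
    have e : t' * w' = o * ((t' * o)⁻¹ * w') := by
      rw [mul_inv_rev, hti']; group
    rw [e]
    exact mul_mem ho hn2
  obtain ⟨δ, hδ, hδt⟩ := SL.conj_of_coset hDodd htt' hn1 hmem
  obtain ⟨hδ1, hδ2, hδ3⟩ := hmD.mp hδ
  have hδN := core_le N hδ1
  obtain ⟨j, hj⟩ : ∃ j, j = δ⁻¹ * r * δ := ⟨_, rfl⟩
  have jj : j * j = 1 := by
    rw [hj]
    calc δ⁻¹ * r * δ * (δ⁻¹ * r * δ) = δ⁻¹ * (r * r) * δ := by group
      _ = 1 := by rw [rr]; group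
  have hjY : ∀ z ∈ Y, j * z = z * j := by
    intro z hz
    have c1 : Commute r z := hrY z hz
    have c2 : Commute δ z := hδ2 z hz
    rw [hj]
    exact ((c2.inv_left.mul_left c1).mul_left c2)
  have hjt : j * t = t * j := by
    have c1 : Commute r t := hrt
    have c2 : Commute δ t := hδ3
    rw [hj]
    exact ((c2.inv_left.mul_left c1).mul_left c2)
  have hjt' : j * t' = t' * j := by
    have e : t' = δ⁻¹ * w' * δ := by rw [← hδt]; group
    rw [hj, e]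
    calc δ⁻¹ * r * δ * (δ⁻¹ * w' * δ) = δ⁻¹ * (r * w') * δ := by group
      _ = δ⁻¹ * (w' * r) * δ := by rw [hrw]
      _ = δ⁻¹ * w' * δ * (δ⁻¹ * r * δ) := by group
  have hne : t ≠ t' := by
    rintro rfl
    have h5 := (cx_alpha C hl hP).2.1
    rw [← h5, C.φw] at hφt'
    exact absurd hφt' (by decide)
  have hjE : ∀ e ∈ Y ⊔ V, j * e = e * j := by
    have hle : Y ⊔ V ≤ centralizer ({j} : Set G) := by
      refine sup_le (fun z hz => mem_c (hjY z hz).symm) fun v hv => mem_c ?_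
      have hF : Four V := ⟨C.pcard, C.psq⟩
      rcases hF.mem_cases C.tV ht' C.t1 ht1' hne.symm hv with rfl | rfl | rfl | rfl
      · rw [one_mul, mul_one]
      · exact hjt.symm
      · exact hjt'.symm
      · rw [mul_assoc, ← hjt', ← mul_assoc, ← hjt, mul_assoc]
    exact fun e he => (comm_c (hle he)).symm
  have hjN : Fixes j N := by
    have h3 := hrN.cj δ⁻¹
    have e : δ⁻¹ * r * δ⁻¹⁻¹ = j := by rw [inv_inv, hj]
    rw [e, mem_normalizer_iff_cj.mp (le_normalizer (inv_mem hδN))] at h3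
    exact h3
  have hjJ : JY M Y j := C.toSit.jy_of hjY hy hy1 hN hM hjN
  have h3 := mem_Y C hl hP jj hjE hjJ
  have h4 : r = j := by
    have c2 : δ * j = j * δ := hδ2 j h3
    calc r = δ * (δ⁻¹ * r * δ) * δ⁻¹ := by group
      _ = δ * j * δ⁻¹ := by rw [hj]
      _ = j := by rw [c2, mul_inv_cancel_right]
  rw [h4]
  exact h3

/-- **(1)-(5)** of bb #12930 -/
theorem exists_out (hP : A7.Pump7 G) (hM : L2T M) : ∃ t', Out M Y t t' K L ∧
    ∃ y ∈ Y, y ≠ 1 ∧ ∃ x', (x' = y ∨ x' = y * t) ∧ IsTriple x' t K := by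
  obtain ⟨hV, hwt, ⟨t', ht', hφt'⟩, hYK⟩ := cx_alpha C hl hP
  subst hwt
  have ht1' : t' ≠ 1 := by
    rintro rfl
    rw [L.one] at hφt'
    exact absurd hφt' (by decide)
  have hne : w ≠ t' := by
    rintro rfl
    rw [C.φw] at hφt'
    exact absurd hφt' (by decide)
  have hF : Four V := ⟨C.pcard, C.psq⟩
  refine ⟨t', ⟨C.ysq, C.ycard, C.ym, ?_, C.pm C.tV, C.pm ht', C.psq _ C.tV, C.psq t' ht', C.t1, ht1', hne,
    L2Inner.comm_of_sq C.psq C.tV ht', cyc_of_l2 hM hF C.pm C.tV ht' C.t1 ht1' hne, C.compK,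
    fun y hy => Or.inl (hYK hy), hV, C.bad.y1, hφt', ?_⟩, ?_⟩
  · intro y hy hy1
    obtain ⟨N, hN, h1, h2, -⟩ := C.toFr.comp y hy hy1
    exact ⟨N, hN, h1, h2, hl y hy hy1 N hN h1⟩
  · intro y hy hy1 N hN hMN r rr hrt hrY hrN
    exact rk_of C hl hP hy hy1 hN hMN rr hrt hrY hrN
  · obtain ⟨y, hy, v, hv, hx⟩ := C.toFr.mem_E.mp C.bad.xE
    have hφx : L.φ x = L.φ y * L.φ v := by rw [hx, L.mul _ _ (C.eN (C.yE hy)) (C.eN (C.vE hv))]
    have hφv : IsV (L.φ v) := by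
      have h1 : L.φ v = L.φ y * L.φ x := by rw [hφx, ← mul_assoc, isV_sq (hV y hy), one_mul]
      rw [h1]
      exact isV_mul (hV y hy) C.bad.xV
    have hv' : v = 1 ∨ v = w := by
      rcases hF.mem_cases C.tV ht' C.t1 ht1' hne.symm hv with rfl | rfl | rfl | rfl
      · exact Or.inl rfl
      · exact Or.inr rfl
      · exfalso
        rw [hφt'] at hφv
        exact absurd hφv (by unfold IsV; decide)
      · exfalso
        rw [L.mul _ _ (C.eN (C.vE C.tV)) (C.eN (C.vE ht')), C.φw, hφt', one_mul] at hφv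
        exact absurd hφv (by unfold IsV; decide)
    have hxN : x ∈ normalizer (K : Set G) := C.eN C.bad.xE
    refine ⟨y, hy, ?_, x, ?_, C.bad.tri⟩
    · rintro rfl
      apply C.bad.tri.not_fixes
      rw [← L.fixes_iff hxN, hφx, L.one, one_mul]
      rcases hv' with rfl | rfl
      · exact L.one
      · exact C.φw
    · rcases hv' with rfl | rfl
      · left; rw [hx, mul_one]
      · right; exact hx

end cx

/-- **There is no bad configuration.** -/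
theorem thmBad : ThmBad.{u} := by
  intro G _ _ hr hT M0 l k M Q h hM0 Y hY hYQ hk V hVM hV2 hV4 w x K L B
  have hF : Four V := ⟨hV4, hV2⟩
  have hP : A7.Pump7 G := by
    intro x a c L M T hc hca hcx hcL
    exact A7.PumpSeven.pump7 hT M T hc hca hcx hcL
  obtain ⟨t, ht, -, -, ht1, -, -⟩ := exists_gens hF.card
  have S := h.sit h.l2T hT hM0 hY hYQ hk hF hVM ht ht1
  obtain ⟨c, t, C⟩ := exists_cx S B
  have hl : ∀ y ∈ Y, y ≠ 1 → ∀ N, IsComp (centralizer ({y} : Set G)) N → M ≤ N → L2T N := by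
    intro y hy hy1 N hN hMN
    obtain ⟨N', h1, h2, h3, h4⟩ := h.exists_comp (hYQ hy) (hY.elem y hy) hy1
    obtain rfl := h.unique hN h1 hMN h2
    exact h4
  obtain ⟨t', hO, tri⟩ := exists_out C hl hP h.l2T
  exact hr (hO.rank_of hP h.exists_rep tri)

/-- **N5.** -/
theorem nodeL2i (h1173 : SL.P1173.{u})
    (FT : ∀ (G : Type u) [Group G] [Finite G] (Y : Subgroup G), Odd (Nat.card Y) → Group.IsSolvable Y)
    (h5 : Rank5.{u}) : Nodes.NodeL2i.{u} := nodeL2i_of' h1173 FT h5 thmBad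

end Cfsg.Agent.UGT.L2i
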