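import Cfsg.Agent.UGT.L2i.ClsRel
import Cfsg.Agent.UGT.TT.Conj

/-!
# The classes of `N₀` (bb #11765, P4): the side

`Cls.side`: `H`, `W = O(H)`, `F N = N O(H)` for `N` in the class of `N₀`; `side_ok`, `ind_iff`, `t2`.
-/

set_option autoImplicit false

open Cfsg Subgroup
open Cfsg.Agent.SignalizersComponents Cfsg.Agent.Lib
open Cfsg.Agent.SignalizersComponents.IntrinsicBasic
open Cfsg.Agent.SignalizersComponents.IntrinsicIntr
open Cfsg.Agent.SignalizersComponents.PLayerAut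
open Cfsg.Agent.Intrinsic.Basic Cfsg.Agent.Intrinsic.Cen Cfsg.Agent.Intrinsic.Diag
open Cfsg.Agent.McLLyComp.Act
open Cfsg.Agent.UGT.TMCBase
open Cfsg.Agent.UGT.L2i.ClsCov Cfsg.Agent.UGT.L2i.ClsRel
open scoped commutatorElement

namespace Cfsg.Agent.UGT.L2i.ClsSide

universe u v

variable {G : Type u} [Group G] {Q : Type v} [Group Q]

/-- The map `N O(H) → Q` coming from an isomorphism `N / O(N) ≅ Q`, `N` a 2-component of `H`. -/
theorem exists_pi [Finite G] {H N : Subgroup G} (h : IsComp H N) (e : (↥N ⧸ oddCore ↥N) ≃* Q) :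
    ∃ π : G → Q, (∀ x ∈ N ⊔ core H, ∀ y ∈ N ⊔ core H, π (x * y) = π x * π y) ∧
      (∀ q : Q, ∃ x ∈ N ⊔ core H, π x = q) ∧ (∀ x ∈ N ⊔ core H, π x = 1 ↔ x ∈ core H) ∧
      ∀ n (hn : n ∈ N), π n = e (QuotientGroup.mk ⟨n, hn⟩) := by
  classical
  obtain ⟨F, hF⟩ : ∃ F, F = N ⊔ core H := ⟨_, rfl⟩
  have hFH : F ≤ H := hF ▸ sup_le h.le (core_le H)
  have hNF : N ≤ F := hF ▸ le_sup_left
  -- `f : N → H / O(H)`
  let f : ↥N →* (↥H ⧸ oddCore ↥H) := (QuotientGroup.mk' (oddCore ↥H)).comp (inclusion h.le)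
  have hker : oddCore ↥N = f.ker := by
    ext ⟨n, hn⟩
    rw [MonoidHom.mem_ker]
    have h1 : f ⟨n, hn⟩ = ((⟨n, h.le hn⟩ : ↥H) : ↥H ⧸ oddCore ↥H) := rfl
    rw [h1, QuotientGroup.eq_one_iff, ← mem_core_iff, ← mem_core_iff, h.core_eq, mem_inf]
    exact ⟨fun h2 => h2.2, fun h2 => ⟨hn, h2⟩⟩
  let e1 : (↥N ⧸ oddCore ↥N) ≃* f.range :=
    (QuotientGroup.quotientMulEquivOfEq hker).trans (QuotientGroup.quotientKerEquivRange f)
  have he1 : ∀ (n : G) (hn : n ∈ N), ((e1 (QuotientGroup.mk ⟨n, hn⟩) : f.range) : ↥H ⧸ oddCore ↥H) =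
      ((⟨n, h.le hn⟩ : ↥H) : ↥H ⧸ oddCore ↥H) := fun n hn => rfl
  have hmem : ∀ x : ↥F, (QuotientGroup.mk' (oddCore ↥H)).comp (inclusion hFH) x ∈ f.range := by
    rintro ⟨x, hx⟩
    have hx' := hx
    rw [hF, sup_comm] at hx'
    obtain ⟨c, hc, n, hn, rfl⟩ := SL.exists_mul_of_mem_sup
      (fun b hb a ha => conj_mem_core (le_normalizer (h.le hb)) ha) hx'
    refine ⟨⟨n, hn⟩, ?_⟩
    change ((⟨n, h.le hn⟩ : ↥H) : ↥H ⧸ oddCore ↥H) = ((⟨c * n, hFH hx⟩ : ↥H) : ↥H ⧸ oddCore ↥H)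
    rw [QuotientGroup.eq]
    have h2 : n⁻¹ * (c * n) ∈ core H := by
      have h3 : n⁻¹ * (c * n) = n⁻¹ * c * n⁻¹⁻¹ := by group
      rw [h3]; exact conj_mem_core (le_normalizer (H.inv_mem (h.le hn))) hc
    exact (mem_core_iff _).mp h2
  let g : ↥F →* f.range := ((QuotientGroup.mk' (oddCore ↥H)).comp (inclusion hFH)).codRestrict f.range hmem
  have hg : ∀ (x : G) (hx : x ∈ F), ((g ⟨x, hx⟩ : f.range) : ↥H ⧸ oddCore ↥H) =
      ((⟨x, hFH hx⟩ : ↥H) : ↥H ⧸ oddCore ↥H) := fun x hx => rfl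
  let p : ↥F →* Q := (e.toMonoidHom.comp e1.symm.toMonoidHom).comp g
  have hp : ∀ x : ↥F, p x = e (e1.symm (g x)) := fun x => rfl
  have hpN : ∀ n (hn : n ∈ N), p ⟨n, hNF hn⟩ = e (QuotientGroup.mk ⟨n, hn⟩) := by
    intro n hn
    rw [hp]
    congr 1
    rw [MulEquiv.symm_apply_eq]
    exact Subtype.ext (by rw [hg, he1])
  refine ⟨fun x => if hx : x ∈ F then p ⟨x, hx⟩ else 1, ?_, ?_, ?_, ?_⟩
  · rw [← hF]
    intro x hx y hy
    simp only [dif_pos hx, dif_pos hy, dif_pos (F.mul_mem hx hy)]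
    rw [← map_mul]
    rfl
  · rw [← hF]
    intro q
    obtain ⟨⟨n, hn⟩, hnq⟩ := QuotientGroup.mk_surjective (e.symm q)
    refine ⟨n, hNF hn, ?_⟩
    simp only [dif_pos (hNF hn)]
    rw [hpN n hn, hnq, MulEquiv.apply_symm_apply]
  · rw [← hF]
    intro x hx
    simp only [dif_pos hx]
    rw [hp, map_eq_one_iff e e.injective, map_eq_one_iff e1.symm e1.symm.injective]
    constructor
    · intro h1
      have h2 : ((g ⟨x, hx⟩ : f.range) : ↥H ⧸ oddCore ↥H) = 1 := by rw [h1]; rfl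
      rw [hg, QuotientGroup.eq_one_iff] at h2
      exact (mem_core_iff _).mpr h2
    · intro h1
      refine Subtype.ext ?_
      rw [hg]
      exact (QuotientGroup.eq_one_iff _).mpr ((mem_core_iff _).mp h1)
  · intro n hn
    simp only [dif_pos (hNF hn)]
    exact hpN n hn

theorem exists_equiv {N0 N : Subgroup G} (e : (↥N0 ⧸ oddCore ↥N0) ≃* Q) (h : N ∈ Cj N0) :
    Nonempty ((↥N ⧸ oddCore ↥N) ≃* Q) := by
  obtain ⟨g, rfl⟩ := h
  exact ⟨(cjQuot g N0).symm.trans e⟩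

variable [Finite G] {N0 : Subgroup G}

/-- the side of the class of `N₀` -/
noncomputable def side (C : Cls N0) (e : (↥N0 ⧸ oddCore ↥N0) ≃* Q) :
    TT.Side G Q ↥((Cls.sys C).cls (self_mem_Cj N0)) where
  H := (Cls.sys C).H (self_mem_Cj N0)
  W := core ((Cls.sys C).H (self_mem_Cj N0))
  F N := N.1 ⊔ core ((Cls.sys C).H (self_mem_Cj N0))
  π N := (exists_pi ((Cls.sys C).isComp_H (self_mem_Cj N0) N.2)
    (Classical.choice (exists_equiv e N.2.1))).choose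

theorem side_ok (C : Cls N0) (e : (↥N0 ⧸ oddCore ↥N0) ≃* Q) : (side C e).Ok where
  WF _ := le_sup_right
  FH N := sup_le ((Cls.sys C).le_H (self_mem_Cj N0) N.2) (core_le _)
  odd := odd_card_core _
  nW h hh x hx := conj_mem_core (le_normalizer hh) hx
  map_mul N := (exists_pi ((Cls.sys C).isComp_H (self_mem_Cj N0) N.2)
    (Classical.choice (exists_equiv e N.2.1))).choose_spec.1
  surj N := (exists_pi ((Cls.sys C).isComp_H (self_mem_Cj N0) N.2)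
    (Classical.choice (exists_equiv e N.2.1))).choose_spec.2.1
  ker N := (exists_pi ((Cls.sys C).isComp_H (self_mem_Cj N0) N.2)
    (Classical.choice (exists_equiv e N.2.1))).choose_spec.2.2.1
  comm := by
    intro N N' hne x hx y hy
    have hN := (Cls.sys C).isComp_H (self_mem_Cj N0) N.2
    have hN' := (Cls.sys C).isComp_H (self_mem_Cj N0) N'.2
    have hne' : N.1 ≠ N'.1 := fun h => hne (Subtype.ext h)
    have h1 : N'.1 ⊔ core ((Cls.sys C).H (self_mem_Cj N0)) ≤ KN N.1 :=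
      sup_le (fun z hz => hN.fixes_of_mem hN' hne' hz) (fun z hz => hN.fixes_of_core hz)
    have h2 := (((Cls.sys C).fixes_iff (self_mem_Cj N0) N.2).mpr (h1 hy)).2 x hx
    have h3 := inv_mem h2
    have h4 : (y * x * y⁻¹ * x⁻¹)⁻¹ = x * y * x⁻¹ * y⁻¹ := by group
    rwa [h4] at h3
  perm := by
    intro h hh N
    refine ⟨⟨cj h N.1, (Cls.sys C).cj_mem_cls (self_mem_Cj N0) N.2 hh⟩, fun x hx => ?_⟩
    change h * x * h⁻¹ ∈ cj h N.1 ⊔ core ((Cls.sys C).H (self_mem_Cj N0))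
    have hN := (Cls.sys C).isComp_H (self_mem_Cj N0) N.2
    change x ∈ N.1 ⊔ core ((Cls.sys C).H (self_mem_Cj N0)) at hx
    rw [sup_comm] at hx
    obtain ⟨c, hc, n, hn, rfl⟩ := SL.exists_mul_of_mem_sup
      (fun b hb a ha => conj_mem_core (le_normalizer (hN.le hb)) ha) hx
    have h1 : h * (c * n) * h⁻¹ = (h * c * h⁻¹) * (h * n * h⁻¹) := by group
    rw [h1]
    exact mul_mem (mem_sup_right (conj_mem_core (le_normalizer hh) hc)) (mem_sup_left (conj_mem_cj hn))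
  t1 := by
    intro N y hy hc hyy hy1 c hcy
    have hf := ((Cls.sys C).fixes_iff (self_mem_Cj N0) N.2).mp ⟨hy, hc⟩
    exact (Cls.sys C).t1 (self_mem_Cj N0) N.2 (order_of_sq hyy hy1) hf hcy

theorem ind_iff (C : Cls N0) (e : (↥N0 ⧸ oddCore ↥N0) ≃* Q) (N : ↥((Cls.sys C).cls (self_mem_Cj N0))) {y : G} :
    (side C e).Ind N y 1 ↔ Fixes y N.1 := by
  rw [(side_ok C e).ind_one_iff]
  exact (Cls.sys C).fixes_iff (self_mem_Cj N0) N.2

/-- **(T2)** in the form of `TT.noAdj_conj` -/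
theorem side_t2 (C : Cls N0) (e : (↥N0 ⧸ oddCore ↥N0) ≃* Q) (g : G) (i j : ↥((Cls.sys C).cls (self_mem_Cj N0))) (y : G)
    (h1 : (side C e).Ind i y 1) (h2 : (side C e).Ind j (g⁻¹ * y * g) 1) (hyy : y * y = 1) (hy1 : y ≠ 1) :
    g ∈ (side C e).H := by
  rw [ind_iff] at h1 h2
  have h3 := h2.cj g
  rw [show g * (g⁻¹ * y * g) * g⁻¹ = y by group] at h3
  exact (Cls.sys C).t2 (self_mem_Cj N0) i.2 j.2 (order_of_sq hyy hy1) h1 h3

omit [Finite G] in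
/-- a four-group acting trivially on `N / O(N)` -/
theorem four_of_Cj (C : Cls N0) {N : Subgroup G} (hN : N ∈ Cj N0) :
    ∃ a b : G, Fixes a N ∧ Fixes b N ∧ a * a = 1 ∧ b * b = 1 ∧ a * b = b * a ∧ a ≠ 1 ∧ b ≠ 1 ∧ a ≠ b := by
  obtain ⟨g, rfl⟩ := hN
  obtain ⟨a, b, ha, hb, aa, bb, ab, a1, b1, hne⟩ := C.four
  have hinj : ∀ x y : G, g * x * g⁻¹ = g * y * g⁻¹ → x = y := fun x y h => (MulAut.conj g).injective h
  have hmul : ∀ x y : G, g * x * g⁻¹ * (g * y * g⁻¹) = g * (x * y) * g⁻¹ := fun x y => by group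
  have h1 : g * 1 * g⁻¹ = (1 : G) := by group
  refine ⟨g * a * g⁻¹, g * b * g⁻¹, ha.cj g, hb.cj g, ?_, ?_, ?_, ?_, ?_, ?_⟩
  · rw [hmul, aa, h1]
  · rw [hmul, bb, h1]
  · rw [hmul, hmul, ab]
  · intro h; exact a1 (hinj a 1 (by rw [h, h1]))
  · intro h; exact b1 (hinj b 1 (by rw [h, h1]))
  · intro h; exact hne (hinj a b h)

theorem side_t4 (C : Cls N0) (e : (↥N0 ⧸ oddCore ↥N0) ≃* Q) (i : ↥((Cls.sys C).cls (self_mem_Cj N0))) :
    ∃ a b, (side C e).Ind i a 1 ∧ (side C e).Ind i b 1 ∧ a * a = 1 ∧ b * b = 1 ∧ a * b = b * a ∧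
      a ≠ 1 ∧ b ≠ 1 ∧ a ≠ b := by
  obtain ⟨a, b, ha, hb, h⟩ := four_of_Cj C i.2.1
  exact ⟨a, b, (ind_iff C e i).mpr ha, (ind_iff C e i).mpr hb, h⟩

end Cfsg.Agent.UGT.L2i.ClsSide
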