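import Cfsg.Agent.UGT.L2i.ClsCov

/-!
# The classes of `N₀` (bb #11765, P4): the equivalence relation

`𝒩` is the set of conjugates of `N₀`.  (E'): if an involution acts trivially on `N₁ / O(N₁)` and on `N₂ / O(N₂)`,
`N₁ ≠ N₂` in `𝒩`, then `N₁ ≤ KN N₂` and `N₂ ≤ KN N₁`.  Hence "equal or mutually acting trivially" is an equivalence
relation on `𝒩`.
-/

set_option autoImplicit false

open Cfsg Subgroup
open Cfsg.Agent.SignalizersComponents Cfsg.Agent.Lib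
open Cfsg.Agent.SignalizersComponents.IntrinsicBasic
open Cfsg.Agent.SignalizersComponents.IntrinsicIntr
open Cfsg.Agent.SignalizersComponents.PLayerAut
open Cfsg.Agent.Intrinsic.Basic Cfsg.Agent.Intrinsic.Cen Cfsg.Agent.Intrinsic.Diag
open Cfsg.Agent.McLLyComp.Act
open Cfsg.Agent.UGT.TMCBase
open Cfsg.Agent.UGT.L2i.ClsCov
open scoped commutatorElement

namespace Cfsg.Agent.UGT.L2i.ClsRel

universe u

variable {G : Type u} [Group G]

/-- What is needed of the set of conjugates of `N₀`. -/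
structure Sys (𝒩 : Set (Subgroup G)) : Prop where
  conj : ∀ N ∈ 𝒩, ∀ g : G, cj g N ∈ 𝒩
  comp : ∀ N ∈ 𝒩, IsComp N N
  z : ∀ N ∈ 𝒩, ∀ u ∈ N, Fixes u N → u ∈ core N
  ex : ∀ N ∈ 𝒩, ∀ y : G, Fixes y N → orderOf y = 2 → ∃ L, At y L N
  nrm : ∀ N ∈ 𝒩, ∀ (y : G) (L : Subgroup G), Fixes y N → orderOf y = 2 → At y L N →
    ∀ g : G, g * y = y * g → g ∈ normalizer (L : Set G) → g ∈ normalizer (N : Set G)
  uniq : ∀ N ∈ 𝒩, ∀ N' ∈ 𝒩, ∀ (y : G) (L : Subgroup G), orderOf y = 2 → Fixes y N → Fixes y N' →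
    At y L N → At y L N' → N' = N

/-- equal or acting trivially on each other -/
def Rel (N N' : Subgroup G) : Prop := N = N' ∨ (N ≤ KN N' ∧ N' ≤ KN N)

theorem Rel.refl (N : Subgroup G) : Rel N N := Or.inl rfl

theorem Rel.symm {N N' : Subgroup G} (h : Rel N N') : Rel N' N := by
  rcases h with h | h
  · exact Or.inl h.symm
  · exact Or.inr ⟨h.2, h.1⟩

theorem Rel.cj {N N' : Subgroup G} (h : Rel N N') (g : G) : Rel (cj g N) (cj g N') := by
  rcases h with h | h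
  · exact Or.inl (by rw [h])
  · right
    rw [← cj_KN, ← cj_KN]
    exact ⟨Subgroup.map_mono h.1, Subgroup.map_mono h.2⟩

theorem Rel.le_normalizer {N N' : Subgroup G} (h : Rel N N') : N ≤ normalizer (N' : Set G) := by
  rcases h with h | h
  · rw [h]; exact Subgroup.le_normalizer
  · exact h.1.trans (KN_le N')

theorem sq_of_order {y : G} (hy : orderOf y = 2) : y * y = 1 := by
  rw [← pow_two, ← hy, pow_orderOf_eq_one]

theorem order_of_sq {y : G} (h : y * y = 1) (h1 : y ≠ 1) : orderOf y = 2 :=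
  orderOf_eq_prime (by rw [pow_two, h]) h1

variable [Finite G]

/-! ### four-groups in covering subgroups -/

/-- a 2-component of itself containing no central involution contains a four-group -/
theorem exists_four {J : Subgroup G} (hJ : IsComp J J) (hz : ∀ u ∈ J, u * u = 1 → Fixes u J → u = 1) :
    ∃ v ∈ J, ∃ w ∈ J, v * v = 1 ∧ w * w = 1 ∧ v * w = w * v ∧ v ≠ 1 ∧ w ≠ 1 ∧ v ≠ w := by
  have h2 : Fact (Nat.Prime 2) := ⟨Nat.prime_two⟩
  obtain ⟨u, hu⟩ := exists_prime_orderOf_dvd_card' (G := ↥J) 2 hJ.even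
  have huu : (u : G) * u = 1 := by
    have h3 := sq_of_order hu
    exact congrArg Subtype.val h3
  have hu1 : (u : G) ≠ 1 := by
    intro h
    have h3 : u = 1 := Subtype.ext h
    rw [h3, orderOf_one] at hu
    omega
  rcases SL.zstar_sub u.2 huu hu1 with ⟨h, hh, hne, hcomm⟩ | ⟨N, hNJ, hodd, hn, hc⟩
  · refine ⟨u, u.2, h * u * h⁻¹, J.mul_mem (J.mul_mem hh u.2) (J.inv_mem hh), huu, ?_, hcomm, hu1, ?_,
      Ne.symm hne⟩
    · calc h * (u : G) * h⁻¹ * (h * u * h⁻¹) = h * ((u : G) * u) * h⁻¹ := by group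
        _ = 1 := by rw [huu]; group
    · intro h3
      apply hu1
      calc (u : G) = h⁻¹ * (h * u * h⁻¹) * h := by group
        _ = 1 := by rw [h3]; group
  · exfalso
    apply hu1
    refine hz u u.2 huu ⟨Subgroup.le_normalizer u.2, fun x hx => ?_⟩
    have h3 : N ≤ core J := by
      refine le_core hNJ ?_ hodd
      intro x hx
      rw [Subgroup.mem_normalizer_iff]
      intro n
      refine ⟨hn x hx n, fun h => ?_⟩
      have h4 := hn x⁻¹ (J.inv_mem hx) _ h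
      have h5 : x⁻¹ * (x * n * x⁻¹) * x⁻¹⁻¹ = n := by group
      rwa [h5] at h4
    exact h3 (hc x hx)

/-- two successive centralizers of commuting involutions -/
theorem cen_two {J : Subgroup G} (hJ : IsComp J J) {v w : G} (vv : v * v = 1) (ww : w * w = 1)
    (vw : v * w = w * v) (hv : Fixes v J) (hw : Fixes w J) :
    IsComp (cen (cen J v) w) (cen (cen J v) w) ∧ cen (cen J v) w ⊔ core J = J ∧
      cen (cen J v) w ≤ centralizer ({v} : Set G) ∧ cen (cen J v) w ≤ centralizer ({w} : Set G) := by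
  have h1 : IsComp (normalizer (J : Set G)) J :=
    hJ.extend le_normalizer (by
      have : (J.subgroupOf (normalizer (J : Set G))).Normal := normal_subgroupOf_of_le_normalizer le_rfl
      exact this.isSubnormal)
  obtain ⟨h2, h3⟩ := isComp_cen h1 hv.1 vv hv
  have hwn : w ∈ normalizer (cen J v : Set G) := mem_normalizer_cen hw.1 vw.symm
  have hwJ : Fixes w (cen J v) := (fixes_iff_of_sup h3 hwn hw.1).mpr hw
  obtain ⟨h4, h5⟩ := isComp_cen h2 ⟨hw.1, mem_c vw.symm⟩ ww hwJ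
  refine ⟨h4.restrict ?_ le_rfl, sup_trans h5 h3, ?_, cen_le_centralizer _ _⟩
  · exact le_inf (((cen_le _ _).trans (cen_le _ _)).trans le_normalizer |> fun h =>
      le_inf h (((cen_le _ _).trans (cen_le_centralizer _ _)))) (cen_le_centralizer _ _)
  · exact (cen_le _ _).trans (cen_le_centralizer _ _)

/-! ### (E') -/

section sys

variable {𝒩 : Set (Subgroup G)}

theorem Sys.four_of_cover (S : Sys 𝒩) {N J : Subgroup G} (hN : N ∈ 𝒩) (hJ : IsComp J J)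
    (hs : J ⊔ core N = N) :
    ∃ v ∈ J, ∃ w ∈ J, v * v = 1 ∧ w * w = 1 ∧ v * w = w * v ∧ v ≠ 1 ∧ w ≠ 1 ∧ v ≠ w := by
  refine exists_four hJ fun u hu huu hf => ?_
  have hJN : J ≤ N := by rw [← hs]; exact le_sup_left
  have h1 : Fixes u N := (fixes_iff_of_sup hs hf.1 (le_normalizer (hJN hu))).mp hf
  exact eq_one_of_mem_core_sq (S.z N hN u (hJN hu) h1) huu

theorem Sys.comp_le_KN (S : Sys 𝒩) {N1 N2 L1 L2 : Subgroup G} (h1 : N1 ∈ 𝒩) (h2 : N2 ∈ 𝒩)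
    (hne : N1 ≠ N2) {y : G} (hy : orderOf y = 2) (hy1 : Fixes y N1) (hy2 : Fixes y N2)
    (a1 : At y L1 N1) (a2 : At y L2 N2) : L2 ≤ KN N1 := by
  have hL : L1 ≠ L2 := by
    rintro rfl
    exact hne (S.uniq N2 h2 N1 h1 y _ hy hy2 hy1 a2 a1)
  intro p hp
  have hf : Fixes p L1 := a1.comp.fixes_of_mem a2.comp hL hp
  have hpN := S.nrm N1 h1 y L1 hy1 hy a1 p (comm_c (a2.comp.le hp)) hf.1
  exact (At.fixes_iff (S.comp N1 h1) a1 hpN hf.1).mpr hf

/-- **(E')**, one half. -/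
theorem Sys.le_KN (S : Sys 𝒩) {N1 N2 : Subgroup G} (h1 : N1 ∈ 𝒩) (h2 : N2 ∈ 𝒩)
    (hne : N1 ≠ N2) {y : G} (hy : orderOf y = 2) (hy1 : Fixes y N1) (hy2 : Fixes y N2) : N2 ≤ KN N1 := by
  obtain ⟨L1, a1⟩ := S.ex N1 h1 y hy1 hy
  obtain ⟨L2, a2⟩ := S.ex N2 h2 y hy2 hy
  have s1 : L2 ≤ KN N1 := S.comp_le_KN h1 h2 hne hy hy1 hy2 a1 a2
  have s2 : L1 ≤ KN N2 := S.comp_le_KN h2 h1 hne.symm hy hy2 hy1 a2 a1
  obtain ⟨c1, c1N, c1L⟩ := At.cov_spec (S.comp N1 h1) a1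
  obtain ⟨c2, c2N, c2L⟩ := At.cov_spec (S.comp N2 h2) a2
  obtain ⟨v, hv, w, hw, vv, ww, vw, v1, w1, hvw⟩ := S.four_of_cover h2 c2 c2N
  have hne12 : L1 ≠ L2 := by
    rintro rfl
    exact hne (S.uniq N2 h2 N1 h1 y _ hy hy2 hy1 a2 a1)
  -- elements of the cover of `N2` fix the cover of `N1`
  have hfix : ∀ x ∈ cov N2 L2, Fixes x (cov N1 L1) := by
    intro x hx
    have hxL : x ∈ L2 := cov_le_right _ _ hx
    have hf : Fixes x L1 := a1.comp.fixes_of_mem a2.comp hne12 hxL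
    exact (fixes_iff_of_sup c1L (mem_normalizer_cov (s1 hxL).1 hf.1) hf.1).mpr hf
  obtain ⟨m1, m2, m3, m4⟩ := cen_two c1 vv ww vw (hfix v hv) (hfix w hw)
  obtain ⟨M, hM⟩ : ∃ M, M = cen (cen (cov N1 L1) v) w := ⟨_, rfl⟩
  rw [← hM] at m1 m2 m3 m4
  have hMN1 : M ⊔ core N1 = N1 := sup_trans m2 c1N
  have hML1 : M ≤ L1 := by
    rw [hM]; exact ((cen_le _ _).trans (cen_le _ _)).trans (cov_le_right _ _)
  have claim : ∀ a : G, orderOf a = 2 → a ∈ cov N2 L2 → M ≤ centralizer ({a} : Set G) →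
      ∀ x ∈ core N2, x * a = a * x → x ∈ KN N1 := by
    intro a ha haJ hMa x hx hxa
    have haN1 : Fixes a N1 := s1 (cov_le_right _ _ haJ)
    obtain ⟨La, A⟩ := S.ex N1 h1 a haN1 ha
    have hMLa : M ⊔ core La = La := At.sup_of_pElem (S.comp N1 h1) A hMN1 hMa m1.pElem_eq
    have hX : core N2 ⊓ centralizer ({a} : Set G) ≤ KN La := by
      refine le_KN_of_odd A.comp m1 hMLa inf_le_right
        (Odd.of_dvd_nat (odd_card_core N2) (card_dvd_of_le inf_le_left)) ?_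
      intro m hm
      have e1 : m ∈ normalizer (core N2 : Set G) :=
        normalizer_le_normalizer_core N2 (s2 (hML1 hm)).1
      have e2 : m ∈ normalizer (centralizer ({a} : Set G) : Set G) := le_normalizer (hMa hm)
      rw [mem_normalizer_iff_cj] at e1 e2 ⊢
      rw [cj_inf, e1, e2]
    have hxLa : Fixes x La := hX ⟨hx, mem_c hxa⟩
    have hxN := S.nrm N1 h1 a La haN1 ha A x hxa hxLa.1
    exact (At.fixes_iff (S.comp N1 h1) A hxN hxLa.1).mpr hxLa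
  have hvN2 : v ∈ N2 := cov_le_left _ _ hv
  have hwN2 : w ∈ N2 := cov_le_left _ _ hw
  have hM3 : M ≤ centralizer ({v * w} : Set G) := by
    intro m hm
    have e1 := comm_c (m3 hm)
    have e2 := comm_c (m4 hm)
    refine mem_c ?_
    rw [← mul_assoc, e1, mul_assoc, e2, mul_assoc]
  have hvw1 : v * w ≠ 1 := by
    intro h
    apply hvw
    calc v = v * (w * w) := by rw [ww, mul_one]
      _ = v * w * w := by group
      _ = w := by rw [h, one_mul]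
  have hvw2 : v * w * (v * w) = 1 := by
    calc v * w * (v * w) = v * (w * v) * w := by group
      _ = v * (v * w) * w := by rw [vw]
      _ = (v * v) * (w * w) := by group
      _ = 1 := by rw [vv, ww, one_mul]
  have hcore : core N2 ≤ KN N1 := by
    refine Cfsg.Agent.CoverCore.Abs.le_of_four vv ww vw v1 w1 hvw (odd_card_core N2)
      (fun x hx => conj_mem_core (le_normalizer hvN2) hx) (fun x hx => conj_mem_core (le_normalizer hwN2) hx)
      (claim v (order_of_sq vv v1) hv m3) (claim w (order_of_sq ww w1) hw m4)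
      (claim (v * w) (order_of_sq hvw2 hvw1) (mul_mem hv hw) hM3)
  conv_lhs => rw [← c2N]
  exact sup_le ((cov_le_right _ _).trans s1) hcore

/-- **(E')** -/
theorem Sys.rel_of_fixes (S : Sys 𝒩) {N1 N2 : Subgroup G} (h1 : N1 ∈ 𝒩) (h2 : N2 ∈ 𝒩)
    {y : G} (hy : orderOf y = 2) (hy1 : Fixes y N1) (hy2 : Fixes y N2) : Rel N1 N2 := by
  by_cases hne : N1 = N2
  · exact Or.inl hne
  · exact Or.inr ⟨S.le_KN h2 h1 (Ne.symm hne) hy hy2 hy1, S.le_KN h1 h2 hne hy hy1 hy2⟩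

theorem exists_inv {N : Subgroup G} (hN : IsComp N N) : ∃ y ∈ N, orderOf y = 2 := by
  have h2 : Fact (Nat.Prime 2) := ⟨Nat.prime_two⟩
  obtain ⟨u, hu⟩ := exists_prime_orderOf_dvd_card' (G := ↥N) 2 hN.even
  exact ⟨u, u.2, by rw [← hu]; exact (Subgroup.orderOf_coe u)⟩

theorem Sys.rel_trans (S : Sys 𝒩) {N1 N2 N3 : Subgroup G} (h1 : N1 ∈ 𝒩) (h2 : N2 ∈ 𝒩) (h3 : N3 ∈ 𝒩)
    (r : Rel N1 N2) (r' : Rel N2 N3) : Rel N1 N3 := by
  rcases r with rfl | r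
  · exact r'
  rcases r' with rfl | r'
  · exact Or.inr r
  obtain ⟨y, hyN, hy⟩ := exists_inv (S.comp N2 h2)
  exact S.rel_of_fixes h1 h3 hy (r.2 hyN) (r'.1 hyN)

/-! ### the subgroup `H` -/

/-- the stabiliser of the class of `N₀` -/
def Sys.H (S : Sys 𝒩) {N0 : Subgroup G} (h0 : N0 ∈ 𝒩) : Subgroup G where
  carrier := {g | Rel (cj g N0) N0}
  one_mem' := by
    show Rel (cj 1 N0) N0
    rw [cj_one]; exact Rel.refl _
  mul_mem' := by
    intro a b ha hb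
    show Rel (cj (a * b) N0) N0
    have hb' : Rel (cj b N0) N0 := hb
    have ha' : Rel (cj a N0) N0 := ha
    rw [cj_mul]
    exact S.rel_trans (S.conj _ (S.conj _ h0 _) _) (S.conj _ h0 _) h0 (hb'.cj a) ha'
  inv_mem' := by
    intro a ha
    show Rel (cj a⁻¹ N0) N0
    have ha' : Rel (cj a N0) N0 := ha
    have h1 := (ha'.cj a⁻¹).symm
    rwa [cj_inv_cj] at h1

theorem Sys.mem_H (S : Sys 𝒩) {N0 : Subgroup G} (h0 : N0 ∈ 𝒩) {g : G} : g ∈ S.H h0 ↔ Rel (cj g N0) N0 :=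
  Iff.rfl

/-- the class of `N₀` -/
def Sys.cls (_ : Sys 𝒩) {N0 : Subgroup G} (_ : N0 ∈ 𝒩) : Set (Subgroup G) := {N | N ∈ 𝒩 ∧ Rel N N0}

omit [Finite G] in
theorem Sys.self_mem_cls (S : Sys 𝒩) {N0 : Subgroup G} (h0 : N0 ∈ 𝒩) : N0 ∈ S.cls h0 := ⟨h0, Rel.refl _⟩

theorem Sys.rel_of_cls (S : Sys 𝒩) {N0 N N' : Subgroup G} (h0 : N0 ∈ 𝒩) (h : N ∈ S.cls h0) (h' : N' ∈ S.cls h0) :
    Rel N N' := S.rel_trans h.1 h0 h'.1 h.2 h'.2.symm

theorem Sys.mem_H_iff (S : Sys 𝒩) {N0 N : Subgroup G} (h0 : N0 ∈ 𝒩) (h : N ∈ S.cls h0) {g : G} :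
    g ∈ S.H h0 ↔ Rel (cj g N) N := by
  rw [S.mem_H h0]
  have h1 := h.2.cj g
  constructor
  · intro h2
    exact S.rel_trans (S.conj _ h.1 _) h0 h.1 (S.rel_trans (S.conj _ h.1 _) (S.conj _ h0 _) h0 h1 h2) h.2.symm
  · intro h2
    exact S.rel_trans (S.conj _ h0 _) h.1 h0 (S.rel_trans (S.conj _ h0 _) (S.conj _ h.1 _) h.1 h1.symm h2) h.2

theorem Sys.cj_mem_cls (S : Sys 𝒩) {N0 N : Subgroup G} (h0 : N0 ∈ 𝒩) (h : N ∈ S.cls h0) {g : G}
    (hg : g ∈ S.H h0) : cj g N ∈ S.cls h0 :=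
  ⟨S.conj _ h.1 _, S.rel_trans (S.conj _ h.1 _) h.1 h0 ((S.mem_H_iff h0 h).mp hg) h.2⟩

/-- **(T1)** -/
theorem Sys.t1 (S : Sys 𝒩) {N0 N : Subgroup G} (h0 : N0 ∈ 𝒩) (h : N ∈ S.cls h0) {y : G} (hy : orderOf y = 2)
    (hyN : Fixes y N) {c : G} (hc : c * y = y * c) : c ∈ S.H h0 := by
  rw [S.mem_H_iff h0 h]
  have h1 := hyN.cj c
  rw [conj_of_comm hc] at h1
  exact S.rel_of_fixes (S.conj _ h.1 _) h.1 hy h1 hyN

/-- **(T2)** -/
theorem Sys.t2 (S : Sys 𝒩) {N0 N N' : Subgroup G} (h0 : N0 ∈ 𝒩) (h : N ∈ S.cls h0) (h' : N' ∈ S.cls h0) {y g : G}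
    (hy : orderOf y = 2) (hyN : Fixes y N) (hyN' : Fixes y (cj g N')) : g ∈ S.H h0 := by
  rw [S.mem_H_iff h0 h']
  have h1 := S.rel_of_fixes (S.conj _ h'.1 g) h.1 hy hyN' hyN
  exact S.rel_trans (S.conj _ h'.1 _) h.1 h'.1 h1 (S.rel_of_cls h0 h h')

theorem Sys.le_H (S : Sys 𝒩) {N0 N : Subgroup G} (h0 : N0 ∈ 𝒩) (h : N ∈ S.cls h0) : N ≤ S.H h0 := by
  intro n hn
  rw [S.mem_H_iff h0 h, cj_eq_self_of_mem hn]
  exact Rel.refl _

theorem Sys.normalizer_le_H (S : Sys 𝒩) {N0 N : Subgroup G} (h0 : N0 ∈ 𝒩) (h : N ∈ S.cls h0) :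
    normalizer (N : Set G) ≤ S.H h0 := by
  intro n hn
  rw [S.mem_H_iff h0 h, mem_normalizer_iff_cj.mp hn]
  exact Rel.refl _

theorem Sys.cls_le_normalizer (S : Sys 𝒩) {N0 N N' : Subgroup G} (h0 : N0 ∈ 𝒩) (h : N ∈ S.cls h0)
    (h' : N' ∈ S.cls h0) : N' ≤ normalizer (N : Set G) := (S.rel_of_cls h0 h' h).le_normalizer

/-- the product of the class -/
def Sys.E (S : Sys 𝒩) {N0 : Subgroup G} (h0 : N0 ∈ 𝒩) : Subgroup G := sSup (S.cls h0)

omit [Finite G] in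
theorem Sys.le_E (S : Sys 𝒩) {N0 N : Subgroup G} (h0 : N0 ∈ 𝒩) (h : N ∈ S.cls h0) : N ≤ S.E h0 := le_sSup h

theorem Sys.E_le_H (S : Sys 𝒩) {N0 : Subgroup G} (h0 : N0 ∈ 𝒩) : S.E h0 ≤ S.H h0 :=
  sSup_le fun _ h => S.le_H h0 h

theorem Sys.E_le_normalizer (S : Sys 𝒩) {N0 N : Subgroup G} (h0 : N0 ∈ 𝒩) (h : N ∈ S.cls h0) :
    S.E h0 ≤ normalizer (N : Set G) := sSup_le fun _ h' => S.cls_le_normalizer h0 h h'

theorem Sys.H_le_normalizer_E (S : Sys 𝒩) {N0 : Subgroup G} (h0 : N0 ∈ 𝒩) :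
    S.H h0 ≤ normalizer (S.E h0 : Set G) := by
  have key : ∀ g ∈ S.H h0, cj g (S.E h0) ≤ S.E h0 := by
    intro g hg
    rw [cj_def, Subgroup.map_le_iff_le_comap]
    refine sSup_le fun N hN => ?_
    rw [← Subgroup.map_le_iff_le_comap, ← cj_def]
    exact S.le_E h0 (S.cj_mem_cls h0 hN hg)
  intro g hg
  rw [mem_normalizer_iff_cj]
  refine le_antisymm (key g hg) ?_
  have h1 := key g⁻¹ (inv_mem hg)
  have h2 : cj g (cj g⁻¹ (S.E h0)) ≤ cj g (S.E h0) := Subgroup.map_mono h1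
  have h3 : cj g (cj g⁻¹ (S.E h0)) = S.E h0 := by rw [← cj_mul, mul_inv_cancel, cj_one]
  rwa [h3] at h2

/-- the members of the class are 2-components of `H` -/
theorem Sys.isComp_H (S : Sys 𝒩) {N0 N : Subgroup G} (h0 : N0 ∈ 𝒩) (h : N ∈ S.cls h0) :
    IsComp (S.H h0) N := by
  have h1 : IsComp (S.E h0) N := (S.comp N h.1).extend (S.le_E h0 h) (by
    have : (N.subgroupOf (S.E h0)).Normal := normal_subgroupOf_of_le_normalizer (S.E_le_normalizer h0 h)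
    exact this.isSubnormal)
  refine h1.extend (S.E_le_H h0) ?_
  have : ((S.E h0).subgroupOf (S.H h0)).Normal := normal_subgroupOf_of_le_normalizer (S.H_le_normalizer_E h0)
  exact this.isSubnormal

/-- trivial action in terms of `H` -/
theorem Sys.fixes_iff (S : Sys 𝒩) {N0 N : Subgroup G} (h0 : N0 ∈ 𝒩) (h : N ∈ S.cls h0) {y : G} :
    (y ∈ S.H h0 ∧ ∀ x ∈ N ⊔ core (S.H h0), y * x * y⁻¹ * x⁻¹ ∈ core (S.H h0)) ↔ Fixes y N := by
  have hc := S.isComp_H h0 h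
  constructor
  · rintro ⟨hy, hx⟩
    rw [hc.fixes_iff hy, mem_cenMod hc.le]
    refine ⟨hy, fun k hk => ?_⟩
    have h1 := hx k (mem_sup_left hk)
    have h2 : k⁻¹ * (y * k * y⁻¹) = k⁻¹ * (y * k * y⁻¹ * k⁻¹) * k⁻¹⁻¹ := by group
    rw [h2]
    exact conj_mem_core (le_normalizer ((S.H h0).inv_mem (hc.le hk))) h1
  · intro hf
    have hy : y ∈ S.H h0 := S.normalizer_le_H h0 h hf.1
    refine ⟨hy, fun x hx => ?_⟩
    rw [sup_comm] at hx
    obtain ⟨c, hcc, n, hn, rfl⟩ := SL.exists_mul_of_mem_sup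
      (fun b hb a ha => conj_mem_core (le_normalizer (hc.le hb)) ha) hx
    have h1 : y * (c * n) * y⁻¹ * (c * n)⁻¹ = (y * c * y⁻¹) * ⁅y, n⁆ * c⁻¹ := by
      rw [commutatorElement_def]; group
    rw [h1]
    exact mul_mem (mul_mem (conj_mem_core (le_normalizer hy) hcc) (hc.core_le_core (hf.2 n hn)))
      (inv_mem hcc)

end sys

/-! ### from `Cls` to `Sys` -/

omit [Finite G] in
theorem At.conj {y : G} {L N : Subgroup G} (h : At y L N) (g : G) :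
    At (g * y * g⁻¹) (cj g L) (cj g N) := by
  obtain ⟨M, h1, h2, h3, h4, h5⟩ := h.ex
  refine ⟨?_, cj g M, Subgroup.map_mono h1, Subgroup.map_mono h2, h3.cj g, ?_, ?_⟩
  · have h6 := h.comp.cj g
    rwa [cj_centralizer] at h6
  · rw [core_cj, cj_def, cj_def, cj_def, ← Subgroup.map_sup, h4]
  · rw [core_cj, cj_def, cj_def, cj_def, ← Subgroup.map_sup, h5]

/-- the conjugates of `N` -/
def Cj (N : Subgroup G) : Set (Subgroup G) := {M | ∃ g : G, M = cj g N}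

omit [Finite G] in
theorem self_mem_Cj (N : Subgroup G) : N ∈ Cj N := ⟨1, by rw [cj_one]⟩

omit [Finite G] in
theorem orderOf_conj (g y : G) : orderOf (g * y * g⁻¹) = orderOf y := by
  have := (MulAut.conj g).orderOf_eq y
  rwa [MulAut.conj_apply] at this

/-- `N / O(N)` has trivial centre -/
theorem mem_core_of_fixes {N : Subgroup G} (hs : IsSimpleGroup (↥N ⧸ oddCore ↥N))
    (hn : ¬ ∀ x y : ↥N ⧸ oddCore ↥N, x * y = y * x) {u : G} (hu : u ∈ N) (hf : Fixes u N) : u ∈ core N := by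
  rw [mem_core_iff hu, ← QuotientGroup.eq_one_iff]
  obtain ⟨c, hc⟩ : ∃ c : ↥N ⧸ oddCore ↥N, c = ((⟨u, hu⟩ : ↥N) : ↥N ⧸ oddCore ↥N) := ⟨_, rfl⟩
  have h1 : c ∈ center (↥N ⧸ oddCore ↥N) := by
    rw [mem_center_iff]
    intro x
    obtain ⟨⟨n, hn'⟩, rfl⟩ := QuotientGroup.mk_surjective x
    have h2 := hf.2 n hn'
    rw [commutator_mem_core_iff hu hn'] at h2
    rw [hc]
    exact h2.symm
  have h2 : center (↥N ⧸ oddCore ↥N) = ⊥ := by
    rcases hs.eq_bot_or_eq_top_of_normal _ (inferInstance : (center (↥N ⧸ oddCore ↥N)).Normal) with h3 | h3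
    · exact h3
    · exfalso
      apply hn
      intro x y
      have h4 : y ∈ center (↥N ⧸ oddCore ↥N) := by rw [h3]; exact mem_top y
      exact mem_center_iff.mp h4 x
  rw [h2, mem_bot] at h1
  rw [← hc, h1]

theorem Cls.sys {N : Subgroup G} (h : Cls N) : Sys (Cj N) where
  conj := by
    rintro _ ⟨a, rfl⟩ g
    exact ⟨g * a, by rw [cj_mul]⟩
  comp := by
    rintro _ ⟨a, rfl⟩
    exact h.self.cj a
  z := by
    rintro _ ⟨a, rfl⟩ u hu hf
    rw [core_cj, mem_cj]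
    have h1 : a⁻¹ * u * a ∈ N := mem_cj.mp hu
    have h2 := hf.cj a⁻¹
    rw [cj_inv_cj, inv_inv] at h2
    exact mem_core_of_fixes h.simple h.nab h1 h2
  ex := by
    rintro _ ⟨a, rfl⟩ y hf hy
    have h2 := hf.cj a⁻¹
    rw [cj_inv_cj] at h2
    obtain ⟨L, hL⟩ := h.ex _ h2 (by rw [orderOf_conj, hy])
    refine ⟨cj a L, ?_⟩
    have h3 := At.conj hL a
    rwa [show a * (a⁻¹ * y * a⁻¹⁻¹) * a⁻¹ = y by group] at h3
  nrm := by
    rintro _ ⟨a, rfl⟩ y L hf hy hA g hg hgL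
    have h2 := hf.cj a⁻¹
    rw [cj_inv_cj] at h2
    have h3 := At.conj hA a⁻¹
    rw [cj_inv_cj] at h3
    have h4 := h.nrm _ _ h2 (by rw [orderOf_conj, hy]) h3 (a⁻¹ * g * a⁻¹⁻¹) (by
      rw [show a⁻¹ * g * a⁻¹⁻¹ * (a⁻¹ * y * a⁻¹⁻¹) = a⁻¹ * (g * y) * a⁻¹⁻¹ by group, hg]; group) (by
      rw [mem_normalizer_iff_cj] at hgL ⊢
      rw [← cj_mul, show a⁻¹ * g * a⁻¹⁻¹ * a⁻¹ = a⁻¹ * g by group, cj_mul, hgL])
    rw [mem_normalizer_iff_cj] at h4 ⊢
    have h5 := congrArg (cj a) h4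
    rw [← cj_mul, show a * (a⁻¹ * g * a⁻¹⁻¹) = g * a by group, cj_mul] at h5
    exact h5
  uniq := by
    rintro _ ⟨a, rfl⟩ _ ⟨b, rfl⟩ y L hy hf1 hf2 hA1 hA2
    have h2 := hf1.cj a⁻¹
    rw [cj_inv_cj] at h2
    have h3 := At.conj hA1 a⁻¹
    rw [cj_inv_cj] at h3
    have h4 := hf2.cj a⁻¹
    rw [← cj_mul] at h4
    have h5 := At.conj hA2 a⁻¹
    rw [← cj_mul] at h5
    have h6 := h.uniq _ (a⁻¹ * b) _ (by rw [orderOf_conj, hy]) h2 h4 h3 h5
    have h7 := congrArg (cj a) h6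
    rw [← cj_mul, mul_inv_cancel_left] at h7
    exact h7

end Cfsg.Agent.UGT.L2i.ClsRel
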