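import Cfsg.Agent.UGT.L2i.ClsRel
import Cfsg.Agent.UGT.TT.Basic

/-!
# The classes of `N₀` (bb #11765, P4): one member

If the class of `N₀` has one member only, `H = N(N₀)` and (T3) holds: `K(N₀)^g ∩ N₀ O(H)` covers `N₀ O(H) / O(H)`
only for `g ∈ H`.  `data_one`: `SL.Data`.
-/

set_option autoImplicit false

open Cfsg Subgroup
open Cfsg.Agent.SignalizersComponents Cfsg.Agent.Lib
open Cfsg.Agent.SignalizersComponents.IntrinsicBasic
open Cfsg.Agent.SignalizersComponents.IntrinsicIntr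
open Cfsg.Agent.SignalizersComponents.PLayerAut
open Cfsg.Agent.Intrinsic.Basic Cfsg.Agent.Intrinsic.Cen Cfsg.Agent.Intrinsic.Diag
open Cfsg.Agent.McLLyComp.Act
open Cfsg.Agent.UGT.TMCBase
open Cfsg.Agent.UGT.L2i.ClsCov Cfsg.Agent.UGT.L2i.ClsRel
open scoped commutatorElement

namespace Cfsg.Agent.UGT.L2i.ClsOne

universe u

variable {G : Type u} [Group G]

theorem core_subgroupOf (N : Subgroup G) : (core N).subgroupOf N = oddCore ↥N := by
  ext x
  rw [mem_subgroupOf, mem_core_iff x.2]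

theorem fixes_conj {N : Subgroup G} {k x : G} (hk : k ∈ normalizer (N : Set G)) (hx : Fixes x N) :
    Fixes (k * x * k⁻¹) N := by
  have h := hx.cj k
  rwa [mem_normalizer_iff_cj.mp hk] at h

theorem sq_mul {a b : G} (haa : a * a = 1) (hbb : b * b = 1) (hab : a * b = b * a) : a * b * (a * b) = 1 := by
  calc a * b * (a * b) = a * (b * a) * b := by group
    _ = a * (a * b) * b := by rw [hab]
    _ = (a * a) * (b * b) := by group
    _ = 1 := by rw [haa, hbb, one_mul]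

theorem mul_ne_one {a b : G} (haa : a * a = 1) (hne : a ≠ b) : a * b ≠ 1 := by
  intro h
  apply hne
  calc a = a * (a * b) := by rw [h, mul_one]
    _ = (a * a) * b := by group
    _ = b := by rw [haa, one_mul]

variable [Finite G]

/-- a four-group acting faithfully on `N / O(N)`, with `C(y) ≤ N(N')` for its involutions `y`, and trivially on
`N' / O(N')`: `N` acts trivially on `N' / O(N')` -/
theorem le_KN_of_gam {N N' : Subgroup G} (hN : IsComp N N) (hs : IsSimpleGroup (↥N ⧸ oddCore ↥N))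
    (gam : SL.GamAut (↥N ⧸ oddCore ↥N)) {a b : G} (haa : a * a = 1) (hbb : b * b = 1) (hab : a * b = b * a)
    (a1 : a ≠ 1) (b1 : b ≠ 1) (hne : a ≠ b)
    (haN : a ∈ normalizer (N : Set G)) (hbN : b ∈ normalizer (N : Set G))
    (ha : ¬ Fixes a N) (hb : ¬ Fixes b N) (hc : ¬ Fixes (a * b) N) (ha' : Fixes a N')
    (ca : ∀ x, x * a = a * x → x ∈ normalizer (N' : Set G))
    (cb : ∀ x, x * b = b * x → x ∈ normalizer (N' : Set G))
    (cc : ∀ x, x * (a * b) = a * b * x → x ∈ normalizer (N' : Set G)) : N ≤ KN N' := by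
  have hcore : core N ≤ normalizer (N' : Set G) :=
    Cfsg.Agent.CoverCore.Abs.le_of_four haa hbb hab a1 b1 hne (odd_card_core N)
      (fun x hx => conj_mem_core haN hx) (fun x hx => conj_mem_core hbN hx)
      (fun x _ h => ca x h) (fun x _ h => cb x h) (fun x _ h => cc x h)
  have hn : ((core N).subgroupOf N).Normal := by rw [core_subgroupOf]; infer_instance
  have out : ∀ {y : G}, y ∈ normalizer (N : Set G) → ¬ Fixes y N → ∃ x ∈ N, x⁻¹ * (y * x * y⁻¹) ∉ core N := by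
    intro y hy hf
    by_contra hcon
    push Not at hcon
    exact hf (fixes_iff_conj.mpr ⟨hy, hcon⟩)
  have hle : N ≤ normalizer (N' : Set G) :=
    SL.gam_mod' hn (core_le N) (odd_card_core N) (gam.congr (QuotientGroup.quotientMulEquivOfEq (core_subgroupOf N).symm))
      haa hbb hab haN (normalizer_le_normalizer_core N haN) hbN (normalizer_le_normalizer_core N hbN)
      (out haN ha) (out hbN hb) (out (mul_mem haN hbN) hc) _ hcore (fun x _ h => ca x h) (fun x _ h => cb x h)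
      (fun x _ h => cc x h)
  obtain ⟨A, hA⟩ : ∃ A, A = N ⊓ KN N' := ⟨_, rfl⟩
  have hAN : A ≤ N := hA ▸ inf_le_left
  have hAn : N ≤ normalizer (A : Set G) := by
    intro x hx
    have e1 : x ∈ normalizer (N : Set G) := le_normalizer hx
    have e2 : cj x (KN N') = KN N' := by rw [cj_KN, mem_normalizer_iff_cj.mp (hle hx)]
    rw [mem_normalizer_iff_cj] at e1 ⊢
    rw [hA, cj_inf, e1, e2]
  have hAnn : (A.subgroupOf N).Normal := normal_subgroupOf_of_le_normalizer hAn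
  have hmap : ((A.subgroupOf N).map (QuotientGroup.mk' (oddCore ↥N))).Normal :=
    hAnn.map _ (QuotientGroup.mk'_surjective _)
  rcases hs.eq_bot_or_eq_top_of_normal _ hmap with h | h
  · exfalso
    -- `A ≤ O(N)`: then `a` fixes `N`
    apply ha
    refine ⟨haN, fun x hx => ?_⟩
    have h1 : ⁅a, x⁆ ∈ N := by
      have h2 : a * x * a⁻¹ ∈ N := (Subgroup.mem_normalizer_iff.mp haN x).mp hx
      rw [commutatorElement_def]
      exact N.mul_mem h2 (N.inv_mem hx)
    have h2 : ⁅a, x⁆ ∈ KN N' := by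
      have h3 : Fixes (x * a⁻¹ * x⁻¹) N' := fixes_conj (hle hx) ((KN N').inv_mem ha')
      have h4 : ⁅a, x⁆ = a * (x * a⁻¹ * x⁻¹) := by rw [commutatorElement_def]; group
      rw [h4]
      exact (KN N').mul_mem ha' h3
    have h3 : (QuotientGroup.mk' (oddCore ↥N)) ⟨⁅a, x⁆, h1⟩ ∈
        (A.subgroupOf N).map (QuotientGroup.mk' (oddCore ↥N)) :=
      ⟨⟨⁅a, x⁆, h1⟩, by rw [SetLike.mem_coe, mem_subgroupOf, hA]; exact ⟨h1, h2⟩, rfl⟩
    rw [h, mem_bot, QuotientGroup.mk'_apply, QuotientGroup.eq_one_iff] at h3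
    exact (mem_core_iff h1).mpr h3
  · refine le_trans ?_ (hA ▸ inf_le_right : A ≤ KN N')
    refine hN.le_of_two fun k hk n hkn => ?_
    have h1 : (QuotientGroup.mk' (oddCore ↥N)) ⟨k, hk⟩ ∈
        (A.subgroupOf N).map (QuotientGroup.mk' (oddCore ↥N)) := by rw [h]; trivial
    obtain ⟨⟨j, hjN⟩, hj, hjk⟩ := h1
    rw [SetLike.mem_coe, mem_subgroupOf] at hj
    rw [QuotientGroup.mk'_apply, QuotientGroup.mk'_apply, QuotientGroup.eq] at hjk
    have h2 : j⁻¹ * k ∈ core N := (mem_core_iff (N.mul_mem (N.inv_mem hjN) hk)).mpr hjk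
    have h3 : j * (j⁻¹ * k) ∈ A := by
      refine mem_of_mul_odd hj (hAn (core_le N h2)) ((odd_card_core N).of_dvd_nat
        (Subgroup.orderOf_dvd_natCard _ h2)) (n := n) ?_
      rw [mul_inv_cancel_left]; exact hkn
    rwa [mul_inv_cancel_left] at h3

omit [Finite G] in
theorem cj_of_comm' {x : G} {K : Subgroup G} (hx : ∀ k ∈ K, x * k = k * x) : cj x K = K := by
  ext z
  rw [mem_cj]
  constructor
  · intro hz
    have h2 := hx _ hz
    have h3 : x⁻¹ * z * x = z := by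
      have h4 : x * (x⁻¹ * z * x) = z * x := by group
      rw [h4] at h2
      exact (mul_right_cancel h2).symm
    rw [h3] at hz; exact hz
  · intro hz
    have h2 := hx _ hz
    rw [mul_assoc, ← h2, ← mul_assoc, inv_mul_cancel, one_mul]
    exact hz

/-- `core N ≤ KN N` -/
theorem core_le_KN {N : Subgroup G} (hN : IsComp N N) : core N ≤ KN N := fun _ h => hN.fixes_of_core h

omit [Finite G] in
/-- `[b, T] ≤ O(N)` for `T` generated by elements with this property -/
theorem comm_closure {N : Subgroup G} {b : G} (s : Set G) (hs : ∀ t ∈ s, t ∈ normalizer (N : Set G) ∧ ⁅b, t⁆ ∈ core N) :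
    ∀ t ∈ closure s, t ∈ normalizer (N : Set G) ∧ ⁅b, t⁆ ∈ core N := by
  intro t ht
  induction ht using closure_induction with
  | mem t ht => exact hs t ht
  | one => exact ⟨one_mem _, by rw [commutatorElement_def, mul_one, inv_one, mul_one, mul_inv_cancel]; exact one_mem _⟩
  | mul x y _ _ h1 h2 =>
    refine ⟨mul_mem h1.1 h2.1, ?_⟩
    have h3 : ⁅b, x * y⁆ = ⁅b, x⁆ * (x * ⁅b, y⁆ * x⁻¹) := by
      rw [commutatorElement_def, commutatorElement_def, commutatorElement_def]; group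
    rw [h3]
    exact mul_mem h1.2 (conj_mem_core h1.1 h2.2)
  | inv x _ h1 =>
    refine ⟨inv_mem h1.1, ?_⟩
    have h3 : ⁅b, x⁻¹⁆ = x⁻¹ * ⁅b, x⁆⁻¹ * x⁻¹⁻¹ := by
      rw [commutatorElement_def, commutatorElement_def]; group
    rw [h3]
    exact conj_mem_core (inv_mem h1.1) (inv_mem h1.2)

/-- a four-group in `K(N)` commuting with a given four-group of `N` -/
theorem exists_four_comm {N : Subgroup G} (hN : IsComp N N) {v w a b : G} (hv : v ∈ N) (hw : w ∈ N)
    (vv : v * v = 1) (ww : w * w = 1) (vw : v * w = w * v) (ha : Fixes a N) (hb : Fixes b N)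
    (haa : a * a = 1) (hbb : b * b = 1) (hab : a * b = b * a) (a1 : a ≠ 1) (b1 : b ≠ 1) (hne : a ≠ b) :
    ∃ a' b' : G, Fixes a' N ∧ Fixes b' N ∧ a' * a' = 1 ∧ b' * b' = 1 ∧ a' * b' = b' * a' ∧ a' ≠ 1 ∧ b' ≠ 1 ∧
      a' ≠ b' ∧ v * a' = a' * v ∧ w * a' = a' * w ∧ v * b' = b' * v ∧ w * b' = b' * w := by
  have hodd := odd_card_core N
  have hbase : ∀ {y : G}, Fixes y N → ∀ t ∈ ({v, w} : Set G), t ∈ normalizer (N : Set G) ∧ ⁅y, t⁆ ∈ core N := by
    intro y hy t ht
    rcases ht with rfl | ht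
    · exact ⟨le_normalizer hv, hy.2 _ hv⟩
    · rw [Set.mem_singleton_iff] at ht
      subst ht
      exact ⟨le_normalizer hw, hy.2 _ hw⟩
  have step : ∀ (s : Set G) {y : G}, (∀ t ∈ s, t * t = 1) → (∀ t ∈ s, ∀ t' ∈ s, t * t' = t' * t) →
      y * y = 1 → Fixes y N → (∀ t ∈ s, t ∈ normalizer (N : Set G) ∧ ⁅y, t⁆ ∈ core N) →
      ∃ y', y * y' ∈ core N ∧ y' * y' = 1 ∧ ∀ t ∈ s, t * y' = y' * t := by
    intro s y hs1 hs2 hyy hy hs3
    have hyi : y⁻¹ = y := inv_eq_of_mul_eq_one_left hyy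
    obtain ⟨y', h1, h2, h3⟩ := SL.exists_fixed_involution hodd (TT.isPGroup_closure hs1 hs2) hyy
      (fun x hx => conj_mem_core hy.1 hx)
      (fun t ht x hx => conj_mem_core (comm_closure s hs3 t ht).1 hx) (fun t ht => by
        have h4 := (comm_closure s hs3 t ht).2
        have h5 : ⁅y, t⁆ = y * (t * y * t⁻¹) := by
          rw [commutatorElement_def, hyi]; group
        rwa [h5] at h4)
    exact ⟨y', h1, h2, fun t ht => h3 t (subset_closure ht)⟩
  obtain ⟨a', ha1, ha2, ha3⟩ := step {v, w} (y := a) (by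
      rintro t (rfl | rfl)
      · exact vv
      · exact ww) (by
      rintro t (rfl | rfl) t' (rfl | rfl)
      · rfl
      · exact vw
      · exact vw.symm
      · rfl) haa ha (hbase ha)
  have hva' : v * a' = a' * v := ha3 v (by simp)
  have hwa' : w * a' = a' * w := ha3 w (by simp)
  have ea : a' = a⁻¹ * (a * a') := by group
  have hFa' : Fixes a' N := by
    rw [ea]
    exact (KN N).mul_mem ((KN N).inv_mem ha) (core_le_KN hN ha1)
  have hba' : ⁅b, a'⁆ ∈ core N := by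
    have h1 : ⁅b, a'⁆ = (a⁻¹ * (b * (a * a') * b⁻¹) * a⁻¹⁻¹) * (a⁻¹ * (a * a')⁻¹ * a⁻¹⁻¹) := by
      have h2 : b * a * b⁻¹ = a := by rw [← hab]; group
      calc ⁅b, a'⁆ = (b * a⁻¹ * b⁻¹) * (b * (a * a') * b⁻¹) * a'⁻¹ := by rw [commutatorElement_def]; group
        _ = (b * a * b⁻¹)⁻¹ * (b * (a * a') * b⁻¹) * a'⁻¹ := by group
        _ = a⁻¹ * (b * (a * a') * b⁻¹) * a'⁻¹ := by rw [h2]
        _ = _ := by group
    rw [h1]
    exact mul_mem (conj_mem_core (inv_mem ha.1) (conj_mem_core hb.1 ha1))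
      (conj_mem_core (inv_mem ha.1) (inv_mem ha1))
  obtain ⟨b', hb1, hb2, hb3⟩ := step {v, w, a'} (y := b) (by
      rintro t (rfl | rfl | rfl)
      · exact vv
      · exact ww
      · exact ha2) (by
      rintro t (rfl | rfl | rfl) t' (rfl | rfl | rfl)
      · rfl
      · exact vw
      · exact hva'
      · exact vw.symm
      · rfl
      · exact hwa'
      · exact hva'.symm
      · exact hwa'.symm
      · rfl) hbb hb (by
      rintro t (rfl | rfl | rfl)
      · exact hbase hb _ (by simp)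
      · exact hbase hb _ (by simp)
      · exact ⟨hFa'.1, hba'⟩)
  have eb : b' = b⁻¹ * (b * b') := by group
  have hFb' : Fixes b' N := by
    rw [eb]
    exact (KN N).mul_mem ((KN N).inv_mem hb) (core_le_KN hN hb1)
  refine ⟨a', b', hFa', hFb', ha2, hb2, hb3 a' (by simp), ?_, ?_, ?_, hva', hwa', hb3 v (by simp), hb3 w (by simp)⟩
  · intro h
    rw [h, mul_one] at ha1
    exact a1 (eq_one_of_mem_core_sq ha1 haa)
  · intro h
    rw [h, mul_one] at hb1
    exact b1 (eq_one_of_mem_core_sq hb1 hbb)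
  · intro h
    rw [← h] at hb1
    have h1 : a * b ∈ core N := by
      have h2 : a * b⁻¹ = (a * a') * (b * a')⁻¹ := by group
      rw [inv_eq_of_mul_eq_one_left hbb] at h2
      rw [h2]
      exact mul_mem ha1 (inv_mem hb1)
    exact mul_ne_one haa hne (eq_one_of_mem_core_sq h1 (sq_mul haa hbb hab))

section sys

variable {𝒩 : Set (Subgroup G)}

/-- the class of `N₀` has one member only: `H = N(N₀)` -/
theorem mem_H_one (S : Sys 𝒩) {N0 : Subgroup G} (h0 : N0 ∈ 𝒩) (hone : ∀ N ∈ 𝒩, ClsRel.Rel N N0 → N = N0) {g : G} :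
    g ∈ S.H h0 ↔ g ∈ normalizer (N0 : Set G) := by
  rw [S.mem_H h0, mem_normalizer_iff_cj]
  constructor
  · intro h; exact hone _ (S.conj _ h0 g) h
  · intro h; rw [h]; exact Rel.refl _

/-- **(T3)** for a class with one member -/
theorem t3 (S : Sys 𝒩) {N0 : Subgroup G} (h0 : N0 ∈ 𝒩) (hone : ∀ N ∈ 𝒩, ClsRel.Rel N N0 → N = N0)
    (hs : IsSimpleGroup (↥N0 ⧸ oddCore ↥N0)) (gam : SL.GamAut (↥N0 ⧸ oddCore ↥N0))
    (four : ∃ a b : G, Fixes a N0 ∧ Fixes b N0 ∧ a * a = 1 ∧ b * b = 1 ∧ a * b = b * a ∧ a ≠ 1 ∧ b ≠ 1 ∧ a ≠ b)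
    {g : G} (hcov : ∀ x ∈ N0, ∃ k, Fixes k N0 ∧ (g * k * g⁻¹)⁻¹ * x ∈ core (S.H h0)) : g ∈ S.H h0 := by
  have hc := S.comp _ h0
  have hcH := S.isComp_H h0 (S.self_mem_cls h0)
  obtain ⟨N1, hN1⟩ : ∃ N1, N1 = cj g N0 := ⟨_, rfl⟩
  have h1 : N1 ∈ 𝒩 := hN1 ▸ S.conj _ h0 g
  have hc1 := S.comp _ h1
  -- `A = N0 ∩ K(N1)` covers `N0 / O(N0)`
  obtain ⟨A, hA⟩ : ∃ A, A = KN N1 ⊓ N0 := ⟨_, rfl⟩
  have hAN : A ≤ N0 := hA ▸ inf_le_right
  have hAcov : A ⊔ core N0 = N0 := by
    refine le_antisymm (sup_le hAN (core_le N0)) ?_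
    refine hc.le_of_two fun x hx n hn => ?_
    obtain ⟨k, hk, hkx⟩ := hcov x hx
    obtain ⟨j, hj⟩ : ∃ j, j = g * k * g⁻¹ := ⟨_, rfl⟩
    rw [← hj] at hkx
    have hjK : Fixes j N1 := by rw [hj, hN1]; exact hk.cj g
    have hH : x ∈ S.H h0 := hcH.le hx
    have hjH : j ∈ S.H h0 := by
      have h2 : j = x * (j⁻¹ * x)⁻¹ := by group
      rw [h2]
      exact mul_mem hH (inv_mem (core_le _ hkx))
    have h2 : j ^ 2 ^ n ∈ core (S.H h0) := by
      have h3 : (⟨j, hjH⟩ : ↥(S.H h0)) ^ 2 ^ n ∈ oddCore ↥(S.H h0) := by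
        have h4 : ((⟨j, hjH⟩ : ↥(S.H h0)) : ↥(S.H h0) ⧸ oddCore ↥(S.H h0)) = ((⟨x, hH⟩ : ↥(S.H h0)) : _) :=
          QuotientGroup.eq.mpr ((mem_core_iff _).mp hkx)
        rw [← QuotientGroup.eq_one_iff, QuotientGroup.mk_pow, h4, ← QuotientGroup.mk_pow]
        have h5 : (⟨x, hH⟩ : ↥(S.H h0)) ^ 2 ^ n = 1 := Subtype.ext (by simpa using hn)
        rw [h5, QuotientGroup.mk_one]
      exact (mem_core_iff (pow_mem hjH _)).mpr h3
    obtain ⟨m, hm1, hm2⟩ := Cfsg.Agent.Intrinsic.Lifting.exists_two_part (odd_card_core (S.H h0)) h2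
    -- `j ^ m ∈ N0`
    have h3 : x⁻¹ * j ^ m ∈ core (S.H h0) := by
      have h4 : x⁻¹ * j ^ m = (j⁻¹ * x)⁻¹ * (j⁻¹ * j ^ m) := by group
      rw [h4]
      exact mul_mem (inv_mem hkx) hm2
    have h4 : j ^ m ∈ N0 := hcH.mem_of_two hx h3 hm1
    have h5 : (j ^ m)⁻¹ * x ∈ core N0 := by
      rw [hcH.core_eq]
      refine ⟨N0.mul_mem (N0.inv_mem h4) hx, ?_⟩
      have h6 : (j ^ m)⁻¹ * x = (x⁻¹ * j ^ m)⁻¹ := by group
      rw [h6]
      exact Subgroup.inv_mem _ h3
    have h6 : x = j ^ m * ((j ^ m)⁻¹ * x) := by group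
    rw [h6]
    have hjK' : j ^ m ∈ KN N1 := pow_mem (mem_KN.mpr hjK) m
    exact mul_mem (mem_sup_left (hA ▸ ⟨hjK', h4⟩)) (mem_sup_right h5)
  -- the four-groups
  have hP : IsComp (PComponents.pElem 2 A) (PComponents.pElem 2 A) :=
    isComp_of_cover hc (sup_pElem hc hAcov) (pElem_pElem A)
  obtain ⟨v, hvA, w, hwA, vv, ww, vw, v1, w1, hvw⟩ := S.four_of_cover h0 hP (sup_pElem hc hAcov)
  have hvA' : v ∈ KN N1 ⊓ N0 := hA ▸ PComponents.pElem_le _ hvA
  have hwA' : w ∈ KN N1 ⊓ N0 := hA ▸ PComponents.pElem_le _ hwA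
  obtain ⟨a₀, b₀, ha0, hb0, haa0, hbb0, hab0, a10, b10, hne0⟩ := four
  obtain ⟨a, b, ha, hb, haa, hbb, hab, a1, b1, hne, va, wa, vb, wb⟩ :=
    exists_four_comm hc hvA'.2 hwA'.2 vv ww vw ha0 hb0 haa0 hbb0 hab0 a10 b10 hne0
  have hFab : Fixes (a * b) N0 := (KN N0).mul_mem ha hb
  have hFvw : Fixes (v * w) N1 := (KN N1).mul_mem hvA'.1 hwA'.1
  have habab := sq_mul haa hbb hab
  have hab1 := mul_ne_one haa hne
  have hvwvw := sq_mul vv ww vw
  have hvw1 := mul_ne_one vv hvw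
  -- (T1), (T2)
  have t1 : ∀ y : G, y * y = 1 → y ≠ 1 → Fixes y N0 → ∀ x, x * y = y * x → x ∈ normalizer (N0 : Set G) :=
    fun y hyy hy1 hy x hx =>
      (mem_H_one S h0 hone).mp (S.t1 h0 (S.self_mem_cls h0) (order_of_sq hyy hy1) hy hx)
  have t1' : ∀ y : G, y * y = 1 → y ≠ 1 → Fixes y N1 → ∀ x, x * y = y * x → x ∈ normalizer (N1 : Set G) := by
    intro y hyy hy1 hy x hx
    have h2 : Fixes (g⁻¹ * y * g) N0 := by
      have h3 := hy.cj g⁻¹
      rw [hN1, cj_inv_cj, inv_inv] at h3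
      exact h3
    have h3 := t1 (g⁻¹ * y * g) (by
        calc g⁻¹ * y * g * (g⁻¹ * y * g) = g⁻¹ * (y * y) * g := by group
          _ = 1 := by rw [hyy]; group) (by
        intro h
        apply hy1
        calc y = g * (g⁻¹ * y * g) * g⁻¹ := by group
          _ = 1 := by rw [h]; group) h2 (g⁻¹ * x * g) (by
        calc g⁻¹ * x * g * (g⁻¹ * y * g) = g⁻¹ * (x * y) * g := by group
          _ = g⁻¹ * (y * x) * g := by rw [hx]
          _ = _ := by group)
    rw [mem_normalizer_iff_cj] at h3 ⊢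
    rw [hN1, ← cj_mul]
    calc cj (x * g) N0 = cj (g * (g⁻¹ * x * g)) N0 := by congr 1; group
      _ = cj g N0 := by rw [cj_mul, h3]
  have t2 : ∀ y : G, y * y = 1 → y ≠ 1 → Fixes y N0 → Fixes y N1 → g ∈ S.H h0 := by
    intro y hyy hy1 hy hy'
    rw [hN1] at hy'
    exact S.t2 h0 (S.self_mem_cls h0) (S.self_mem_cls h0) (order_of_sq hyy hy1) hy hy'
  by_contra hg
  -- `N1 ≤ K(N0)`
  have k1 : N1 ≤ KN N0 := by
    have hs1 : IsSimpleGroup (↥N1 ⧸ oddCore ↥N1) := by
      subst hN1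
      exact (cjQuot g N0).symm.isSimpleGroup
    have gam1 : SL.GamAut (↥N1 ⧸ oddCore ↥N1) := by
      subst hN1
      exact gam.congr (cjQuot g N0)
    refine le_KN_of_gam hc1 hs1 gam1 haa hbb hab a1 b1 hne (t1' v vv v1 hvA'.1 a va.symm) (t1' v vv v1 hvA'.1 b vb.symm)
      (fun h => hg (t2 a haa a1 ha h)) (fun h => hg (t2 b hbb b1 hb h)) (fun h => hg (t2 _ habab hab1 hFab h)) ha
      (t1 a haa a1 ha) (t1 b hbb b1 hb) (t1 _ habab hab1 hFab)
  -- `N0 ≤ K(N1)`
  have k2 : N0 ≤ KN N1 := by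
    have hnf : ∀ y ∈ N0, y * y = 1 → y ≠ 1 → ¬ Fixes y N0 := fun y hy hyy hy1 hf =>
      hy1 (eq_one_of_mem_core_sq (S.z _ h0 y hy hf) hyy)
    exact le_KN_of_gam hc hs gam vv ww vw v1 w1 hvw (le_normalizer hvA'.2) (le_normalizer hwA'.2)
      (hnf v hvA'.2 vv v1) (hnf w hwA'.2 ww w1) (hnf _ (N0.mul_mem hvA'.2 hwA'.2) hvwvw hvw1) hvA'.1
      (t1' v vv v1 hvA'.1) (t1' w ww w1 hwA'.1) (t1' _ hvwvw hvw1 hFvw)
  apply hg
  rw [S.mem_H h0, ← hN1]
  exact Or.inr ⟨k1, k2⟩

end sys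

/-! ### `SL.Data` -/

variable {𝒩 : Set (Subgroup G)}

theorem core_sup_subgroupOf {H N : Subgroup G} (h : IsComp H N) : (core H).subgroupOf N = oddCore ↥N := by
  rw [← core_subgroupOf, h.core_eq]
  ext x
  rw [mem_subgroupOf, mem_subgroupOf]
  exact ⟨fun hx => ⟨x.2, hx⟩, fun hx => hx.2⟩

/-- `N O(H) / O(H) ≅ N / O(N)` for a 2-component `N` of `H` -/
theorem exists_equiv {H N : Subgroup G} (h : IsComp H N) :
    ∃ _ : ((core H).subgroupOf (N ⊔ core H)).Normal,
      Nonempty ((↥N ⧸ oddCore ↥N) ≃* (↥(N ⊔ core H) ⧸ (core H).subgroupOf (N ⊔ core H))) := by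
  have hle : N ≤ normalizer (core H : Set G) := h.le.trans (le_normalizer_core H)
  have := Subgroup.normal_subgroupOf_of_le_normalizer hle
  have hn := Subgroup.normal_subgroupOf_sup_of_le_normalizer hle
  exact ⟨hn, ⟨(QuotientGroup.quotientMulEquivOfEq (core_sup_subgroupOf h).symm).trans
    (QuotientGroup.quotientInfEquivProdNormalizerQuotient N (core H) hle)⟩⟩

/-- `SL.Data` for a class with one member (from the axioms of `Sys`) -/
theorem data (S : Sys 𝒩) {N0 : Subgroup G} (h0 : N0 ∈ 𝒩) (hone : ∀ N ∈ 𝒩, ClsRel.Rel N N0 → N = N0)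
    (hs : IsSimpleGroup (↥N0 ⧸ oddCore ↥N0)) (hnab : ¬ ∀ x y : ↥N0 ⧸ oddCore ↥N0, x * y = y * x)
    (gam : SL.GamAut (↥N0 ⧸ oddCore ↥N0))
    (four : ∃ a b : G, Fixes a N0 ∧ Fixes b N0 ∧ a * a = 1 ∧ b * b = 1 ∧ a * b = b * a ∧ a ≠ 1 ∧ b ≠ 1 ∧ a ≠ b) :
    SL.Data (S.H h0) (N0 ⊔ core (S.H h0)) (KN N0) (core (S.H h0)) := by
  have hc := S.isComp_H h0 (S.self_mem_cls h0)
  have hself := S.self_mem_cls h0
  have hKH : KN N0 ≤ S.H h0 := (KN_le N0).trans (S.normalizer_le_H h0 hself)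
  have hHn : ∀ m ∈ S.H h0, m ∈ normalizer (N0 : Set G) := fun m hm => (mem_H_one S h0 hone).mp hm
  obtain ⟨hn, ⟨e⟩⟩ := exists_equiv hc
  have hfix : ∀ {y : G}, Fixes y N0 → ∀ x ∈ N0 ⊔ core (S.H h0), y * x * y⁻¹ * x⁻¹ ∈ core (S.H h0) :=
    fun {y} hy => ((S.fixes_iff h0 hself).mpr hy).2
  refine SL.Data.ofQuot hn e.symm.isSimpleGroup ?_ ?_ (gam.congr e) (sup_le hc.le (core_le _)) hKH le_sup_right ?_
    (odd_card_core _) ?_ ?_ ?_ ?_ ?_ ?_ ?_ ?_ ?_
  · intro hcomm
    apply hnab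
    intro x y
    apply e.injective
    rw [_root_.map_mul, _root_.map_mul]
    exact hcomm _ _
  · rw [← Nat.card_congr e.toEquiv]
    have h1 := (S.comp _ h0).not_odd (N := core N0) (odd_card_core N0)
    by_contra h2
    apply h1
    -- an odd quotient: `N0` is generated by 2-elements
    refine (S.comp _ h0).le_of_two fun k hk n hkn => ?_
    rw [mem_core_iff hk, ← QuotientGroup.eq_one_iff]
    have h3 : (((⟨k, hk⟩ : ↥N0) : ↥N0 ⧸ oddCore ↥N0)) ^ 2 ^ n = 1 := by
      rw [← QuotientGroup.mk_pow]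
      have h4 : (⟨k, hk⟩ : ↥N0) ^ 2 ^ n = 1 := Subtype.ext (by simpa using hkn)
      rw [h4, QuotientGroup.mk_one]
    have h4 := orderOf_dvd_of_pow_eq_one h3
    have h5 := orderOf_dvd_natCard (((⟨k, hk⟩ : ↥N0) : ↥N0 ⧸ oddCore ↥N0))
    obtain ⟨m, -, hm⟩ := (Nat.dvd_prime_pow Nat.prime_two).mp h4
    rw [← orderOf_eq_one_iff, hm]
    rcases Nat.eq_zero_or_pos m with hm0 | hm0
    · rw [hm0, pow_zero]
    · exfalso
      apply h2
      rw [hm] at h5
      exact (dvd_pow_self 2 (by omega)).trans h5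
  · intro w hw
    exact hc.fixes_of_core hw
  · intro m hm w hw
    exact conj_mem_core (le_normalizer hm) hw
  · intro m hm x hx
    have h1 : cj m (N0 ⊔ core (S.H h0)) = N0 ⊔ core (S.H h0) := by
      have h2 : m ∈ normalizer (core (S.H h0) : Set G) := le_normalizer_core _ hm
      rw [cj_def, Subgroup.map_sup, ← cj_def, ← cj_def, mem_normalizer_iff_cj.mp (hHn m hm),
        mem_normalizer_iff_cj.mp h2]
    have h2 := conj_mem_cj (g := m) hx
    rwa [h1] at h2
  · intro m hm x hx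
    exact fixes_conj (hHn m hm) hx
  · intro x hx k hk
    have h1 := inv_mem (hfix (y := k) hk x hx)
    have h2 : (k * x * k⁻¹ * x⁻¹)⁻¹ = x * k * x⁻¹ * k⁻¹ := by group
    rwa [h2] at h1
  · intro m hm hx
    exact (S.fixes_iff h0 hself).mp ⟨hm, hx⟩
  · intro y hy hyy hy1 c hcy
    exact S.t1 h0 hself (order_of_sq hyy hy1) hy hcy
  · intro g hg y hy hyy hy1 hcon
    apply hg
    have h1 : Fixes (g * y * g⁻¹) (cj g N0) := hy.cj g
    have h2 : orderOf (g * y * g⁻¹) = 2 := by rw [orderOf_conj]; exact order_of_sq hyy hy1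
    exact S.t2 h0 hself hself h2 hcon h1
  · intro g hg
    by_contra hcon
    push Not at hcon
    apply hg
    refine t3 S h0 hone hs gam four fun x hx => ?_
    obtain ⟨k, hk, -, hkx⟩ := hcon x (mem_sup_left hx)
    exact ⟨k, hk, hkx⟩
  · obtain ⟨a, b, ha, hb, h1⟩ := four
    exact ⟨a, ha, b, hb, h1⟩

/-- **The class of `N₀` has at least two members.** -/
theorem false_of_one (h1173 : SL.P1173.{u}) (hO : oddCore G = ⊥) {X : Subgroup G} (hX : X.Normal)
    (hXs : IsSimpleGroup X) (hXc : centralizer (X : Set G) = ⊥) {N0 : Subgroup G} (h : Cls N0)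
    (hone : ∀ N ∈ Cj N0, ClsRel.Rel N N0 → N = N0) : False :=
  (data (Cls.sys h) (self_mem_Cj N0) hone h.simple h.nab h.gam h.four).false_of_normal_simple h1173 hO hX hXs hXc

/-- **The class of `N₀` has at least two members**, in terms of conjugates. -/
theorem exists_two (h1173 : SL.P1173.{u}) (hO : oddCore G = ⊥) {X : Subgroup G} (hX : X.Normal)
    (hXs : IsSimpleGroup X) (hXc : centralizer (X : Set G) = ⊥) {N0 : Subgroup G} (h : Cls N0) :
    ∃ g : G, cj g N0 ≠ N0 ∧ cj g N0 ≤ KN N0 ∧ N0 ≤ KN (cj g N0) := by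
  by_contra hcon
  push Not at hcon
  refine false_of_one h1173 hO hX hXs hXc h ?_
  rintro _ ⟨g, rfl⟩ hr
  by_contra hne
  rcases hr with hr | ⟨h1, h2⟩
  · exact hne hr
  · exact hcon g hne h1 h2

/-! ### `H ≠ G` if the class has at least two members -/

/-- A finite group with `O(G) = 1` and a normal simple subgroup `X` with `C(X) = 1` does not have two distinct
2-components. -/
theorem false_of_two_comps (hO : oddCore G = ⊥) {X : Subgroup G} (hX : X.Normal)
    (hXs : IsSimpleGroup X) (hXc : centralizer (X : Set G) = ⊥) {N N' : Subgroup G} (h : IsComp ⊤ N)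
    (h' : IsComp ⊤ N') (hne : N ≠ N') : False := by
  have htop : core (⊤ : Subgroup G) = ⊥ := by
    have h1 : (core (⊤ : Subgroup G)).Normal := by
      have h2 : (⊤ : Subgroup G) ≤ normalizer (core (⊤ : Subgroup G) : Set G) := le_normalizer_core _
      exact normalizer_eq_top_iff.mp (top_le_iff.mp h2)
    have h2 : core (⊤ : Subgroup G) ≤ oddCore G := by
      refine Lib.Cores.le_pPrimeCore h1 ?_
      exact (odd_card_core _).coprime_two_right
    rw [hO] at h2
    exact le_bot_iff.mp h2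
  have key : ∀ {K M : Subgroup G}, IsComp ⊤ K → IsComp ⊤ M → K ≠ M → ∀ k ∈ K, ∀ m ∈ M, k * m = m * k := by
    intro K M hK hM hKM k hk m hm
    have h1 := hK.core_le_core (hK.comm_le_core hM hKM (Subgroup.commutator_mem_commutator hk hm)).1
    rw [htop, mem_bot] at h1
    exact commutatorElement_eq_one_iff_mul_comm.mp h1
  -- `X ≤ K` for every 2-component `K`
  have hle : ∀ {K : Subgroup G}, IsComp ⊤ K → X ≤ K := by
    intro K hK
    by_contra hXK
    -- the product of the conjugates of `K`; all of them commute with each other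
    have hcj : ∀ g : G, IsComp ⊤ (cj g K) := fun g => by
      have h1 := hK.cj g
      have h2 : cj g (⊤ : Subgroup G) = ⊤ := by
        rw [cj_def, ← MonoidHom.range_eq_map, MonoidHom.range_eq_top]
        exact (MulAut.conj g).surjective
      rwa [h2] at h1
    obtain ⟨E, hE⟩ : ∃ E : Subgroup G, E = ⨆ g : G, cj g K := ⟨_, rfl⟩
    have hEn : E.Normal := by
      refine ⟨fun n hn g => ?_⟩
      have h1 : cj g E = E := by
        rw [hE, cj_def, Subgroup.map_iSup]
        apply le_antisymm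
        · refine iSup_le fun a => ?_
          rw [← cj_def, ← cj_mul]
          exact le_iSup (fun g => cj g K) (g * a)
        · refine iSup_le fun a => ?_
          have h2 : cj a K = cj g (cj (g⁻¹ * a) K) := by rw [← cj_mul]; congr 1; group
          rw [h2]
          exact le_iSup (fun b => (cj b K).map (MulAut.conj g).toMonoidHom) (g⁻¹ * a)
      rw [← h1]
      exact conj_mem_cj hn
    have hKE : K ≤ E := by
      have h1 := le_iSup (fun g => cj g K) 1
      rw [cj_one] at h1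
      rw [hE]; exact h1
    have hEK : E ≤ normalizer (K : Set G) := by
      rw [hE]
      refine iSup_le fun g => ?_
      by_cases h1 : K = cj g K
      · rw [← h1]; exact le_normalizer
      · intro x hx
        rw [mem_normalizer_iff_cj]
        exact cj_of_comm' fun k hk => (key hK (hcj g) h1 k hk x hx).symm
    -- `X ≤ E`
    have hKne : K ≠ ⊥ := hK.ne_bot
    have step : ∀ {A : Subgroup G}, (∀ x ∈ X, x ∈ normalizer (A : Set G)) → A ≠ ⊥ → X ≤ A := by
      intro A hA hA1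
      have h1 : ((A ⊓ X).subgroupOf X).Normal := by
        refine normal_subgroupOf_of_le_normalizer fun x hx => ?_
        have e1 := hA x hx
        have e2 : x ∈ normalizer (X : Set G) := le_normalizer hx
        rw [mem_normalizer_iff_cj] at e1 e2 ⊢
        rw [cj_inf, e1, e2]
      rcases hXs.eq_bot_or_eq_top_of_normal _ h1 with h2 | h2
      · exfalso
        apply hA1
        rw [eq_bot_iff, ← hXc]
        intro a ha
        rw [mem_centralizer_iff]
        intro x hx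
        have h3 : x * a * x⁻¹ * a⁻¹ ∈ A ⊓ X := by
          refine ⟨A.mul_mem ((Subgroup.mem_normalizer_iff.mp (hA x hx) a).mp ha) (A.inv_mem ha), ?_⟩
          have h5 : x * a * x⁻¹ * a⁻¹ = x * (a * x⁻¹ * a⁻¹) := by group
          rw [SetLike.mem_coe, h5]
          exact X.mul_mem hx (hX.conj_mem _ (X.inv_mem hx) a)
        have h4 : A ⊓ X = ⊥ := by
          rw [subgroupOf_eq_bot] at h2
          have h6 := h2.eq_bot
          rwa [inf_assoc, inf_idem] at h6
        rw [h4, mem_bot] at h3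
        calc x * a = (x * a * x⁻¹ * a⁻¹) * a * x := by group
          _ = a * x := by rw [h3, one_mul]
      · intro x hx
        have h3 : (⟨x, hx⟩ : X) ∈ (A ⊓ X).subgroupOf X := by rw [h2]; trivial
        rw [mem_subgroupOf] at h3
        exact h3.1
    have hXE : X ≤ E := step (fun x _ => by rw [normalizer_eq_top_iff.mpr hEn]; trivial) (by
      intro h1
      exact hKne (le_bot_iff.mp (h1 ▸ hKE)))
    exact hXK (step (fun x hx => hEK (hXE hx)) hKne)
  have hX1 : X ≤ centralizer (X : Set G) := by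
    intro x hx
    rw [mem_centralizer_iff]
    intro y hy
    exact key h h' hne y (hle h hy) x (hle h' hx)
  rw [hXc, le_bot_iff] at hX1
  have h2 := hXs.toNontrivial
  rw [hX1] at h2
  exact (not_nontrivial_iff_subsingleton.mpr inferInstance) h2

/-- **`H ≠ G`** if the class has at least two members -/
theorem H_ne_top (S : Sys 𝒩) {N0 : Subgroup G} (h0 : N0 ∈ 𝒩) (hO : oddCore G = ⊥) {X : Subgroup G}
    (hX : X.Normal) (hXs : IsSimpleGroup X) (hXc : centralizer (X : Set G) = ⊥)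
    (h2 : ∃ N ∈ S.cls h0, N ≠ N0) : S.H h0 ≠ ⊤ := by
  intro htop
  obtain ⟨N, hN, hne⟩ := h2
  have h3 := S.isComp_H h0 hN
  have h4 := S.isComp_H h0 (S.self_mem_cls h0)
  rw [htop] at h3 h4
  exact false_of_two_comps hO hX hXs hXc h3 h4 hne

end Cfsg.Agent.UGT.L2i.ClsOne
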