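import Cfsg.Agent.UGT.L2i.Frame
import Cfsg.Agent.UGT.TMC

/-!
# CANON: `Pkg M Q` and the functor give `Cls N₀`, `N₀ = O^{2'}(M W)`

`In Wh M Q W`: `Pkg M Q`, `W = Wh (⟨s⟩ V)` for all involutions `s ∈ Q`, four-groups `V ≤ M`; `W` odd;
`[O(C(s)), M] ≤ W`.

`In.cls : Cls (pElem 2 (M ⊔ W))`.
-/

set_option autoImplicit false
set_option linter.unusedSectionVars false
set_option linter.unusedVariables false

open Cfsg Subgroup
open Cfsg.Agent.SignalizersComponents Cfsg.Agent.Lib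
open Cfsg.Agent.SignalizersComponents.IntrinsicBasic
open Cfsg.Agent.SignalizersComponents.IntrinsicIntr
open Cfsg.Agent.Intrinsic.Basic Cfsg.Agent.Intrinsic.Cen Cfsg.Agent.Intrinsic.Diag
open Cfsg.Agent.McLLyComp.Act
open Cfsg.Agent.UGT.Triple Cfsg.Agent.UGT.TMCSyl
open Cfsg.Agent.UGT.TriBase (IsSyl exists_isSyl card_cj fixes_self' exists_central isPGroup_cj)
open Cfsg.Agent.UGT.L2Inner
open scoped commutatorElement

universe u

namespace Cfsg.Agent.UGT.L2i

variable {G : Type u} [Group G] [Finite G]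
variable {Wh : Subgroup G → Subgroup G} {M Q Y V W : Subgroup G}

theorem order_two {x : G} (h : x * x = 1) (h1 : x ≠ 1) : orderOf x = 2 :=
  orderOf_eq_prime (by rw [pow_two, h]) h1

/-! ### consequences of `Pkg` -/

namespace Pkg

variable (P : Pkg M Q)
include P

theorem frame (hY : Four Y) (hYQ : Y ≤ Q) : Frame M Y where
  self := P.self
  facts := P.facts
  four := hY
  comm := fun m hm y hy => (P.comm y (hYQ hy) m hm).symm
  ex := fun s hs hs1 => P.good s (hYQ hs) (order_two (hY.elem s hs) hs1)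

theorem exists_V : ∃ V : Subgroup G, Four V ∧ V ≤ M := by
  have hp : Fact (Nat.Prime 2) := ⟨Nat.prime_two⟩
  obtain ⟨e, he⟩ := exists_prime_orderOf_dvd_card' 2 P.facts.even
  have hee := sq_of_order he
  have he1 := ne_one_of_order he
  obtain ⟨f, hff, hf1, hfe, hef⟩ := P.facts.four e hee he1
  obtain ⟨V, hV, hVM, -⟩ := exists_four_lift' P.self (R := ⊥) IsPGroup.of_bot bot_le hee hff hef he1 hf1
    hfe (by
      intro r hr
      rw [mem_bot] at hr
      subst hr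
      exact ⟨one_mem _, act_of_fixes (fixes_one M) _, act_of_fixes (fixes_one M) _⟩)
  exact ⟨V, hV, hVM⟩

theorem exists_z : ∃ z ∈ Q, orderOf z = 2 ∧ ∀ q ∈ Q, q * z = z * q := by
  obtain ⟨a, haQ, b, hbQ, ha, hb, hab, hne⟩ := P.rank
  refine exists_central P.two le_rfl le_normalizer ?_
  rintro rfl
  exact ne_one_of_order ha (mem_bot.mp haQ)

theorem exists_four_of {y : G} (hy : y ∈ Q) (hy2 : orderOf y = 2) :
    ∃ Y : Subgroup G, Four Y ∧ Y ≤ Q ∧ y ∈ Y := by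
  have hyy := sq_of_order hy2
  have hy1 := ne_one_of_order hy2
  obtain ⟨z, hzQ, hz2, hzc⟩ := P.exists_z
  have hzz := sq_of_order hz2
  have hz1 := ne_one_of_order hz2
  by_cases hyz : y = z
  · subst hyz
    obtain ⟨a, haQ, b, hbQ, ha, hb, hab, hne⟩ := P.rank
    have haa := sq_of_order ha
    have hbb := sq_of_order hb
    have hF := four_of haa hbb hab (ne_one_of_order ha) (ne_one_of_order hb) hne.symm
    obtain ⟨c, hc, hc1, hcy⟩ := hF.exists_ne y
    have hcQ : c ∈ Q := jn_le hbQ (by rw [zpowers_le]; exact haQ) hc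
    refine ⟨jn c (zpowers y), four_of hyy (hF.elem c hc) (hzc c hcQ).symm hy1 hc1 hcy, ?_, ?_⟩
    · exact jn_le hcQ (by rw [zpowers_le]; exact hy)
    · exact le_jn _ _ (mem_zpowers y)
  · refine ⟨jn z (zpowers y), four_of hyy hzz (hzc y hy) hy1 hz1 (Ne.symm hyz), ?_, ?_⟩
    · exact jn_le hzQ (by rw [zpowers_le]; exact hy)
    · exact le_jn _ _ (mem_zpowers y)

/-- `W` -/
theorem exists_W (hW : ∀ Y : Subgroup G, Four Y → Y ≤ Q → FW Wh M Y) : ∃ W : Subgroup G, ∀ s ∈ Q, s * s = 1 → s ≠ 1 → ∀ V : Subgroup G, Four V →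
    V ≤ M → Wh (jn s V) = W := by
  obtain ⟨V₀, hV₀, hV₀M⟩ := P.exists_V
  obtain ⟨z, hzQ, hz2, hzc⟩ := P.exists_z
  have hzz := sq_of_order hz2
  have hz1 := ne_one_of_order hz2
  refine ⟨Wh (jn z V₀), fun s hs hss hs1 V hV hVM => ?_⟩
  obtain ⟨Y, hY, hYQ, hsY⟩ := P.exists_four_of hs (order_two hss hs1)
  rw [(P.frame hY hYQ).eq_of_four (hW Y hY hYQ) hV hVM hV₀ hV₀M hsY hs1]
  by_cases hsz : s = z
  · rw [hsz]
  · have hY' := four_of hss hzz (hzc s hs) hs1 hz1 (Ne.symm hsz)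
    have hs' : s ∈ jn z (zpowers s) := le_jn _ _ (mem_zpowers s)
    have hz' : z ∈ jn z (zpowers s) := self_mem_jn _ _
    have hY'Q : jn z (zpowers s) ≤ Q := jn_le hzQ (by rw [zpowers_le]; exact hs)
    have F := P.frame hY' hY'Q
    exact (hW _ hY' hY'Q).eq hV₀ hV₀M (F.s_le hV₀ hV₀M hs') (F.s_le hV₀ hV₀M hz') (F.card_s hV₀ hV₀M hs' hs1)
      (F.card_s hV₀ hV₀M hz' hz1)

end Pkg

/-- the input of CANON after the functor -/
structure In (Wh : Subgroup G → Subgroup G) (M Q W : Subgroup G) : Prop where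
  pkg : Pkg M Q
  fw : ∀ Y : Subgroup G, Four Y → Y ≤ Q → FW Wh M Y
  eq : ∀ s ∈ Q, s * s = 1 → s ≠ 1 → ∀ V : Subgroup G, Four V → V ≤ M → Wh (jn s V) = W
  odd : Odd (Nat.card W)
  /-- (5) -/
  five : ∀ z ∈ Q, orderOf z = 2 → ∀ c ∈ core (centralizer ({z} : Set G)), ∀ m ∈ M, ⁅c, m⁆ ∈ W

/-- **(d)** an odd subgroup `X` of `C(z)` normalized by `M`, `M O(L) = L` a 2-component of `C(z)`: then `L` is a
2-component of a group whose core contains `X` -/
theorem exists_restrict {z : G} {L X : Subgroup G} (hL : IsComp (centralizer ({z} : Set G)) L)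
    (hsup : M ⊔ core L = L) (hX : X ≤ centralizer ({z} : Set G)) (hXo : Odd (Nat.card X))
    (hMX : M ≤ normalizer (X : Set G)) : ∃ H, IsComp H L ∧ X ≤ core H := by
  obtain ⟨S, hS⟩ : ∃ S, S = core (centralizer ({z} : Set G)) ⊔ X := ⟨_, rfl⟩
  have hML : M ≤ L := by rw [← hsup]; exact le_sup_left
  have hMC : M ≤ centralizer ({z} : Set G) := hML.trans hL.le
  have hXn : X ≤ normalizer (core (centralizer ({z} : Set G)) : Set G) :=
    hX.trans (le_normalizer_core _)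
  have hSo : Odd (Nat.card S) := by
    rw [hS]
    exact Odd.of_dvd_nat ((odd_card_core _).mul hXo) (CoprimeBasic.card_sup_dvd hXn)
  have hMS : M ≤ normalizer (S : Set G) := by
    intro m hm
    have e1 := mem_normalizer_iff_cj.mp (le_normalizer_core _ (hMC hm))
    have e2 := mem_normalizer_iff_cj.mp (hMX hm)
    rw [mem_normalizer_iff_cj, hS, cj_def, Subgroup.map_sup, ← cj_def, ← cj_def, e1, e2]
  have hSC : S ≤ centralizer ({z} : Set G) := hS ▸ sup_le (core_le _) hX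
  have hLS : L ≤ S ⊔ M := by
    rw [← hsup]
    refine sup_le le_sup_right ?_
    have h1 : core L ≤ S := hS ▸ hL.core_le_core.trans le_sup_left
    exact h1.trans le_sup_left
  refine ⟨S ⊔ M, hL.restrict (sup_le hSC hMC) hLS, ?_⟩
  have h1 : S ≤ core (S ⊔ M) :=
    le_core le_sup_left (sup_le le_normalizer hMS) hSo
  exact (hS ▸ le_sup_right : X ≤ S).trans h1

/-- **(d)** -/
theorem fixes_of_odd {z : G} {L X : Subgroup G} (hL : IsComp (centralizer ({z} : Set G)) L)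
    (hsup : M ⊔ core L = L) (hX : X ≤ centralizer ({z} : Set G)) (hXo : Odd (Nat.card X))
    (hMX : M ≤ normalizer (X : Set G)) {x : G} (hx : x ∈ X) : Fixes x L := by
  obtain ⟨H, hH, hXH⟩ := exists_restrict hL hsup hX hXo hMX
  exact hH.fixes_of_core (hXH hx)

/-- 2-elements of a group lie in a normal subgroup of odd index -/
theorem mem_of_odd_index {B B₁ : Subgroup G} (hle : B₁ ≤ B) (hn : B ≤ normalizer (B₁ : Set G))
    (ho : Odd (B₁.relIndex B)) {x : G} (hx : x ∈ B) {n : ℕ} (hxn : x ^ 2 ^ n = 1) : x ∈ B₁ := by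
  have hnorm : (B₁.subgroupOf B).Normal := normal_subgroupOf_of_le_normalizer hn
  have h1 : (⟨x, hx⟩ : B) ^ (B₁.relIndex B) ∈ B₁.subgroupOf B := Subgroup.pow_index_mem _ _
  have h2 : x ^ (B₁.relIndex B) ∈ B₁ := h1
  have hcop : IsCoprime ((B₁.relIndex B : ℕ) : ℤ) ((2 ^ n : ℕ) : ℤ) := by
    rw [Nat.isCoprime_iff_coprime]
    exact Nat.Coprime.pow_right n (Nat.coprime_two_right.mpr ho)
  obtain ⟨a, b, hab⟩ := hcop
  have h3 : x = x ^ (a * (B₁.relIndex B : ℤ) + b * ((2 ^ n : ℕ) : ℤ)) := by rw [hab, zpow_one]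
  rw [h3, zpow_add, mul_comm a, mul_comm b, zpow_mul, zpow_mul, zpow_natCast, zpow_natCast, hxn, one_zpow,
    mul_one]
  exact zpow_mem h2 a

theorem At.cj {y : G} {L N : Subgroup G} (h : At y L N) (g : G) :
    At (g * y * g⁻¹) (IntrinsicBasic.cj g L) (IntrinsicBasic.cj g N) := by
  obtain ⟨h1, M, h2, h3, h4, h5, h6⟩ := h
  refine ⟨?_, IntrinsicBasic.cj g M, cj_mono h2, cj_mono h3, h4.cj g, ?_, ?_⟩
  · rw [← cj_centralizer]; exact h1.cj g
  · rw [core_cj, cj_def, cj_def, ← Subgroup.map_sup, h5]; rfl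
  · rw [core_cj, cj_def, cj_def, ← Subgroup.map_sup, h6]; rfl

namespace In

variable (I : In Wh M Q W)
include I

theorem fwcj (g : G) (D : Subgroup G) : Wh (IntrinsicBasic.cj g D) = IntrinsicBasic.cj g (Wh D) := by
  obtain ⟨z, hzQ, hz2, -⟩ := I.pkg.exists_z
  obtain ⟨Y, hY, hYQ, -⟩ := I.pkg.exists_four_of hzQ hz2
  exact (I.fw Y hY hYQ).cj g D

theorem M_le_norm : M ≤ normalizer (W : Set G) := by
  obtain ⟨V, hV, hVM⟩ := I.pkg.exists_V
  obtain ⟨z, hzQ, hz2, -⟩ := I.pkg.exists_z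
  obtain ⟨Y, hY, hYQ, hzY⟩ := I.pkg.exists_four_of hzQ hz2
  have F := I.pkg.frame hY hYQ
  rw [← I.eq z hzQ (sq_of_order hz2) (ne_one_of_order hz2) V hV hVM]
  exact F.M_le (I.fw Y hY hYQ) hV hVM (F.s_le hV hVM hzY) (F.card_s hV hVM hzY (ne_one_of_order hz2))

theorem core_le_norm {z : G} (hzQ : z ∈ Q) (hz2 : orderOf z = 2) :
    core (centralizer ({z} : Set G)) ≤ normalizer (W : Set G) := by
  obtain ⟨V, hV, hVM⟩ := I.pkg.exists_V
  obtain ⟨Y, hY, hYQ, hzY⟩ := I.pkg.exists_four_of hzQ hz2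
  have F := I.pkg.frame hY hYQ
  rw [← I.eq z hzQ (sq_of_order hz2) (ne_one_of_order hz2) V hV hVM]
  exact F.core_le_norm (I.fw Y hY hYQ) hV hVM (F.s_le hV hVM hzY) (F.card_s hV hVM hzY (ne_one_of_order hz2)) hzY

theorem L_le_norm {z : G} (hzQ : z ∈ Q) (hz2 : orderOf z = 2) {L : Subgroup G}
    (hL : IsComp (centralizer ({z} : Set G)) L) (hsup : M ⊔ core L = L) : L ≤ normalizer (W : Set G) := by
  have h : M ⊔ core L ≤ normalizer (W : Set G) :=
    sup_le I.M_le_norm (hL.core_le_core.trans (I.core_le_norm hzQ hz2))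
  rwa [hsup] at h

/-- four-groups of `L` -/
theorem eq_of_L {z : G} (hzQ : z ∈ Q) (hz2 : orderOf z = 2) {L V' : Subgroup G}
    (hL : IsComp (centralizer ({z} : Set G)) L) (hsup : M ⊔ core L = L) (hV' : Four V') (hVL : V' ≤ L) :
    Wh (jn z V') = W := by
  obtain ⟨V, hV, hVM⟩ := I.pkg.exists_V
  obtain ⟨Y, hY, hYQ, hzY⟩ := I.pkg.exists_four_of hzQ hz2
  have F := I.pkg.frame hY hYQ
  rw [← I.eq z hzQ (sq_of_order hz2) (ne_one_of_order hz2) V hV hVM]
  exact F.eq_of_L (I.fw Y hY hYQ) hV hVM hzY (ne_one_of_order hz2) hL hsup hV' hVL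

/-- **(4)** -/
theorem mem_norm {z : G} (hzQ : z ∈ Q) (hz2 : orderOf z = 2) {L : Subgroup G}
    (hL : IsComp (centralizer ({z} : Set G)) L) (hsup : M ⊔ core L = L) {g : G} (hg : g * z = z * g)
    (hgL : g ∈ normalizer (L : Set G)) : g ∈ normalizer (W : Set G) := by
  obtain ⟨V, hV, hVM⟩ := I.pkg.exists_V
  obtain ⟨Y, hY, hYQ, hzY⟩ := I.pkg.exists_four_of hzQ hz2
  have F := I.pkg.frame hY hYQ
  rw [← I.eq z hzQ (sq_of_order hz2) (ne_one_of_order hz2) V hV hVM]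
  exact F.mem_norm (I.fw Y hY hYQ) hV hVM hzY (ne_one_of_order hz2) hL hsup hg hgL

/-! ### `N₀` -/

theorem M_le : M ≤ PComponents.pElem 2 (M ⊔ W) := by
  have h := PComponents.pElem_mono (p := 2) (le_sup_left : M ≤ M ⊔ W)
  rwa [I.pkg.self.pElem_eq] at h

/-- elements of `M ⊔ W` -/
theorem mem_MW {x : G} (hx : x ∈ M ⊔ W) : ∃ m ∈ M, m⁻¹ * x ∈ W := by
  have h1 : x ∈ ((M ⊔ W : Subgroup G) : Set G) := hx
  rw [Subgroup.coe_mul_of_left_le_normalizer_right M W I.M_le_norm] at h1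
  obtain ⟨m, hm, w, hw, rfl⟩ := h1
  exact ⟨m, hm, by simpa using hw⟩

theorem sup : M ⊔ core (PComponents.pElem 2 (M ⊔ W)) = PComponents.pElem 2 (M ⊔ W) := by
  obtain ⟨N, hN⟩ : ∃ N, N = PComponents.pElem 2 (M ⊔ W) := ⟨_, rfl⟩
  have hMN : M ≤ N := hN ▸ I.M_le
  have hNle : N ≤ M ⊔ W := hN ▸ PComponents.pElem_le _
  rw [← hN]
  refine sup_of_exists hMN fun x hx => ?_
  obtain ⟨m, hm, hw⟩ := I.mem_MW (hNle hx)
  refine ⟨m, hm, ?_⟩
  have hle : W ⊓ N ≤ core N := by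
    refine le_core inf_le_right ?_ (Odd.of_dvd_nat I.odd (card_dvd_of_le inf_le_left))
    intro n hn
    have h1 : n ∈ normalizer (W : Set G) := by
      have h2 : M ⊔ W ≤ normalizer (W : Set G) := sup_le I.M_le_norm le_normalizer
      exact h2 (hNle hn)
    rw [mem_normalizer_iff_cj] at h1 ⊢
    rw [cj_inf, h1, cj_eq_self_of_mem hn]
  exact hle ⟨hw, N.mul_mem (N.inv_mem (hMN hm)) hx⟩

theorem self : IsComp (PComponents.pElem 2 (M ⊔ W)) (PComponents.pElem 2 (M ⊔ W)) := by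
  obtain ⟨e, -⟩ := exists_quotEquiv I.sup
  have h := isComp_iff.mp I.pkg.self
  refine isComp_iff.mpr ⟨le_rfl, ?_, PCompQuot.quasisimple_congr e h.2.2.1, TMC.pElem_pElem _⟩
  rw [subgroupOf_self]
  exact Normal.isSubnormal inferInstance

theorem le_norm : PComponents.pElem 2 (M ⊔ W) ≤ normalizer (W : Set G) :=
  (PComponents.pElem_le _).trans (sup_le I.M_le_norm le_normalizer)

/-- `Q` fixes `N₀` -/
theorem fixes {q : G} (hq : q ∈ Q) : Fixes q (PComponents.pElem 2 (M ⊔ W)) := by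
  obtain ⟨z, hzQ, hz2, hzc⟩ := I.pkg.exists_z
  obtain ⟨L, hL, hML, hsup⟩ := I.pkg.good z hzQ hz2
  have hqM : cj q M = M := cj_of_comm (I.pkg.comm q hq)
  have hqMn : q ∈ normalizer (M : Set G) := mem_normalizer_iff_cj.mpr hqM
  have hqL : q ∈ normalizer (L : Set G) := by
    have h1 := isComp_cj_of_mem hL (mem_c (hzc q hq))
    have h2 : M ≤ cj q L := by
      have := cj_mono (g := q) hML
      rwa [hqM] at this
    exact mem_normalizer_iff_cj.mpr (I.pkg.self.unique hL h1 hML h2).symm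
  have hqW : q ∈ normalizer (W : Set G) := I.mem_norm hzQ hz2 hL hsup (hzc q hq) hqL
  have hqN : q ∈ normalizer (PComponents.pElem 2 (M ⊔ W) : Set G) := by
    rw [mem_normalizer_iff_cj, cj_pElem, cj_def, Subgroup.map_sup, ← cj_def, ← cj_def, hqM,
      mem_normalizer_iff_cj.mp hqW]
  refine (fixes_iff_of_sup I.sup hqMn hqN).mp (fixes_self' fun m hm => ?_)
  exact mem_c (I.pkg.comm q hq m hm).symm

/-- **Lemma G** `cen N₀ z ≤ L_z` -/
theorem cen_le {z : G} (hzQ : z ∈ Q) (hz2 : orderOf z = 2) {L : Subgroup G}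
    (hL : IsComp (centralizer ({z} : Set G)) L) (hsup : M ⊔ core L = L) :
    cen (PComponents.pElem 2 (M ⊔ W)) z ≤ L := by
  have hML : M ≤ L := by rw [← hsup]; exact le_sup_left
  have hMC : M ≤ centralizer ({z} : Set G) := hML.trans hL.le
  obtain ⟨H, hH, hXH⟩ := exists_restrict (M := M) (X := W ⊓ centralizer ({z} : Set G)) hL hsup inf_le_right
    (Odd.of_dvd_nat I.odd (card_dvd_of_le inf_le_left)) (by
      intro m hm
      have h1 := mem_normalizer_iff_cj.mp (I.M_le_norm hm)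
      rw [mem_normalizer_iff_cj, cj_inf, h1, cj_eq_self_of_mem (hMC hm)])
  refine (Subgroup.closure_le _).mpr ?_
  rintro x ⟨⟨hx, hxz⟩, n, hn⟩
  obtain ⟨m, hm, hw⟩ := I.mem_MW (PComponents.pElem_le _ hx)
  have h2 : m⁻¹ * x ∈ centralizer ({z} : Set G) := mul_mem (inv_mem (hMC hm)) hxz
  exact hH.mem_of_two (hML hm) (hXH (mem_inf.mpr ⟨hw, h2⟩)) hn

theorem M_le_cen {z : G} (hzQ : z ∈ Q) : M ≤ cen (PComponents.pElem 2 (M ⊔ W)) z := by
  have h := PComponents.pElem_mono (p := 2) (le_inf I.M_le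
    (show M ≤ centralizer ({z} : Set G) from fun m hm => mem_c (I.pkg.comm z hzQ m hm).symm))
  rwa [I.pkg.self.pElem_eq] at h

/-- **Lemma H** -/
theorem max {R : Subgroup G} (hR : IsPGroup 2 R) (hQR : Q ≤ R)
    (hRf : ∀ r ∈ R, Fixes r (PComponents.pElem 2 (M ⊔ W))) : R = Q := by
  have hp : Fact (Nat.Prime 2) := ⟨Nat.prime_two⟩
  by_contra hne
  have hlt : Q < R := lt_of_le_of_ne hQR (Ne.symm hne)
  obtain ⟨N, hN⟩ : ∃ N, N = PComponents.pElem 2 (M ⊔ W) := ⟨_, rfl⟩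
  rw [← hN] at hRf
  -- `T = N_R(Q)`
  obtain ⟨T, hT⟩ : ∃ T, T = R ⊓ normalizer (Q : Set G) := ⟨_, rfl⟩
  have hTR : T ≤ R := hT ▸ inf_le_left
  have hT2 : IsPGroup 2 T := hR.to_le hTR
  have hQT : Q ≤ T := hT ▸ le_inf hQR le_normalizer
  have hlt' : Q < T := by
    have hnil : Group.IsNilpotent R := hR.isNilpotent
    have h1 : Q.subgroupOf R < ⊤ := by
      rw [lt_top_iff_ne_top]
      intro h
      exact hlt.not_ge (subgroupOf_eq_top.mp h)
    have h2 := (Group.normalizerCondition_of_isNilpotent (G := R)) _ h1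
    obtain ⟨s, hs, hsQ⟩ := SetLike.exists_of_lt h2
    refine lt_of_le_of_ne hQT fun h => hsQ ?_
    rw [mem_subgroupOf]
    have h3 : (s : G) ∈ T := by
      rw [hT, mem_inf]
      refine ⟨s.2, ?_⟩
      rw [mem_normalizer_iff]
      intro x
      rw [mem_normalizer_iff] at hs
      constructor
      · intro hx
        exact (hs ⟨x, hQR hx⟩).mp hx
      · intro hx
        have hxR : x ∈ R := by
          have h4 : x = (s : G)⁻¹ * (s * x * (s : G)⁻¹) * s := by group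
          rw [h4]
          exact mul_mem (mul_mem (inv_mem s.2) (hQR hx)) s.2
        exact (hs ⟨x, hxR⟩).mpr hx
    rw [← h] at h3; exact h3
  -- an involution of `Z(Q)` central in `T`
  obtain ⟨Z, hZ⟩ : ∃ Z, Z = Q ⊓ centralizer (Q : Set G) := ⟨_, rfl⟩
  have hZT : Z ≤ T := hZ ▸ inf_le_left.trans hQT
  have hZn : T ≤ normalizer (Z : Set G) := by
    intro t ht
    have h1 : t ∈ normalizer (Q : Set G) := by rw [hT] at ht; exact ht.2
    have h2 := mem_normalizer_iff_cj.mp h1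
    rw [mem_normalizer_iff_cj, hZ, cj_inf, h2]
    congr 1
    ext x
    rw [mem_cj, mem_centralizer_iff, mem_centralizer_iff]
    constructor
    · intro h q hq
      have hq' : t⁻¹ * q * t ∈ Q := by
        have : q ∈ cj t Q := by rw [h2]; exact hq
        exact mem_cj.mp this
      have h3 := h _ hq'
      calc q * x = t * ((t⁻¹ * q * t) * (t⁻¹ * x * t)) * t⁻¹ := by group
        _ = t * ((t⁻¹ * x * t) * (t⁻¹ * q * t)) * t⁻¹ := by rw [h3]
        _ = x * q := by group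
    · intro h q hq
      have hq' : t * q * t⁻¹ ∈ Q := by
        have : t * q * t⁻¹ ∈ cj t Q := conj_mem_cj hq
        rwa [h2] at this
      have h3 := h _ hq'
      calc q * (t⁻¹ * x * t) = t⁻¹ * ((t * q * t⁻¹) * x) * t := by group
        _ = t⁻¹ * (x * (t * q * t⁻¹)) * t := by rw [h3]
        _ = t⁻¹ * x * t * q := by group
  have hZb : Z ≠ ⊥ := by
    obtain ⟨z, hzQ, hz2, hzc⟩ := I.pkg.exists_z
    intro h
    have h1 : z ∈ Z := by
      rw [hZ]
      exact ⟨hzQ, mem_centralizer_iff.mpr fun q hq => hzc q hq⟩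
    rw [h] at h1
    exact ne_one_of_order hz2 (mem_bot.mp h1)
  obtain ⟨z, hzZ, hz2, hzc⟩ := exists_central hT2 hZT hZn hZb
  have hzQ : z ∈ Q := by rw [hZ] at hzZ; exact hzZ.1
  obtain ⟨L, hL, hML, hsup⟩ := I.pkg.good z hzQ hz2
  have hCL := I.cen_le hzQ hz2 hL hsup
  have hMC := I.M_le_cen hzQ
  have hcomp := isComp_cen I.self (v := z) (H := PComponents.pElem 2 (M ⊔ W))
  rw [← hN] at hCL hMC
  have key : ∀ r ∈ T, r * z = z * r ∧ Fixes r L := by
    intro r hr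
    have hrz := hzc r hr
    refine ⟨hrz, ?_⟩
    have hrN := hRf r (hTR hr)
    have hrC : r ∈ normalizer (cen N z : Set G) := mem_normalizer_cen hrN.1 hrz
    have h1 : cj r M ≤ L := by
      have := cj_mono (g := r) hMC
      rw [mem_normalizer_iff_cj.mp hrC] at this
      exact this.trans hCL
    have h2 := isComp_cj_of_mem hL (mem_c hrz)
    have h3 := (I.pkg.self.cj r).unique hL h2 h1 (cj_mono hML)
    have hrL : r ∈ normalizer (L : Set G) := mem_normalizer_iff_cj.mpr h3.symm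
    have hs1 : cen N z ⊔ core L = L := by
      apply le_antisymm (sup_le hCL (core_le L))
      have h5 : M ⊔ core L ≤ cen N z ⊔ core L := sup_le_sup_right hMC _
      rwa [hsup] at h5
    have hs2 : cen N z ⊔ core N = N := by
      have h4 := hN ▸ I.sup
      apply le_antisymm (sup_le (Cfsg.Agent.Intrinsic.Cen.cen_le N z) (core_le N))
      have h5 : M ⊔ core N ≤ cen N z ⊔ core N := sup_le_sup_right hMC _
      rwa [h4] at h5
    have h6 : Fixes r (cen N z) := (fixes_iff_of_sup hs2 hrC hrN.1).mpr hrN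
    exact (fixes_iff_of_sup hs1 hrC hrL).mp h6
  exact hlt'.ne' (I.pkg.max z hzQ hz2 L hL hML hsup T hT2 hQT key)

/-- `N₀ = O^{2'}(L_z W)` -/
theorem pElem_LW {z : G} (hzQ : z ∈ Q) (hz2 : orderOf z = 2) {L : Subgroup G}
    (hL : IsComp (centralizer ({z} : Set G)) L) (hsup : M ⊔ core L = L) :
    PComponents.pElem 2 (L ⊔ W) = PComponents.pElem 2 (M ⊔ W) := by
  have hML : M ≤ L := by rw [← hsup]; exact le_sup_left
  obtain ⟨B₁, hB₁⟩ : ∃ B₁, B₁ = M ⊔ W := ⟨_, rfl⟩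
  obtain ⟨B, hB⟩ : ∃ B, B = L ⊔ W := ⟨_, rfl⟩
  rw [← hB₁, ← hB]
  have hle : B₁ ≤ B := by rw [hB₁, hB]; exact sup_le_sup_right hML W
  have hcore : core L ≤ normalizer (B₁ : Set G) := by
    intro c hc
    have hcz := hL.core_le_core hc
    have hcW := I.core_le_norm hzQ hz2 hcz
    have h1 : cj c B₁ ≤ B₁ := by
      rw [hB₁, cj_def, Subgroup.map_sup]
      refine sup_le ?_ ?_
      · rintro _ ⟨m, hm, rfl⟩
        change c * m * c⁻¹ ∈ M ⊔ W
        have h2 : c * m * c⁻¹ = ⁅c, m⁆ * m := by rw [commutatorElement_def]; group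
        rw [h2]
        exact mul_mem (mem_sup_right (I.five z hzQ hz2 c hcz m hm)) (mem_sup_left hm)
      · rw [← cj_def, mem_normalizer_iff_cj.mp hcW]
        exact le_sup_right
    rw [mem_normalizer_iff_cj]
    exact Subgroup.eq_of_le_of_card_ge h1 (by rw [card_cj])
  have hBs : B = B₁ ⊔ core L := by
    rw [hB, hB₁, ← hsup]
    rw [hsup]
    apply le_antisymm
    · refine sup_le ?_ (le_sup_right.trans le_sup_left)
      rw [← hsup]
      rw [hsup]
      have h1 : M ⊔ core L ≤ M ⊔ W ⊔ core L := sup_le (le_sup_left.trans le_sup_left) le_sup_right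
      rwa [hsup] at h1
    · exact sup_le (sup_le (hML.trans le_sup_left) le_sup_right) ((core_le L).trans le_sup_left)
  have hn : B ≤ normalizer (B₁ : Set G) := by
    rw [hBs]
    exact sup_le le_normalizer hcore
  have ho : Odd (B₁.relIndex B) := by
    have h1 := CoprimeBasic.card_sup_dvd hcore
    rw [← hBs] at h1
    have h2 := Subgroup.relIndex_mul_relIndex (⊥ : Subgroup G) B₁ B bot_le hle
    rw [relIndex_bot_left, relIndex_bot_left] at h2
    rw [← h2] at h1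
    have h3 := Nat.dvd_of_mul_dvd_mul_left Nat.card_pos h1
    exact Odd.of_dvd_nat (odd_card_core L) h3
  apply le_antisymm _ (PComponents.pElem_mono hle)
  refine (Subgroup.closure_le _).mpr ?_
  rintro x ⟨hx, n, hxn⟩
  exact PComponents.mem_pElem (mem_of_odd_index hle hn ho hx hxn) hxn

/-- uniqueness of `L_z` -/
theorem eq_of_at {z : G} (hzQ : z ∈ Q) (hz2 : orderOf z = 2) {L L' : Subgroup G}
    (hL : IsComp (centralizer ({z} : Set G)) L) (hsup : M ⊔ core L = L)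
    (h : At z L' (PComponents.pElem 2 (M ⊔ W))) : L' = L := by
  obtain ⟨hL', M', h1, h2, h3, -, -⟩ := h
  have h4 : M' ≤ cen (PComponents.pElem 2 (M ⊔ W)) z := by
    have h5 := PComponents.pElem_mono (p := 2) (le_inf h1 (h2.trans hL'.le))
    rwa [h3.pElem_eq] at h5
  exact h3.unique hL' hL h2 (h4.trans (I.cen_le hzQ hz2 hL hsup))

/-- `Q` is a Sylow 2-subgroup of `{g : Fixes g N₀}` -/
theorem isSyl : IsSyl (TriBase.fix ⊤ (PComponents.pElem 2 (M ⊔ W))) Q where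
  two := I.pkg.two
  le := fun q hq => ⟨mem_top q, I.fixes hq⟩
  max := fun R hR hRf hQR => I.max hR hQR fun r hr => (hRf hr).2

/-- every involution fixing `N₀` comes from `Q` -/
theorem exists_conj_Q {y : G} (hy : Fixes y (PComponents.pElem 2 (M ⊔ W))) (hy2 : orderOf y = 2) :
    ∃ (k z : G) (L : Subgroup G), Fixes k (PComponents.pElem 2 (M ⊔ W)) ∧ z ∈ Q ∧ orderOf z = 2 ∧
      y = k * z * k⁻¹ ∧ IsComp (centralizer ({z} : Set G)) L ∧ M ≤ L ∧ M ⊔ core L = L := by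
  have hyy := sq_of_order hy2
  have h1 : zpowers y ≤ TriBase.fix ⊤ (PComponents.pElem 2 (M ⊔ W)) := by
    rw [zpowers_le]
    exact ⟨mem_top y, hy⟩
  obtain ⟨k, hk, hle⟩ := I.isSyl.conj (isPGroup_zpowers hyy) h1
  have hz : k⁻¹ * y * k ∈ Q := mem_cj.mp (hle (mem_zpowers y))
  have hz2 : orderOf (k⁻¹ * y * k) = 2 := by
    have h2 : k⁻¹ * y * k = k⁻¹ * y * k⁻¹⁻¹ := by rw [inv_inv]
    rw [h2]
    exact order_two (conj_sq' hyy) (conj_ne_one' (ne_one_of_order hy2))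
  obtain ⟨L, hL, hML, hsup⟩ := I.pkg.good _ hz hz2
  exact ⟨k, _, L, hk.2, hz, hz2, by group, hL, hML, hsup⟩

theorem at_z {z : G} {L : Subgroup G} (hL : IsComp (centralizer ({z} : Set G)) L) (hML : M ≤ L)
    (hsup : M ⊔ core L = L) : At z L (PComponents.pElem 2 (M ⊔ W)) :=
  ⟨hL, M, I.M_le, hML, I.pkg.self, I.sup, hsup⟩

/-- **(K)** -/
theorem key {y : G} (hy : Fixes y (PComponents.pElem 2 (M ⊔ W))) (hy2 : orderOf y = 2) {L : Subgroup G}
    (h : At y L (PComponents.pElem 2 (M ⊔ W))) :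
    (∃ V : Subgroup G, Four V ∧ V ≤ L) ∧ ∀ V : Subgroup G, Four V → V ≤ L →
      PComponents.pElem 2 (M ⊔ W) = PComponents.pElem 2 (L ⊔ Wh (jn y V)) := by
  obtain ⟨k, z, L₀, hk, hzQ, hz2, rfl, hL₀, hML₀, hsup⟩ := I.exists_conj_Q hy hy2
  obtain ⟨N, hN⟩ : ∃ N, N = PComponents.pElem 2 (M ⊔ W) := ⟨_, rfl⟩
  have hkN : cj k N = N := by
    rw [hN]; exact mem_normalizer_iff_cj.mp hk.1
  have hkN' : cj k⁻¹ N = N := by
    have := congrArg (cj k⁻¹) hkN
    rw [cj_inv_cj] at this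
    exact this.symm
  have h1 : At z (cj k⁻¹ L) N := by
    have h2 := h.cj k⁻¹
    rw [← hN, hkN'] at h2
    have h3 : k⁻¹ * (k * z * k⁻¹) * k⁻¹⁻¹ = z := by group
    rwa [h3] at h2
  have h2 : cj k⁻¹ L = L₀ := I.eq_of_at hzQ hz2 hL₀ hsup (hN ▸ h1)
  have hLk : L = cj k L₀ := by rw [← h2, cj_cj_inv]
  refine ⟨?_, fun V hV hVL => ?_⟩
  · obtain ⟨V, hV, hVM⟩ := I.pkg.exists_V
    exact ⟨cj k V, hV.cj k, by rw [hLk]; exact cj_mono (hVM.trans hML₀)⟩
  · have hV' : cj k⁻¹ V ≤ L₀ := by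
      rw [← h2]; exact cj_mono hVL
    have e1 : Wh (jn z (cj k⁻¹ V)) = W := I.eq_of_L hzQ hz2 hL₀ hsup (hV.cj _) hV'
    have e2 : Wh (jn (k * z * k⁻¹) V) = cj k W := by
      rw [← e1, ← I.fwcj, cj_jn, cj_cj_inv]
    rw [e2, hLk]
    have e3 : cj k L₀ ⊔ cj k W = cj k (L₀ ⊔ W) := by
      rw [cj_def, cj_def, cj_def, Subgroup.map_sup]
    rw [e3, ← cj_pElem, I.pElem_LW hzQ hz2 hL₀ hsup, ← hN, hkN]

theorem cls : Cls (PComponents.pElem 2 (M ⊔ W)) where
  self := I.self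
  simple := by
    obtain ⟨e, -⟩ := exists_quotEquiv I.sup
    have := I.pkg.facts.simple
    exact e.symm.isSimpleGroup
  nab := by
    obtain ⟨e, -⟩ := exists_quotEquiv I.sup
    intro h
    apply I.pkg.facts.nab
    intro x y
    apply e.injective
    rw [map_mul, map_mul]
    exact h _ _
  gam := by
    obtain ⟨e, -⟩ := exists_quotEquiv I.sup
    exact I.pkg.facts.gam.congr e
  four := by
    obtain ⟨a, haQ, b, hbQ, ha, hb, hab, hne⟩ := I.pkg.rank
    exact ⟨a, b, I.fixes haQ, I.fixes hbQ, sq_of_order ha, sq_of_order hb, hab, ne_one_of_order ha,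
      ne_one_of_order hb, hne⟩
  ex := by
    intro y hy hy2
    obtain ⟨k, z, L₀, hk, hzQ, hz2, rfl, hL₀, hML₀, hsup⟩ := I.exists_conj_Q hy hy2
    have h := (I.at_z hL₀ hML₀ hsup).cj k
    rw [mem_normalizer_iff_cj.mp hk.1] at h
    exact ⟨_, h⟩
  nrm := by
    intro y L hy hy2 h g hg hgL
    obtain ⟨⟨V, hV, hVL⟩, hall⟩ := I.key hy hy2 h
    have hgL' := mem_normalizer_iff_cj.mp hgL
    have hVg : cj g V ≤ L := by
      have := cj_mono (g := g) hVL
      rwa [hgL'] at this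
    rw [mem_normalizer_iff_cj]
    have e1 := hall V hV hVL
    have e2 := hall (cj g V) (hV.cj g) hVg
    conv_lhs => rw [e1]
    rw [e2, cj_pElem, cj_def, Subgroup.map_sup, ← cj_def, ← cj_def, hgL', ← I.fwcj, cj_jn_of_comm hg]
  uniq := by
    intro y g L hy2 hy hy' h h'
    obtain ⟨⟨V, hV, hVL⟩, hall⟩ := I.key hy hy2 h
    have hyg : Fixes (g⁻¹ * y * g) (PComponents.pElem 2 (M ⊔ W)) := by
      have := hy'.cj g⁻¹
      rwa [cj_inv_cj, inv_inv] at this
    have hyg2 : orderOf (g⁻¹ * y * g) = 2 := by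
      have h2 : g⁻¹ * y * g = g⁻¹ * y * g⁻¹⁻¹ := by rw [inv_inv]
      rw [h2]
      exact order_two (conj_sq' (sq_of_order hy2)) (conj_ne_one' (ne_one_of_order hy2))
    have hg : At (g⁻¹ * y * g) (cj g⁻¹ L) (PComponents.pElem 2 (M ⊔ W)) := by
      have := h'.cj g⁻¹
      rwa [cj_inv_cj, inv_inv] at this
    have e1 := (I.key hyg hyg2 hg).2 (cj g⁻¹ V) (hV.cj _) (cj_mono hVL)
    have e2 := hall V hV hVL
    have e3 : Wh (jn (g⁻¹ * y * g) (cj g⁻¹ V)) = cj g⁻¹ (Wh (jn y V)) := by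
      rw [← I.fwcj, cj_jn, inv_inv]
    rw [e3] at e1
    have e4 : cj g⁻¹ L ⊔ cj g⁻¹ (Wh (jn y V)) = cj g⁻¹ (L ⊔ Wh (jn y V)) := by
      rw [cj_def, cj_def, cj_def, Subgroup.map_sup]
    rw [e4, ← cj_pElem, ← e2] at e1
    have e5 := congrArg (cj g) e1
    rwa [cj_cj_inv] at e5

end In

end Cfsg.Agent.UGT.L2i
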