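import Cfsg.Agent.UGT.L2i.Canon
import Cfsg.Agent.UGT.Func52

/-!
# CANON: supply of the functor from `Func52.Hyp (Y V)`
-/

set_option autoImplicit false
set_option linter.unusedSectionVars false
set_option linter.unusedVariables false

open Cfsg Subgroup
open Cfsg.Agent.SignalizersComponents Cfsg.Agent.Lib
open Cfsg.Agent.SignalizersComponents.IntrinsicBasic
open Cfsg.Agent.Intrinsic.Basic Cfsg.Agent.Intrinsic.Cen
open Cfsg.Agent.UGT.Triple Cfsg.Agent.UGT.TMCSyl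
open Cfsg.Agent.UGT.L2Inner
open scoped commutatorElement

universe u

namespace Cfsg.Agent.UGT.L2i

variable {G : Type u} [Group G] [Finite G] {M Q Y V W : Subgroup G}

theorem fw_of (FT : ∀ Y : Subgroup G, Odd (Nat.card Y) → Group.IsSolvable Y)
    (H : ∀ V : Subgroup G, Four V → V ≤ M → Func52.Hyp (Y ⊔ V)) : FW Func52.KU M Y where
  cj := fun g D => (Func52.KU_conj D g).symm
  eq := fun {V} hV hVM {D D'} hD hD' hD8 hD'8 =>
    ((H V hV hVM).what_eq FT hD hD8).symm.trans ((H V hV hVM).what_eq FT hD' hD'8)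

theorem odd_of (FT : ∀ Y : Subgroup G, Odd (Nat.card Y) → Group.IsSolvable Y) (F : Frame M Y)
    (hV : Four V) (hVM : V ≤ M) (H : Func52.Hyp (Y ⊔ V)) {s : G} (hs : s ∈ Y) (hs1 : s ≠ 1) :
    Odd (Nat.card (Func52.KU (jn s V))) := by
  rw [← H.what_eq FT (F.s_le hV hVM hs) (F.card_s hV hVM hs hs1)]
  exact H.odd_what FT

/-- `[Δ(B), E] ≤ W` -/
theorem delta_of (FT : ∀ Y : Subgroup G, Odd (Nat.card Y) → Group.IsSolvable Y) (F : Frame M Y)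
    (hV : Four V) (hVM : V ≤ M) (H : Func52.Hyp (Y ⊔ V)) {s : G} (hs : s ∈ Y) (hs1 : s ≠ 1)
    {B : Subgroup G} (hB : B ≤ Y ⊔ V) (hB4 : Nat.card B = 4) :
    ⁅signalizerDelta 2 B, Y ⊔ V⁆ ≤ Func52.KU (jn s V) := by
  rw [← H.what_eq FT (F.s_le hV hVM hs) (F.card_s hV hVM hs hs1)]
  exact (commutator_mono (H.delta_le_WW hB hB4) le_rfl).trans le_sup_left

/-- the output of the functor for a package -/
structure PW (M Q W : Subgroup G) : Prop where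
  fw : ∀ Y : Subgroup G, Four Y → Y ≤ Q → FW Func52.KU M Y
  eq : ∀ s ∈ Q, s * s = 1 → s ≠ 1 → ∀ V : Subgroup G, Four V → V ≤ M → Func52.KU (jn s V) = W
  odd : Odd (Nat.card W)
  delta : ∀ Y V : Subgroup G, Four Y → Y ≤ Q → Four V → V ≤ M → ∀ B ≤ Y ⊔ V, Nat.card B = 4 →
    ⁅signalizerDelta 2 B, Y ⊔ V⁆ ≤ W

theorem Pkg.exists_PW (P : Pkg M Q) (FT : ∀ Y : Subgroup G, Odd (Nat.card Y) → Group.IsSolvable Y)
    (H : ∀ Y V : Subgroup G, Four Y → Y ≤ Q → Four V → V ≤ M → Func52.Hyp (Y ⊔ V)) :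
    ∃ W, PW M Q W := by
  have hfw : ∀ Y : Subgroup G, Four Y → Y ≤ Q → FW Func52.KU M Y := fun Y hY hYQ =>
    fw_of FT fun V hV hVM => H Y V hY hYQ hV hVM
  obtain ⟨W, hW⟩ := P.exists_W hfw
  have key : ∀ Y V : Subgroup G, Four Y → Y ≤ Q → Four V → V ≤ M → ∃ s ∈ Y, s ≠ 1 ∧
      Func52.KU (jn s V) = W := by
    intro Y V hY hYQ hV hVM
    obtain ⟨s, hs, hs1, -⟩ := hY.exists_ne 1
    exact ⟨s, hs, hs1, hW s (hYQ hs) (hY.elem s hs) hs1 V hV hVM⟩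
  refine ⟨W, hfw, hW, ?_, ?_⟩
  · obtain ⟨V, hV, hVM⟩ := P.exists_V
    obtain ⟨z, hzQ, hz2, -⟩ := P.exists_z
    obtain ⟨Y, hY, hYQ, -⟩ := P.exists_four_of hzQ hz2
    obtain ⟨s, hs, hs1, e⟩ := key Y V hY hYQ hV hVM
    rw [← e]
    exact odd_of FT (P.frame hY hYQ) hV hVM (H Y V hY hYQ hV hVM) hs hs1
  · intro Y V hY hYQ hV hVM B hB hB4
    obtain ⟨s, hs, hs1, e⟩ := key Y V hY hYQ hV hVM
    rw [← e]
    exact delta_of FT (P.frame hY hYQ) hV hVM (H Y V hY hYQ hV hVM) hs hs1 hB hB4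

/-- **CANON**, with (5) as a hypothesis on `W` -/
theorem Pkg.exists_cls (P : Pkg M Q) (FT : ∀ Y : Subgroup G, Odd (Nat.card Y) → Group.IsSolvable Y)
    (H : ∀ Y V : Subgroup G, Four Y → Y ≤ Q → Four V → V ≤ M → Func52.Hyp (Y ⊔ V))
    (h5 : ∀ W : Subgroup G, PW M Q W → ∀ z ∈ Q, orderOf z = 2 → ∀ c ∈ core (centralizer ({z} : Set G)),
      ∀ m ∈ M, ⁅c, m⁆ ∈ W) :
    ∃ N₀ : Subgroup G, M ≤ N₀ ∧ M ⊔ core N₀ = N₀ ∧ Cls N₀ := by
  obtain ⟨W, hW⟩ := P.exists_PW FT H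
  have I : In Func52.KU M Q W := ⟨P, hW.fw, hW.eq, hW.odd, h5 W hW⟩
  exact ⟨_, I.M_le, I.sup, I.cls⟩

end Cfsg.Agent.UGT.L2i
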