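import Cfsg.Agent.UGT.L2i.Five
import Cfsg.Agent.UGT.L2i.Supply
import Cfsg.Agent.UGT.L2Inner.WBHyp

/-!
# CANON, end: `Pkg M Q`, `M / O(M) ≅ PSL(2,F)`, all triples of type `PSL(2,F)` ⊢ `∃ N₀, Cls N₀`
-/

set_option autoImplicit false
set_option linter.unusedSectionVars false
set_option linter.unusedVariables false

open Cfsg Subgroup
open Cfsg.Agent.SignalizersComponents Cfsg.Agent.Lib
open Cfsg.Agent.SignalizersComponents.IntrinsicBasic
open Cfsg.Agent.Intrinsic.Basic Cfsg.Agent.Intrinsic.Cen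
open Cfsg.Agent.UGT.Triple Cfsg.Agent.UGT.TMCSyl
open Cfsg.Agent.UGT.L2Inner
open scoped commutatorElement

universe u

namespace Cfsg.Agent.UGT.L2i

variable {G : Type u} [Group G]

theorem l2t_congr {M L : Subgroup G} (e : (↥M ⧸ oddCore ↥M) ≃* (↥L ⧸ oddCore ↥L)) (h : L2T M) :
    L2T L := by
  obtain ⟨F, i1, i2, ⟨R⟩⟩ := h
  refine ⟨F, i1, i2, ⟨⟨e.toMonoidHom.comp R.π, e.surjective.comp R.surj, fun x => ?_, R.two⟩⟩⟩
  rw [← R.ker x]
  exact e.map_eq_one_iff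

variable [Finite G] {M Q Y V W : Subgroup G}

namespace Pkg

variable (P : Pkg M Q)
include P

theorem bp (FT : ∀ Y : Subgroup G, Odd (Nat.card Y) → Group.IsSolvable Y) (hW : PW M Q W)
    (hY : Four Y) (hYQ : Y ≤ Q) (hT : P3.Tor M Y) : Bp M Y W := by
  have F := P.frame hY hYQ
  obtain ⟨V, hV, hVM⟩ := P.exists_V
  obtain ⟨s, hs, hs1, -⟩ := hY.exists_ne 1
  have e := hW.eq s (hYQ hs) (hY.elem s hs) hs1 V hV hVM
  have fw := hW.fw Y hY hYQ
  have hD := F.s_le hV hVM hs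
  have hD8 := F.card_s hV hVM hs hs1
  refine ⟨F, ?_, ?_, ?_, ?_, hT, FT⟩
  · rw [← e]
    exact F.M_le fw hV hVM hD hD8
  · rw [← e]
    intro y hy
    refine fw.mem_of_normalizes (cj_of_comm fun d hd => ?_)
    exact (F.elem hV hVM).comm (mem_sup_left hy) (hD hd)
  · intro s' hs' hs'1
    rw [← e]
    exact F.core_le_norm fw hV hVM hD hD8 hs'
  · intro V' hV' hV'M B hB hB4 z hz e' he'
    refine hW.delta Y V' hY hYQ (four_iff.mp hV') hV'M B hB hB4 (commutator_mem_commutator ?_ he')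
    have h1 : zpowers z ≤ signalizerDelta 2 B := by
      refine Func52.le_delta fun d hd hd1 => ?_
      rw [zpowers_le]
      exact hz d hd hd1
    exact h1 (mem_zpowers z)

/-- **(5)** -/
theorem five (FT : ∀ Y : Subgroup G, Odd (Nat.card Y) → Group.IsSolvable Y) (hW : PW M Q W)
    (hT : ∀ Y : Subgroup G, Four Y → Y ≤ Q → P3.Tor M Y) :
    ∀ z ∈ Q, orderOf z = 2 → ∀ c ∈ core (centralizer ({z} : Set G)), ∀ m ∈ M, ⁅c, m⁆ ∈ W := by
  intro z hz hz2 c hc m hm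
  obtain ⟨Y, hY, hYQ, hzY⟩ := P.exists_four_of hz hz2
  refine (P.bp FT hW hY hYQ (hT Y hY hYQ)).bprime hzY ?_ c hc m hm
  rintro rfl
  rw [orderOf_one] at hz2
  exact absurd hz2 (by norm_num)

/-- **CANON** from weak 2-balance on all `Y V` and the statement (A) -/
theorem canon_of (FT : ∀ Y : Subgroup G, Odd (Nat.card Y) → Group.IsSolvable Y)
    (H : ∀ Y V : Subgroup G, Four Y → Y ≤ Q → Four V → V ≤ M → Func52.Hyp (Y ⊔ V))
    (hT : ∀ Y : Subgroup G, Four Y → Y ≤ Q → P3.Tor M Y) :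
    ∃ N₀ : Subgroup G, M ≤ N₀ ∧ M ⊔ core N₀ = N₀ ∧ Cls N₀ :=
  P.exists_cls FT H fun W hW => P.five FT hW hT

end Pkg

namespace Pkg

variable (P : Pkg M Q) (hM : L2T M) (rep : ∀ (x a : G) (K : Subgroup G), IsTriple x a K → T27 K)
include P hM rep

theorem yFrame (hY : Four Y) (hYQ : Y ≤ Q) : YFrame M Y where
  ysq := hY.elem
  ycard := hY.card
  ym := fun y hy m hm => P.comm y (hYQ hy) m hm
  comp := by
    intro y hy hy1
    obtain ⟨L, h1, h2, h3⟩ := P.good y (hYQ hy) (order_two (hY.elem y hy) hy1)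
    obtain ⟨e, -⟩ := exists_quotEquiv h3
    exact ⟨L, h1, h2, h3, l2t_congr e hM⟩
  rep := rep

theorem hyp (hY : Four Y) (hYQ : Y ≤ Q) (no7 : No7 M Y) (hV : Four V) (hVM : V ≤ M) :
    Func52.Hyp (Y ⊔ V) :=
  ((P.yFrame hM rep hY hYQ).frame hV.elem hV.card hVM).hyp (no7 V hVM hV.elem hV.card)

theorem tor3 (hY : Four Y) (hYQ : Y ≤ Q) (no7 : No7 M Y) : P3.Tor M Y := by
  have F := P.frame hY hYQ
  obtain ⟨t, ht, htt, ht1⟩ := (F.ty).exists_inv
  obtain ⟨s, hs, t', ht', hst, ht't, ho, hne, hinv, hodd, hsc⟩ := P.tor t ht (order_two htt ht1)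
  have T : L2Inner.Tor M t s t' := by
    refine ⟨ht, htt, ht1, hs, hst, hodd, ht', ?_, ht't, hinv⟩
    have := pow_orderOf_eq_one t'
    rw [ho, pow_two] at this
    exact this
  refine ⟨t, ht, htt, ht1, s, hs, hst, hsc, fun y hy hy1 y' hy' x hx hxt => ?_⟩
  have e : t * y' = y' * t := F.comm t ht y' hy'
  rw [e] at hxt ⊢
  exact (P.yFrame hM rep hY hYQ).comm_mem no7 T hy' hy hy1 hx (mem_c hxt)

/-- **CANON**, all triples of type `PSL(2,F)` or `A₇`, no bad configuration -/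
theorem canon7 (no7 : ∀ Y : Subgroup G, Four Y → Y ≤ Q → No7 M Y)
    (FT : ∀ Y : Subgroup G, Odd (Nat.card Y) → Group.IsSolvable Y) :
    ∃ N₀ : Subgroup G, M ≤ N₀ ∧ M ⊔ core N₀ = N₀ ∧ Cls N₀ :=
  P.canon_of FT (fun Y V hY hYQ hV hVM => P.hyp hM rep hY hYQ (no7 Y hY hYQ) hV hVM)
    fun Y hY hYQ => P.tor3 hM rep hY hYQ (no7 Y hY hYQ)

omit rep in
/-- **CANON**, all triples of type `PSL(2,F)` -/
theorem canon (rep : ∀ (x a : G) (K : Subgroup G), IsTriple x a K → L2T K)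
    (FT : ∀ Y : Subgroup G, Odd (Nat.card Y) → Group.IsSolvable Y) :
    ∃ N₀ : Subgroup G, M ≤ N₀ ∧ M ⊔ core N₀ = N₀ ∧ Cls N₀ :=
  P.canon7 hM (fun x a K h => (rep x a K h).t27) (fun _ _ _ => no7_of_rep rep) FT

end Pkg

end Cfsg.Agent.UGT.L2i
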