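import Cfsg.Agent.UGT.L2i.Defs
import Cfsg.Agent.CoverCore.Abs

/-!
# 2-components covering a perfect subgroup (toolkit for the classes of `N₀`)

`KN N`: the elements acting trivially on `N / O(N)`.  Consequences of `At y L N`: `C(y) ∩ N(N) ≤ N(L)`, an element
of `C(y) ∩ N(N)` is trivial on `N / O(N)` iff it is trivial on `L / O(L)`, ...
-/

set_option autoImplicit false

open Cfsg Subgroup
open Cfsg.Agent.SignalizersComponents Cfsg.Agent.Lib
open Cfsg.Agent.SignalizersComponents.IntrinsicBasic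
open Cfsg.Agent.SignalizersComponents.IntrinsicIntr
open Cfsg.Agent.SignalizersComponents.PLayerAut
open Cfsg.Agent.Intrinsic.Basic Cfsg.Agent.Intrinsic.Cen Cfsg.Agent.Intrinsic.Diag
open Cfsg.Agent.McLLyComp.Act
open Cfsg.Agent.UGT.TMCBase
open scoped commutatorElement

namespace Cfsg.Agent.UGT.L2i.ClsCov

section defs

variable {G : Type*} [Group G]

/-- The elements acting trivially on `N / O(N)`. -/
def KN (N : Subgroup G) : Subgroup G where
  carrier := {g | Fixes g N}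
  one_mem' := fixes_one N
  mul_mem' := fun h1 h2 => fixes_mul h1 h2
  inv_mem' := fun h => fixes_inv h

theorem mem_KN {N : Subgroup G} {g : G} : g ∈ KN N ↔ Fixes g N := Iff.rfl

theorem KN_le (N : Subgroup G) : KN N ≤ normalizer (N : Set G) := fun _ h => h.1

theorem cj_KN (g : G) (N : Subgroup G) : cj g (KN N) = KN (cj g N) := by
  ext x
  rw [mem_cj, mem_KN, mem_KN]
  constructor
  · intro h
    have h1 := h.cj g
    rwa [show g * (g⁻¹ * x * g) * g⁻¹ = x by group] at h1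
  · intro h
    have h1 := h.cj g⁻¹
    rwa [cj_inv_cj, inv_inv] at h1

end defs

section cover

variable {G : Type*} [Group G] [Finite G]

/-- a subgroup of odd order of `X` normalised by a covering subgroup lies in the core -/
theorem le_core_of_cover {J X P : Subgroup G} (hs : J ⊔ core X = X) (hP : P ≤ X)
    (hJP : J ≤ normalizer (P : Set G)) (hodd : Odd (Nat.card P)) : P ≤ core X := by
  obtain ⟨W, hW⟩ : ∃ W, W = core X ⊔ P := ⟨_, rfl⟩
  have hJ : J ≤ X := by rw [← hs]; exact le_sup_left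
  have h1 : P ≤ normalizer (core X : Set G) := hP.trans (le_normalizer_core X)
  have hoddW : Odd (Nat.card W) := by
    have h2 := CoprimeBasic.card_sup_dvd (X := core X) (Y := P) h1
    rw [hW]
    exact Odd.of_dvd_nat ((odd_card_core X).mul hodd) h2
  have hnJ : J ≤ normalizer (W : Set G) := by
    intro j hj
    have e1 : j ∈ normalizer (P : Set G) := hJP hj
    have e2 : j ∈ normalizer (core X : Set G) := le_normalizer_core X (hJ hj)
    rw [mem_normalizer_iff_cj] at e1 e2 ⊢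
    rw [hW, cj_def, Subgroup.map_sup, ← cj_def, ← cj_def, e1, e2]
  have hnorm : X ≤ normalizer (W : Set G) := by
    have h4 : J ⊔ core X ≤ normalizer (W : Set G) := by
      refine sup_le hnJ ?_
      have h5 : core X ≤ W := hW ▸ le_sup_left
      exact h5.trans le_normalizer
    rwa [hs] at h4
  have hWX : W ≤ X := hW ▸ sup_le (core_le X) hP
  exact (hW ▸ le_sup_right : P ≤ W).trans (le_core hWX hnorm hoddW)

/-- covering is transitive -/
theorem sup_trans {M J X : Subgroup G} (h1 : M ⊔ core J = J) (h2 : J ⊔ core X = X) :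
    M ⊔ core X = X := by
  refine le_antisymm (sup_le ?_ (core_le X)) ?_
  · have h3 : M ≤ J := by rw [← h1]; exact le_sup_left
    exact h3.trans (by rw [← h2]; exact le_sup_left)
  · have h3 : J ≤ M ⊔ core X := by
      conv_lhs => rw [← h1]
      exact sup_le le_sup_left ((core_le_of_sup h2).trans le_sup_right)
    conv_lhs => rw [← h2]
    exact sup_le h3 le_sup_right

omit [Finite G] in
theorem sup_of_le {M J X : Subgroup G} (h1 : M ⊔ core X = X) (h2 : M ≤ J) (h3 : J ≤ X) :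
    J ⊔ core X = X := by
  refine le_antisymm (sup_le h3 (core_le X)) ?_
  conv_lhs => rw [← h1]
  exact sup_le_sup_right h2 _

omit [Finite G] in
/-- `x` normalises `X` and commutes with a covering subgroup modulo `O(X)` -/
theorem fixes_of_cover {J X : Subgroup G} (hs : J ⊔ core X = X) {x : G}
    (hx : x ∈ normalizer (X : Set G)) (h : ∀ j ∈ J, ⁅x, j⁆ ∈ core X) : Fixes x X := by
  have hJ : J ≤ X := by rw [← hs]; exact le_sup_left
  rw [fixes_iff_conj]
  refine ⟨hx, fun y hy => ?_⟩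
  obtain ⟨j, hj, hc⟩ := exists_mul_of_sup hs hy
  obtain ⟨c, hc'⟩ : ∃ c, c = j⁻¹ * y := ⟨_, rfl⟩
  rw [← hc'] at hc
  have hy' : y = j * c := by rw [hc']; group
  have h1 : j⁻¹ * (x * j * x⁻¹) ∈ core X := by
    have h2 := conj_mem_core (le_normalizer (X.inv_mem (hJ hj))) (h j hj)
    have h3 : j⁻¹ * ⁅x, j⁆ * j⁻¹⁻¹ = j⁻¹ * (x * j * x⁻¹) := by rw [commutatorElement_def]; group
    rwa [h3] at h2
  have h2 : x * c * x⁻¹ ∈ core X := conj_mem_core hx hc
  have h3 : y⁻¹ * (x * y * x⁻¹) = c⁻¹ * (j⁻¹ * (x * j * x⁻¹)) * (x * c * x⁻¹) := by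
    rw [hy']; group
  rw [h3]
  exact mul_mem (mul_mem (inv_mem hc) h1) h2

/-- a covering subgroup generated by 2-elements is a 2-component of itself -/
theorem isComp_of_cover {J X : Subgroup G} (hX : IsComp X X) (hs : J ⊔ core X = X)
    (hp : PComponents.pElem 2 J = J) : IsComp J J := by
  rw [isComp_iff] at hX ⊢
  refine ⟨le_rfl, ?_, ?_, hp⟩
  · rw [subgroupOf_self]; exact Subgroup.IsSubnormal.top
  · obtain ⟨e, -⟩ := exists_quotEquiv hs
    exact isQuasisimple_of_equiv e.symm hX.2.2.1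

theorem sup_pElem {J X : Subgroup G} (hX : IsComp X X) (hs : J ⊔ core X = X) :
    PComponents.pElem 2 J ⊔ core X = X := by
  have hJ : J ≤ X := by rw [← hs]; exact le_sup_left
  refine le_antisymm (sup_le ((PComponents.pElem_le _).trans hJ) (core_le X)) ?_
  refine hX.le_of_two fun k hk n hn => ?_
  -- `k = j c`
  obtain ⟨j, hj, hc⟩ := exists_mul_of_sup hs hk
  have h1 : j ^ 2 ^ n ∈ core X := by
    have h2 : (⟨j, hJ hj⟩ : ↥X) ^ 2 ^ n ∈ oddCore ↥X := by
      have h3 : ((⟨j, hJ hj⟩ : ↥X) : ↥X ⧸ oddCore ↥X) = ((⟨k, hk⟩ : ↥X) : ↥X ⧸ oddCore ↥X) :=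
        QuotientGroup.eq.mpr ((mem_core_iff _).mp hc)
      rw [← QuotientGroup.eq_one_iff, QuotientGroup.mk_pow, h3, ← QuotientGroup.mk_pow]
      have h4 : (⟨k, hk⟩ : ↥X) ^ 2 ^ n = 1 := Subtype.ext (by simpa using hn)
      rw [h4, QuotientGroup.mk_one]
    exact (mem_core_iff (pow_mem (hJ hj) _)).mpr h2
  obtain ⟨m, hm1, hm2⟩ := Cfsg.Agent.Intrinsic.Lifting.exists_two_part (odd_card_core X) h1
  have h5 : j ^ m ∈ PComponents.pElem 2 J := PComponents.mem_pElem (pow_mem hj _) hm1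
  have h6 : k = j ^ m * ((j ^ m)⁻¹ * j * (j⁻¹ * k)) := by group
  rw [h6]
  refine mul_mem (mem_sup_left h5) (mem_sup_right (mul_mem ?_ hc))
  have h7 : (j ^ m)⁻¹ * j = (j⁻¹ * j ^ m)⁻¹ := by group
  rw [h7]
  exact inv_mem hm2

/-! ### odd subgroups -/

omit [Finite G] in
theorem comm_mod_core {N : Subgroup G} {x y s t : G} (hx : x ∈ N) (hy : y ∈ N) (hs : s ∈ N) (ht : t ∈ N)
    (h1 : s⁻¹ * x ∈ core N) (h2 : t⁻¹ * y ∈ core N) : ⁅s, t⁆⁻¹ * ⁅x, y⁆ ∈ core N := by
  have e1 : ((⟨s, hs⟩ : ↥N) : ↥N ⧸ oddCore ↥N) = ((⟨x, hx⟩ : ↥N) : ↥N ⧸ oddCore ↥N) :=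
    QuotientGroup.eq.mpr ((mem_core_iff _).mp h1)
  have e2 : ((⟨t, ht⟩ : ↥N) : ↥N ⧸ oddCore ↥N) = ((⟨y, hy⟩ : ↥N) : ↥N ⧸ oddCore ↥N) :=
    QuotientGroup.eq.mpr ((mem_core_iff _).mp h2)
  have e3 : ((⁅(⟨s, hs⟩ : ↥N), ⟨t, ht⟩⁆ : ↥N) : ↥N ⧸ oddCore ↥N) =
      ((⁅(⟨x, hx⟩ : ↥N), ⟨y, hy⟩⁆ : ↥N) : ↥N ⧸ oddCore ↥N) := by
    have h3 := map_commutatorElement (QuotientGroup.mk' (oddCore ↥N)) (⟨s, hs⟩ : ↥N) ⟨t, ht⟩
    have h4 := map_commutatorElement (QuotientGroup.mk' (oddCore ↥N)) (⟨x, hx⟩ : ↥N) ⟨y, hy⟩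
    simp only [QuotientGroup.mk'_apply] at h3 h4
    rw [h3, h4, e1, e2]
  have h5 := QuotientGroup.eq.mp e3
  have h6 : ⁅s, t⁆⁻¹ * ⁅x, y⁆ ∈ N := by
    rw [commutatorElement_def, commutatorElement_def]
    exact mul_mem (inv_mem (mul_mem (mul_mem (mul_mem hs ht) (inv_mem hs)) (inv_mem ht)))
      (mul_mem (mul_mem (mul_mem hx hy) (inv_mem hx)) (inv_mem hy))
  exact (mem_core_iff h6).mpr h5

/-- two covering subgroups do not commute modulo a group of odd order -/
theorem false_of_cover_odd {N S T D : Subgroup G} (hN : IsComp N N) (hS : S ⊔ core N = N)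
    (hT : T ⊔ core N = N) (hD : Odd (Nat.card D)) (h : ∀ s ∈ S, ∀ t ∈ T, ⁅s, t⁆ ∈ D) : False := by
  have hSN : S ≤ N := by rw [← hS]; exact le_sup_left
  have hTN : T ≤ N := by rw [← hT]; exact le_sup_left
  obtain ⟨B, hB⟩ : ∃ B, B = ⁅S, T⁆ := ⟨_, rfl⟩
  have hBD : B ≤ D := by rw [hB, Subgroup.commutator_le]; exact fun s hs t ht => h s hs t ht
  have hBN : B ≤ N := by
    rw [hB]; exact (Subgroup.commutator_mono hSN hTN).trans hN.perfect.le
  have hle : N ≤ core N ⊔ B := by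
    conv_lhs => rw [← hN.perfect]
    rw [Subgroup.commutator_le]
    intro x hx y hy
    obtain ⟨s, hs, hcs⟩ := exists_mul_of_sup hS hx
    obtain ⟨t, ht, hct⟩ := exists_mul_of_sup hT hy
    have key := comm_mod_core hx hy (hSN hs) (hTN ht) hcs hct
    have e : ⁅x, y⁆ = ⁅s, t⁆ * (⁅s, t⁆⁻¹ * ⁅x, y⁆) := by group
    rw [e]
    exact mul_mem (mem_sup_right (hB ▸ Subgroup.commutator_mem_commutator hs ht)) (mem_sup_left key)
  have h1 : Odd (Nat.card ↥(core N ⊔ B)) := by
    have h2 := CoprimeBasic.card_sup_dvd (X := core N) (Y := B) (hBN.trans (le_normalizer_core N))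
    exact Odd.of_dvd_nat ((odd_card_core N).mul (Odd.of_dvd_nat hD (card_dvd_of_le hBD))) h2
  exact hN.not_odd h1 hle

omit [Finite G] in
theorem pow_mul_mem {A : Subgroup G} {j c : G} (hj : j ∈ A) (hc : c ∈ normalizer (A : Set G)) (k : ℕ) :
    ∃ a ∈ A, (j * c) ^ k = a * c ^ k := by
  induction k with
  | zero => exact ⟨1, one_mem _, by simp⟩
  | succ k ih =>
    obtain ⟨a, ha, h⟩ := ih
    refine ⟨a * (c ^ k * j * (c ^ k)⁻¹), A.mul_mem ha ?_, ?_⟩
    · have h1 : c ^ k ∈ normalizer (A : Set G) := pow_mem hc k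
      exact (Subgroup.mem_normalizer_iff.mp h1 j).mp hj
    · rw [pow_succ, h]; group

omit [Finite G] in
/-- `p = j c` a 2-element, `j ∈ A`, `c` of odd order normalises `A`: `p ∈ A` -/
theorem mem_of_mul_odd {A : Subgroup G} {j c : G} (hj : j ∈ A) (hc : c ∈ normalizer (A : Set G))
    (hodd : Odd (orderOf c)) {n : ℕ} (hp : (j * c) ^ 2 ^ n = 1) : j * c ∈ A := by
  obtain ⟨a, ha, h⟩ := pow_mul_mem hj hc (orderOf c)
  rw [pow_orderOf_eq_one, mul_one] at h
  have h1 : (orderOf c).Coprime (orderOf (j * c)) := by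
    have h2 : orderOf (j * c) ∣ 2 ^ n := orderOf_dvd_of_pow_eq_one hp
    refine Nat.Coprime.coprime_dvd_right h2 ?_
    exact Nat.Coprime.pow_right n (Nat.Coprime.symm (Nat.coprime_two_left.mpr hodd))
  obtain ⟨m, hm⟩ := exists_pow_eq_self_of_coprime h1
  rw [← hm, h]
  exact pow_mem ha m

/-- an odd subgroup normalised by a covering subgroup acts trivially -/
theorem le_KN_of_odd {H L M X : Subgroup G} (hL : IsComp H L) (hM : IsComp M M) (hs : M ⊔ core L = L)
    (hX : X ≤ H) (hodd : Odd (Nat.card X)) (hn : M ≤ normalizer (X : Set G)) : X ≤ KN L := by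
  have hML : M ≤ L := by rw [← hs]; exact le_sup_left
  intro x hx
  have hxL : x ∈ normalizer (L : Set G) := by
    rw [mem_normalizer_iff_cj]
    by_contra hne
    have hL' : IsComp H (cj x L) := isComp_cj_of_mem hL (hX hx)
    have hcomm := hL.comm_le_core hL' (Ne.symm hne)
    have hML' : M ≤ cj x L := by
      refine hM.le_of_two fun m hm n hmn => ?_
      obtain ⟨m', hm'⟩ : ∃ m', m' = x * m * x⁻¹ := ⟨_, rfl⟩
      have hm'L : m' ∈ cj x L := hm' ▸ conj_mem_cj (hML hm)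
      have hmH : m ∈ H := hL.le (hML hm)
      have hm'H : m' ∈ H := hL'.le hm'L
      have hmn' : m' ^ 2 ^ n = 1 := by rw [hm', conj_pow, hmn]; group
      have hcX : m * m'⁻¹ ∈ X := by
        have h1 : m * x * m⁻¹ ∈ X := (Subgroup.mem_normalizer_iff.mp (hn hm) x).mp hx
        have h2 : m * m'⁻¹ = m * x * m⁻¹ * x⁻¹ := by rw [hm']; group
        rw [h2]; exact X.mul_mem h1 (X.inv_mem hx)
      have hc2 : (m * m'⁻¹) ^ 2 ^ n ∈ core H := by
        have h1 : ⁅m, m'⁆ ∈ core H := hL.core_le_core (hcomm (Subgroup.commutator_mem_commutator (hML hm) hm'L)).1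
        obtain ⟨a, ha⟩ : ∃ a : ↥H ⧸ oddCore ↥H, a = ((⟨m, hmH⟩ : ↥H) : ↥H ⧸ oddCore ↥H) := ⟨_, rfl⟩
        obtain ⟨b, hb⟩ : ∃ b : ↥H ⧸ oddCore ↥H, b = ((⟨m', hm'H⟩ : ↥H) : ↥H ⧸ oddCore ↥H) := ⟨_, rfl⟩
        have hab : Commute a b := by
          rw [commutator_mem_core_iff hmH hm'H] at h1
          rw [ha, hb]; exact h1
        have ha' : a ^ 2 ^ n = 1 := by
          rw [ha, ← QuotientGroup.mk_pow]
          have h4 : (⟨m, hmH⟩ : ↥H) ^ 2 ^ n = 1 := Subtype.ext (by simpa using hmn)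
          rw [h4, QuotientGroup.mk_one]
        have hb' : b ^ 2 ^ n = 1 := by
          rw [hb, ← QuotientGroup.mk_pow]
          have h4 : (⟨m', hm'H⟩ : ↥H) ^ 2 ^ n = 1 := Subtype.ext (by simpa using hmn')
          rw [h4, QuotientGroup.mk_one]
        have h5 : (a * b⁻¹) ^ 2 ^ n = 1 := by
          rw [(hab.inv_right).mul_pow, ha', inv_pow, hb', inv_one, mul_one]
        have hcH : m * m'⁻¹ ∈ H := H.mul_mem hmH (H.inv_mem hm'H)
        refine (mem_core_iff (pow_mem hcH _)).mpr ?_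
        rw [← QuotientGroup.eq_one_iff]
        have h6 : ((⟨(m * m'⁻¹) ^ 2 ^ n, pow_mem hcH _⟩ : ↥H) : ↥H ⧸ oddCore ↥H) = (a * b⁻¹) ^ 2 ^ n := by
          rw [ha, hb, ← QuotientGroup.mk_inv, ← QuotientGroup.mk_mul, ← QuotientGroup.mk_pow]
          rfl
        rw [h6, h5]
      have hc : m * m'⁻¹ ∈ core H := by
        have h1 : (2 ^ n).Coprime (orderOf (m * m'⁻¹)) := by
          refine Nat.Coprime.pow_left n (Nat.coprime_two_left.mpr ?_)
          exact hodd.of_dvd_nat (Subgroup.orderOf_dvd_natCard X hcX)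
        obtain ⟨k, hk⟩ := exists_pow_eq_self_of_coprime h1
        rw [← hk]
        exact pow_mem hc2 k
      refine hL'.mem_of_two (k := m') hm'L ?_ hmn
      have h1 : m'⁻¹ * m = m'⁻¹ * (m * m'⁻¹) * m'⁻¹⁻¹ := by group
      rw [h1]
      exact conj_mem_core (le_normalizer (H.inv_mem hm'H)) hc
    exact hne (hM.unique hL' hL hML' hML)
  refine fixes_of_cover hs hxL fun m hm => ?_
  have hP : X ⊓ L ≤ core L := by
    refine le_core_of_cover hs inf_le_right ?_ (Odd.of_dvd_nat hodd (card_dvd_of_le inf_le_left))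
    intro j hj
    have e1 : j ∈ normalizer (X : Set G) := hn hj
    have e2 : j ∈ normalizer (L : Set G) := le_normalizer (hML hj)
    rw [mem_normalizer_iff_cj] at e1 e2 ⊢
    rw [cj_inf, e1, e2]
  refine hP ⟨?_, ?_⟩
  · have h1 : m * x⁻¹ * m⁻¹ ∈ X := (Subgroup.mem_normalizer_iff.mp (hn hm) _).mp (X.inv_mem hx)
    have h2 : ⁅x, m⁆ = x * (m * x⁻¹ * m⁻¹) := by rw [commutatorElement_def]; group
    rw [h2]; exact X.mul_mem hx h1
  · have h1 : x * m * x⁻¹ ∈ L := (Subgroup.mem_normalizer_iff.mp hxL _).mp (hML hm)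
    rw [commutatorElement_def]
    exact L.mul_mem h1 (L.inv_mem (hML hm))

/-- a covering subgroup of `N` in a covering subgroup `J` of `N` covers `J` -/
theorem cover_descend {P J N : Subgroup G} (hP : P ⊔ core N = N) (hPJ : P ≤ J) (hJ : J ⊔ core N = N) :
    P ⊔ core J = J := by
  have hJN : J ≤ N := by rw [← hJ]; exact le_sup_left
  refine sup_of_exists hPJ fun x hx => ?_
  obtain ⟨p, hp, hc⟩ := exists_mul_of_sup hP (hJN hx)
  refine ⟨p, hp, ?_⟩
  rw [core_of_sup hJ]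
  exact ⟨J.mul_mem (J.inv_mem (hPJ hp)) hx, hc⟩

end cover

/-! ### the canonical cover -/

section at'

variable {G : Type*} [Group G]

/-- `O^{2'}(N ∩ L)` -/
def cov (N L : Subgroup G) : Subgroup G := PComponents.pElem 2 (N ⊓ L)

theorem cov_le_left (N L : Subgroup G) : cov N L ≤ N := (PComponents.pElem_le _).trans inf_le_left

theorem cov_le_right (N L : Subgroup G) : cov N L ≤ L := (PComponents.pElem_le _).trans inf_le_right

theorem mem_normalizer_cov {N L : Subgroup G} {a : G} (h1 : a ∈ normalizer (N : Set G))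
    (h2 : a ∈ normalizer (L : Set G)) : a ∈ normalizer (cov N L : Set G) := by
  apply PComponents.normalizer_le_normalizer_pElem
  rw [mem_normalizer_iff_cj] at h1 h2 ⊢
  rw [cj_inf, h1, h2]

theorem pElem_pElem (J : Subgroup G) :
    PComponents.pElem 2 (PComponents.pElem 2 J) = PComponents.pElem 2 J := by
  refine le_antisymm (PComponents.pElem_le _) ?_
  refine (Subgroup.closure_le _).mpr ?_
  rintro y ⟨hy, n, hn⟩
  exact PComponents.mem_pElem (PComponents.mem_pElem hy hn) hn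

variable [Finite G]

theorem At.cov_spec {y : G} {L N : Subgroup G} (hN : IsComp N N) (h : At y L N) :
    IsComp (cov N L) (cov N L) ∧ cov N L ⊔ core N = N ∧ cov N L ⊔ core L = L := by
  obtain ⟨M, h1, h2, h3, h4, h5⟩ := h.ex
  have h6 : M ≤ cov N L := by
    rw [← h3.pElem_eq]
    exact PComponents.pElem_mono (le_inf h1 h2)
  have h7 := sup_of_le h4 h6 (cov_le_left N L)
  exact ⟨isComp_of_cover hN h7 (pElem_pElem _), h7, sup_of_le h5 h6 (cov_le_right N L)⟩

/-- an element of `C(y)` normalising `N` normalises `L` -/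
theorem At.norm {y : G} {L N : Subgroup G} (hN : IsComp N N) (h : At y L N) {w : G}
    (hwy : w * y = y * w) (hw : w ∈ normalizer (N : Set G)) : w ∈ normalizer (L : Set G) := by
  obtain ⟨M, h1, h2, h3, h4, h5⟩ := h.ex
  rw [mem_normalizer_iff_cj]
  by_contra hne
  have hL := h.comp
  have hL' := isComp_cj_of_mem hL (mem_c hwy)
  have hcomm := hL.comm_le_core hL' (Ne.symm hne)
  have h6 : cj w M ⊔ core N = N := by
    have h7 := congrArg (cj w) h4
    rw [cj_def, Subgroup.map_sup, ← cj_def, ← cj_def, ← core_cj,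
      mem_normalizer_iff_cj.mp hw] at h7
    exact h7
  refine false_of_cover_odd hN h4 h6 (odd_card_core L) fun s hs t ht => ?_
  have h8 : t ∈ cj w L := by
    rw [mem_cj] at ht ⊢
    exact h2 ht
  exact (hcomm (Subgroup.commutator_mem_commutator (h2 hs) h8)).1

/-- trivial on `N / O(N)` iff trivial on `L / O(L)` -/
theorem At.fixes_iff {y : G} {L N : Subgroup G} (hN : IsComp N N) (h : At y L N) {w : G}
    (hwN : w ∈ normalizer (N : Set G)) (hwL : w ∈ normalizer (L : Set G)) : Fixes w N ↔ Fixes w L := by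
  obtain ⟨-, h1, h2⟩ := At.cov_spec hN h
  have h3 := mem_normalizer_cov hwN hwL
  exact (fixes_iff_of_sup h1 h3 hwN).symm.trans (fixes_iff_of_sup h2 h3 hwL)

/-- a subgroup of `C_N(v)` generated by 2-elements lies in `L` -/
theorem At.le_of_pElem {v : G} {L N : Subgroup G} (hN : IsComp N N) (h : At v L N) {P : Subgroup G}
    (hP : P ≤ N) (hPv : P ≤ centralizer ({v} : Set G)) (h2 : PComponents.pElem 2 P = P) : P ≤ L := by
  obtain ⟨hc, h3, h4⟩ := At.cov_spec hN h
  have hL := h.comp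
  obtain ⟨D, hD⟩ : ∃ D, D = core N ⊓ centralizer ({v} : Set G) := ⟨_, rfl⟩
  have hDodd : Odd (Nat.card D) := Odd.of_dvd_nat (odd_card_core N) (card_dvd_of_le (hD ▸ inf_le_left))
  have hDK : D ≤ KN L := by
    refine le_KN_of_odd hL hc h4 (hD ▸ inf_le_right) hDodd ?_
    intro j hj
    have e1 : j ∈ normalizer (core N : Set G) := le_normalizer_core N (cov_le_left N L hj)
    have e2 : j ∈ normalizer (centralizer ({v} : Set G) : Set G) :=
      le_normalizer (hL.le (cov_le_right N L hj))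
    rw [mem_normalizer_iff_cj] at e1 e2 ⊢
    rw [hD, cj_inf, e1, e2]
  rw [← h2]
  refine (Subgroup.closure_le _).mpr ?_
  rintro p ⟨hp, n, hn⟩
  obtain ⟨j, hj, hjc⟩ := exists_mul_of_sup h3 (hP hp)
  have hjL : j ∈ L := cov_le_right N L hj
  have hcD : j⁻¹ * p ∈ D := by
    rw [hD]
    exact ⟨hjc, Subgroup.mul_mem _ (Subgroup.inv_mem _ (hL.le hjL)) (hPv hp)⟩
  have h5 : j * (j⁻¹ * p) ∈ L := by
    refine mem_of_mul_odd hjL (hDK hcD).1 (hDodd.of_dvd_nat (Subgroup.orderOf_dvd_natCard D hcD)) (n := n) ?_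
    rw [mul_inv_cancel_left]; exact hn
  rwa [mul_inv_cancel_left] at h5

theorem At.sup_of_pElem {v : G} {L N : Subgroup G} (hN : IsComp N N) (h : At v L N) {P : Subgroup G}
    (hP : P ⊔ core N = N) (hPv : P ≤ centralizer ({v} : Set G)) (h2 : PComponents.pElem 2 P = P) :
    P ⊔ core L = L := by
  have hPN : P ≤ N := by rw [← hP]; exact le_sup_left
  obtain ⟨hc, h3, h4⟩ := At.cov_spec hN h
  have h5 : P ≤ cov N L := by
    rw [← h2]
    exact PComponents.pElem_mono (le_inf hPN (At.le_of_pElem hN h hPN hPv h2))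
  exact sup_trans (cover_descend hP h5 h3) h4

end at'

end Cfsg.Agent.UGT.L2i.ClsCov
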