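import Cfsg.Agent.UGT.L2i.ClsSide
import Cfsg.Agent.UGT.L2i.ClsOne
import Cfsg.Agent.UGT.TT.End
import Cfsg.Agent.UGT.Trich

/-!
# The classes of `N₀` (bb #11765, P4): the end

`false_of_cls`: the output `Cls N₀` of CANON with `N₀ / O(N₀) ≅ Q = PSL₂(q)` contradicts: `O(G) = 1`, `X` a normal
simple subgroup with `C_G(X) = 1`.  One member in the class: `ClsOne.false_of_one` (S1173); at least two members:
THEOREM T (`TT.Side.Ok.false_of_two`).
-/

set_option autoImplicit false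

open Cfsg Subgroup
open Cfsg.Agent.SignalizersComponents.IntrinsicBasic
open Cfsg.Agent.Intrinsic.Basic
open Cfsg.Agent.UGT.Iface
open Cfsg.Agent.UGT.L2i.ClsCov Cfsg.Agent.UGT.L2i.ClsRel

namespace Cfsg.Agent.UGT.L2i.ClsEnd

universe u v

/-- **P4.** -/
theorem false_of_cls {G : Type u} [Group G] [Finite G] (h1173 : SL.P1173.{u}) (hO : oddCore G = ⊥) {X : Subgroup G}
    (hX : X.Normal) (hXs : IsSimpleGroup X) (hXc : centralizer (X : Set G) = ⊥) {N0 : Subgroup G} (C : Cls N0)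
    {Q : Type v} [Group Q] {P : Subgroup (MulAut Q)} (T : TT.TFacts Q P) (e : (↥N0 ⧸ oddCore ↥N0) ≃* Q) : False := by
  by_cases h : ∀ N ∈ Cj N0, ClsRel.Rel N N0 → N = N0
  · exact ClsOne.false_of_one h1173 hO hX hXs hXc C h
  · push Not at h
    obtain ⟨N, hN, hr, hne⟩ := h
    have : Nontrivial ↥((Cls.sys C).cls (self_mem_Cj N0)) :=
      ⟨⟨N, hN, hr⟩, ⟨N0, (Cls.sys C).self_mem_cls (self_mem_Cj N0)⟩, fun h => hne (congrArg Subtype.val h)⟩
    exact (ClsSide.side_ok C e).false_of_two T (ClsSide.side_t2 C e) hO hX hXs hXc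

/-- **P4** in a minimal counterexample. -/
theorem false_of_minCex {G : Type u} [Group G] [Finite G] (h1173 : SL.P1173.{u}) (hG : MinCex G)
    (hO : oddCore G = ⊥) {N0 : Subgroup G} (C : Cls N0) {Q : Type v} [Group Q] {P : Subgroup (MulAut Q)}
    (T : TT.TFacts Q P) (e : (↥N0 ⧸ oddCore ↥N0) ≃* Q) : False :=
  false_of_cls h1173 hO Trich.normal_fs hG.simple (Trich.centralizer_fs hG) C T e

end Cfsg.Agent.UGT.L2i.ClsEnd
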