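import Cfsg.Agent.UGT.SLEnd
import Cfsg.Agent.UGT.TMCBase

/-!
# Inner `PSL₂(q)`, `q ≥ 11`, `m₂(Q) ≥ 2`: definitions (bb #11765, #12280)

* `QFacts X`: the facts on `X = PSL₂(q)`, `q ≥ 11` odd, used in P3 and P4;
* `Pkg M Q`: the output of P0 (SETUP), the input of P3 (CANON);
* `At y L N`: `L` is the 2-component of `C(y)` belonging to `N` (`y` an involution fixing `N / O(N)`);
* `Cls N`: the output of P3 (CANON), the input of P4 (CLASSES).
-/

set_option autoImplicit false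

open Cfsg Subgroup
open Cfsg.Agent.SignalizersComponents.IntrinsicBasic
open Cfsg.Agent.Intrinsic.Basic

namespace Cfsg.Agent.UGT.L2i

universe u

/-- Facts on `X = PSL₂(q)`, `q ≥ 11` odd. -/
structure QFacts (X : Type u) [Group X] : Prop where
  simple : IsSimpleGroup X
  nab : ¬ ∀ x y : X, x * y = y * x
  even : 2 ∣ Nat.card X
  gam : SL.GamAut X
  /-- one class of involutions -/
  conj : ∀ s t : X, s * s = 1 → s ≠ 1 → t * t = 1 → t ≠ 1 → ∃ g, g * s * g⁻¹ = t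
  /-- every involution commutes with another one -/
  four : ∀ e : X, e * e = 1 → e ≠ 1 → ∃ f : X, f * f = 1 ∧ f ≠ 1 ∧ f ≠ e ∧ e * f = f * e

variable {G : Type u} [Group G]

/-- The output of SETUP. -/
structure Pkg (M Q : Subgroup G) : Prop where
  self : IsComp M M
  facts : QFacts (↥M ⧸ oddCore ↥M)
  /-- a torus element: `s ∈ C_M(t)` of odd order, nontrivial modulo `O(M)`, inverted by an involution
  `t' ∈ C_M(t)` -/
  tor : ∀ t ∈ M, orderOf t = 2 → ∃ s ∈ M, ∃ t' ∈ M, s * t = t * s ∧ t' * t = t * t' ∧ orderOf t' = 2 ∧ t' ≠ t ∧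
    t' * s * t'⁻¹ = s⁻¹ ∧ Odd (orderOf s) ∧ s ∉ core M
  comm : ∀ q ∈ Q, ∀ m ∈ M, q * m = m * q
  two : IsPGroup 2 Q
  rank : ∃ a ∈ Q, ∃ b ∈ Q, orderOf a = 2 ∧ orderOf b = 2 ∧ a * b = b * a ∧ a ≠ b
  good : ∀ y ∈ Q, orderOf y = 2 → ∃ L, IsComp (centralizer ({y} : Set G)) L ∧ M ≤ L ∧ M ⊔ core L = L
  max : ∀ y ∈ Q, orderOf y = 2 → ∀ L, IsComp (centralizer ({y} : Set G)) L → M ≤ L → M ⊔ core L = L →
    ∀ R : Subgroup G, IsPGroup 2 R → Q ≤ R → (∀ r ∈ R, r * y = y * r ∧ Fixes r L) → R = Q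

/-- `L` is a 2-component of `C(y)` and a subgroup of `L ∩ N` (centralising `y`) covers both `L / O(L)` and
`N / O(N)`. -/
structure At (y : G) (L N : Subgroup G) : Prop where
  comp : IsComp (centralizer ({y} : Set G)) L
  ex : ∃ M : Subgroup G, M ≤ N ∧ M ≤ L ∧ IsComp M M ∧ M ⊔ core N = N ∧ M ⊔ core L = L

/-- The output of CANON: `N = M [W, M]`. -/
structure Cls (N : Subgroup G) : Prop where
  self : IsComp N N
  simple : IsSimpleGroup (↥N ⧸ oddCore ↥N)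
  nab : ¬ ∀ x y : ↥N ⧸ oddCore ↥N, x * y = y * x
  gam : SL.GamAut (↥N ⧸ oddCore ↥N)
  four : ∃ a b : G, Fixes a N ∧ Fixes b N ∧ a * a = 1 ∧ b * b = 1 ∧ a * b = b * a ∧ a ≠ 1 ∧ b ≠ 1 ∧ a ≠ b
  ex : ∀ y : G, Fixes y N → orderOf y = 2 → ∃ L, At y L N
  nrm : ∀ (y : G) (L : Subgroup G), Fixes y N → orderOf y = 2 → At y L N →
    ∀ g : G, g * y = y * g → g ∈ normalizer (L : Set G) → g ∈ normalizer (N : Set G)
  uniq : ∀ (y g : G) (L : Subgroup G), orderOf y = 2 → Fixes y N → Fixes y (cj g N) →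
    At y L N → At y L (cj g N) → cj g N = N

end Cfsg.Agent.UGT.L2i
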