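import Cfsg.Agent.UGT.L2i.Tor

/-!
The content of this file is now in `FactsRep.lean` and `Tor.lean`.
-/
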