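import Cfsg.Agent.UGT.TMC
import Cfsg.Agent.UGT.L2i.FactsRep
import Cfsg.Agent.UGT.L2Inner.WBTriple

/-!
# P0 (SETUP), part 1: the family of the inner triples of maximal order is closed under pump-up

`FF M0 x t N`: `(x, t, N)` is a triple of type `PSL₂(q)`, `x` is inner on `N / O(N)`, `|N / O(N)| = M0`.
`UpOk G`: if `(x, t, N)` is an inner triple of type `PSL₂(q)` and `(x, y, J)` a triple such that `|N / O(N)|`
divides `|J / O(J)|`, then `(x, y, J)` is of type `PSL₂(q')` (true if all triples are of type `PSL₂(q)` or `A₇`).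
-/

set_option autoImplicit false

open Cfsg Subgroup
open Cfsg.Agent.SignalizersComponents Cfsg.Agent.Lib
open Cfsg.Agent.SignalizersComponents.IntrinsicBasic
open Cfsg.Agent.SignalizersComponents.IntrinsicIntr
open Cfsg.Agent.SignalizersComponents.PLayerAut
open Cfsg.Agent.Intrinsic.Basic Cfsg.Agent.Intrinsic.Cen Cfsg.Agent.Intrinsic.Diag
open Cfsg.Agent.McLLyComp.Act
open Cfsg.Agent.UGT.TMCBase Cfsg.Agent.UGT.TMCSyl Cfsg.Agent.UGT.TMCMax Cfsg.Agent.UGT.TMCBad
open Cfsg.Agent.UGT.Triple (IsTriple)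
open Cfsg.Agent.UGT.Iface (Bar IsInner IsL2)
open Cfsg.Agent.UGT.L2Inner
open scoped commutatorElement

universe u

namespace Cfsg.Agent.UGT.L2i

variable {G : Type u} [Group G]

/-- a triple `(x, y, J)` above an inner triple `(x, t, N)` of type `PSL₂(q)` is of type `PSL₂(q')` -/
def UpOk (G : Type u) [Group G] : Prop :=
  ∀ (x t : G) (N : Subgroup G), IsTriple x t N → IsInner x N → IsL2 (Bar N) →
    ∀ (y : G) (J : Subgroup G), IsTriple x y J → Nat.card (Bar N) ∣ Nat.card (Bar J) → IsL2 (Bar J)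

/-- the family of the inner triples of type `PSL₂(q)` of order `M0` -/
structure FF (M0 : ℕ) (x t : G) (N : Subgroup G) : Prop where
  tri : IsTriple x t N
  inn : IsInner x N
  ty : IsL2 (Bar N)
  card : Nat.card (Bar N) = M0

theorem FF.ctr {M0 : ℕ} {x t : G} {N : Subgroup G} (h : FF M0 x t N) : center (Bar N) = ⊥ := center_of_L2 h.ty

/-- `{g ∈ X : [g, r] ∈ O(X)}` -/
def cmod (X : Subgroup G) {r : G} (hr : r ∈ X) : Subgroup G :=
  ((centralizer ({QuotientGroup.mk' (oddCore ↥X) ⟨r, hr⟩} : Set (↥X ⧸ oddCore ↥X))).comap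
    (QuotientGroup.mk' (oddCore ↥X))).map X.subtype

theorem mem_cmod {X : Subgroup G} {r : G} (hr : r ∈ X) {g : G} :
    g ∈ cmod X hr ↔ g ∈ X ∧ ⁅g, r⁆ ∈ core X := by
  constructor
  · rintro ⟨⟨y, hy⟩, h, rfl⟩
    refine ⟨hy, (commutator_mem_core_iff hy hr).mpr ?_⟩
    exact mem_centralizer_singleton_iff.mp h
  · rintro ⟨hg, h⟩
    refine ⟨⟨g, hg⟩, ?_, rfl⟩
    exact mem_centralizer_singleton_iff.mpr ((commutator_mem_core_iff hg hr).mp h)

section

variable {x : G} {L : Subgroup G}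

/-- the square of the element of `L` acting as `x` lies in `O(L)`, and it commutes with `x` modulo `O(L)` -/
theorem sq_of_inner (hZ : center (Bar L) = ⊥)
    (hx : x * x = 1) (hxL : x ∈ normalizer (L : Set G)) {r : G} (hr : r ∈ L)
    (hf : Fixes (x * r⁻¹) L) : r * r ∈ core L ∧ ⁅x, r⁆ ∈ core L := by
  constructor
  · have h1 : Fixes (r * r) L := by
      have h2 : Fixes (x * (x * r⁻¹)⁻¹ * x⁻¹) L := fixes_conj (fixes_inv hf) hxL
      have h3 := fixes_mul (fixes_inv hf) h2
      have h4 : (x * r⁻¹)⁻¹ * (x * (x * r⁻¹)⁻¹ * x⁻¹) = r * (r * (x * x)⁻¹) := by group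
      rw [h4, hx] at h3
      simpa using h3
    have h2 := (mk_center_iff (L.mul_mem hr hr)).mpr h1
    have h3 : (QuotientGroup.mk' (oddCore ↥L)) ⟨r * r, L.mul_mem hr hr⟩ ∈ center (Bar L) := h2
    rw [hZ, mem_bot] at h3
    exact (mem_core_iff (L.mul_mem hr hr)).mpr ((QuotientGroup.eq_one_iff _).mp h3)
  · have h1 := hf.2 r hr
    have h2 : ⁅x, r⁆ = ⁅x * r⁻¹, r⁆ := by
      rw [commutatorElement_def, commutatorElement_def]; group
    rw [h2]
    exact h1

end

variable [Finite G] {x a : G} {L : Subgroup G}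

/-- **Lifting the inner part of `x`.** -/
theorem exists_l (T : IsTriple x a L) (hZ : center (Bar L) = ⊥) (hin : IsInner x L) {Q : Subgroup G}
    (hQ2 : IsPGroup 2 ↥Q) (hQa : ∀ q ∈ Q, q * a = a * q) (hQx : ∀ q ∈ Q, q * x = x * q)
    (hQL : ∀ q ∈ Q, Fixes q L) :
    ∃ l ∈ L, l * l = 1 ∧ l ≠ 1 ∧ (∀ q ∈ Q, q * l = l * q) ∧ x * l = l * x ∧ Fixes (x * l) L := by
  have h2 : Fact (Nat.Prime 2) := ⟨Nat.prime_two⟩
  have hx2 := Triple.sq_of_order T.invx
  obtain ⟨r, hr, hf⟩ := hin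
  obtain ⟨h1, h3⟩ := sq_of_inner hZ hx2 T.x_mem hr hf
  have hrX : r ∈ centralizer ({a} : Set G) := T.comp.le hr
  obtain ⟨P, hP⟩ : ∃ P, P = Q ⊔ zpowers x := ⟨_, rfl⟩
  have hxP : x ∈ P := hP ▸ mem_sup_right (mem_zpowers x)
  have hP2 : IsPGroup 2 ↥P := by
    rw [hP]
    have h4 : IsPGroup 2 ↥(zpowers x) := by
      have : Nat.card (zpowers x) = 2 ^ 1 := by rw [Nat.card_zpowers, T.invx]; norm_num
      exact IsPGroup.of_card this
    refine hQ2.to_sup_of_normal_left' h4 ?_
    rw [zpowers_le]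
    apply mem_normalizer_iff_cj.mpr
    exact cj_of_comm fun q hq => mem_c (hQx q hq)
  have hPle : P ≤ cmod (centralizer ({a} : Set G)) hrX := by
    rw [hP]
    refine sup_le (fun q hq => ?_) ?_
    · exact (mem_cmod hrX).mpr ⟨mem_c (hQa q hq), T.comp.core_le_core ((hQL q hq).2 r hr)⟩
    · rw [zpowers_le]
      exact (mem_cmod hrX).mpr ⟨mem_c T.comm.symm, T.comp.core_le_core h3⟩
  obtain ⟨w, hw, hww, hwr, hwP⟩ := exists_lift T.comp
    (fun p hp => ((mem_cmod hrX).mp (hPle hp)).1) hP2 hr (T.comp.core_le_core h1)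
    (fun p hp => ((mem_cmod hrX).mp (hPle hp)).2)
  have hfw : Fixes (x * w) L := by
    have h4 : x * w = (x * r⁻¹) * ((r * r) * (r⁻¹ * w)) := by group
    rw [h4]
    refine fixes_mul hf (fixes_mul (T.comp.fixes_of_core (T.comp.core_le_core h1))
      (T.comp.fixes_of_core hwr))
  refine ⟨w, hw, hww, ?_, fun q hq => hwP q (hP ▸ mem_sup_left hq), hwP x hxP, hfw⟩
  rintro rfl
  rw [mul_one] at hfw
  exact T.not_fixes hfw

omit [Finite G] in
/-- conjugates of the family -/
theorem FF.cj' {M0 : ℕ} {x t : G} {N : Subgroup G} (h : FF M0 x t N) (g : G) :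
    FF M0 (g * x * g⁻¹) (g * t * g⁻¹) (IntrinsicBasic.cj g N) := by
  refine ⟨h.tri.cj g, ?_, isL2_congr h.ty (cjQuot g N), ?_⟩
  · obtain ⟨r, hr, hf⟩ := h.inn
    refine ⟨g * r * g⁻¹, conj_mem_cj hr, ?_⟩
    have h2 := hf.cj g
    have h3 : (g * x * g⁻¹) * (g * r * g⁻¹)⁻¹ = g * (x * r⁻¹) * g⁻¹ := by group
    rw [h3]
    exact h2
  · rw [← h.card]
    exact (Nat.card_congr (cjQuot g N).toEquiv).symm

/-- conjugates under `C(x)` -/
theorem FF.cj {M0 : ℕ} {x t : G} {N : Subgroup G} (h : FF M0 x t N) {g : G} (hg : g * x = x * g) :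
    FF M0 x (g * t * g⁻¹) (IntrinsicBasic.cj g N) := by
  have h1 := h.cj' g
  rwa [conj_of_comm hg] at h1

/-- If `(x, a, L)` is a triple of type `PSL₂(q)` and `l ∈ L` is an involution commuting with `x` such that `x l`
centralises a perfect subgroup of `L` not contained in `O(L)`, then `x l` centralises `L / O(L)`. -/
theorem perf_ok (T : IsTriple x a L) (hty : IsL2 (Bar L)) {l : G} (hl : l ∈ L) (hll : l * l = 1)
    (hxl : x * l = l * x) {J : Subgroup G} (hJL : J ≤ L) (hJ : ⁅J, J⁆ = J) (hJc : ¬ J ≤ core L)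
    (hcomm : ∀ j ∈ J, (x * l) * j = j * (x * l)) : Fixes (x * l) L := by
  obtain ⟨F, _, _, -, ⟨R⟩⟩ := exists_rep hty
  have hxx := Triple.sq_of_order T.invx
  have hxL := T.x_mem
  have hlL : l ∈ normalizer (L : Set G) := le_normalizer hl
  have hxlL : x * l ∈ normalizer (L : Set G) := mul_mem hxL hlL
  have hxl2 : (x * l) * (x * l) = 1 := by
    calc (x * l) * (x * l) = x * (l * x) * l := by group
      _ = (x * x) * (l * l) := by rw [← hxl]; group
      _ = 1 := by rw [hxx, hll, one_mul]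
  rw [← act_eq_one_iff hxlL]
  by_contra hne
  have hP : act L ⟨x * l, hxlL⟩ ∈ R.PGL := by
    have h1 : (⟨x * l, hxlL⟩ : ↥(normalizer (L : Set G))) = ⟨x, hxL⟩ * ⟨l, hlL⟩ := rfl
    rw [h1, map_mul]
    refine mul_mem (WBTriple.mem_PGL T R) ?_
    have h2 : act L ⟨l, hlL⟩ = MulAut.conj (QuotientGroup.mk ⟨l, hl⟩) := act_of_mem hl
    rw [h2]
    exact R.conj_mem_PGL _
  obtain ⟨P, hPdef⟩ : ∃ P, P = ((J.subgroupOf L).map (QuotientGroup.mk' (oddCore ↥L))).map
    (MulAut.conj : Bar L →* MulAut (Bar L)) := ⟨_, rfl⟩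
  have hperf : ⁅P, P⁆ = P := by
    have h1 : ⁅J.subgroupOf L, J.subgroupOf L⁆ = J.subgroupOf L := by
      apply map_injective (subtype_injective L)
      rw [map_commutator, subgroupOf_map_subtype, inf_of_le_left hJL, hJ]
    rw [hPdef, ← map_commutator, ← map_commutator, h1]
  have hbot := WBAut.perfect_comm R hP hne (by
    rw [← map_mul]
    have : (⟨x * l, hxlL⟩ : ↥(normalizer (L : Set G))) * ⟨x * l, hxlL⟩ = 1 := Subtype.ext hxl2
    rw [this, map_one]) hperf (by
    intro y hy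
    rw [hPdef] at hy
    obtain ⟨_, ⟨⟨j, hj⟩, hjJ, rfl⟩, rfl⟩ := hy
    have h2 : act L ⟨j, le_normalizer hj⟩ = MulAut.conj (QuotientGroup.mk ⟨j, hj⟩) := act_of_mem hj
    change MulAut.conj (QuotientGroup.mk ⟨j, hj⟩ : Bar L) * _ = _ * MulAut.conj (QuotientGroup.mk ⟨j, hj⟩ : Bar L)
    rw [← h2, ← map_mul, ← map_mul]
    congr 1
    exact Subtype.ext (hcomm j hjJ).symm)
  apply hJc
  intro j hj
  have h3 : MulAut.conj (QuotientGroup.mk' (oddCore ↥L) ⟨j, hJL hj⟩) ∈ P := by
    rw [hPdef]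
    exact ⟨_, ⟨⟨j, hJL hj⟩, hj, rfl⟩, rfl⟩
  rw [hbot, mem_bot] at h3
  have h4 : QuotientGroup.mk' (oddCore ↥L) ⟨j, hJL hj⟩ = 1 := R.conj_injective (by rw [h3, map_one])
  exact (mem_core_iff (hJL hj)).mpr ((QuotientGroup.eq_one_iff _).mp h4)

/-- the family is closed under pump-up -/
theorem fam (hU : UpOk G) {M0 : ℕ}
    (hmax : ∀ (x a : G) (L : Subgroup G), IsTriple x a L → IsInner x L → IsL2 (Bar L) → Nat.card (Bar L) ≤ M0)
    (x : G) : Fam (centralizer ({x} : Set G)) (FF M0 x) where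
  mem h := mem_c h.tri.comm
  sq h := Triple.sq_of_order h.tri.inva
  comp h := h.tri.comp
  conj h g hg := h.cj (comm_c hg)
  pump := by
    intro t N hN y hyx hyy hy1 hyt hf
    have hy : orderOf y = 2 := orderOf_eq_prime (by rw [pow_two, hyy]) hy1
    have hyx' : y * x = x * y := comm_c hyx
    have htt := Triple.sq_of_order hN.tri.inva
    have hxx := Triple.sq_of_order hN.tri.invx
    have hy2 : IsPGroup 2 ↥(zpowers y) := by
      have : Nat.card (zpowers y) = 2 ^ 1 := by rw [Nat.card_zpowers, hy]; norm_num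
      exact IsPGroup.of_card this
    -- the involution `l`
    have hzy : ∀ {P : G → Prop}, P 1 → P y → ∀ q ∈ zpowers y, P q := by
      intro P h1 h2 q hq
      obtain ⟨n, rfl⟩ := mem_zpowers_iff.mp hq
      rcases Int.even_or_odd n with ⟨k, rfl⟩ | ⟨k, rfl⟩
      · have : y ^ (k + k) = 1 := by
          rw [← two_mul, zpow_mul, zpow_two, hyy, one_zpow]
        rwa [this]
      · have : y ^ (2 * k + 1) = y := by
          rw [zpow_add, zpow_mul, zpow_two, hyy, one_zpow, one_mul, zpow_one]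
        rwa [this]
    obtain ⟨l, hl, hll, hl1, hlq, hxl, hfl⟩ := exists_l hN.tri hN.ctr hN.inn hy2
      (hzy (P := fun q => q * t = t * q) (by rw [one_mul, mul_one]) hyt)
      (hzy (P := fun q => q * x = x * q) (by rw [one_mul, mul_one]) hyx')
      (hzy (P := fun q => Fixes q N) (fixes_one N) hf)
    have hly : l * y = y * l := (hlq y (mem_zpowers y)).symm
    have hlt : l * t = t * l := comm_c (hN.tri.comp.le hl)
    obtain ⟨hc, hs⟩ := isComp_cen hN.tri.comp (mem_c hyt) hyy hf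
    obtain ⟨C, hC⟩ : ∃ C, C = cen N y := ⟨_, rfl⟩
    have hlC : l ∈ C := hC ▸ mem_cen_of_sq hl hly hll
    have hxly : (x * l) * y = y * (x * l) := by
      rw [mul_assoc, hly, ← mul_assoc, ← hyx', mul_assoc]
    have hxlt : (x * l) * t = t * (x * l) := by
      rw [mul_assoc, hlt, ← mul_assoc, ← hN.tri.comm, mul_assoc]
    have hxl2 : (x * l) * (x * l) = 1 := by
      calc (x * l) * (x * l) = x * (l * x) * l := by group
        _ = (x * x) * (l * l) := by rw [← hxl]; group
        _ = 1 := by rw [hxx, hll, one_mul]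
    have hflC : Fixes (x * l) C := by
      rw [hC]
      exact (fixes_iff_of_sup hs (mem_normalizer_cen hfl.1 hxly) hfl.1).mpr hfl
    have hZcard : Nat.card (Bar C) = M0 := by
      obtain ⟨e, -⟩ := exists_quotEquiv hs
      rw [← hN.card, hC]; exact Nat.card_congr e.toEquiv
    obtain ⟨J, hJ, hor⟩ := hN.tri.pump hy hyt hyx' hf
    rw [← hC] at hc hs hor
    rcases hor with ⟨-, hle⟩ | ⟨hne, heq⟩
    · left
      -- `x l` centralises a perfect subgroup
      have hxlH : (x * l) ∈ centralizer ({t} : Set G) ⊓ centralizer ({y} : Set G) :=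
        ⟨mem_c hxlt, mem_c hxly⟩
      obtain ⟨hc2, hs2⟩ := isComp_cen hc hxlH hxl2 hflC
      have hJty : IsL2 (Bar J) := hU _ _ _ hN.tri hN.inn hN.ty y J hJ (by
        rw [hN.card, ← hZcard]; exact card_bar_dvd (hle))
      have hfJ : Fixes (x * l) J := by
        refine perf_ok hJ hJty (hle hlC) hll hxl (J := cen C (x * l)) ((cen_le _ _).trans hle)
          hc2.perfect (hc2.not_odd (odd_card_core J)) fun j hj => ?_
        exact (comm_of_mem_cen hj).symm
      have hin : IsInner x J := by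
        refine ⟨l, hle hlC, ?_⟩
        rwa [inv_of_sq hll]
      have h1 := sup_of_card hle (by
        change Nat.card (Bar J) ≤ Nat.card (Bar C)
        rw [hZcard]; exact hmax x y J hJ hin hJty)
      refine ⟨J, ⟨hJ, hin, hJty, ?_⟩, hC ▸ h1⟩
      obtain ⟨e', -⟩ := exists_quotEquiv h1
      rw [← hZcard]; exact (Nat.card_congr e'.toEquiv).symm
    · right
      have htC : t ∈ centralizer ({y} : Set G) := mem_c hyt.symm
      obtain ⟨h1, h3, -, h4, f, hf1, -, -, hf4⟩ := exists_diag hJ.comp htC htt hne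
      -- `x l` fixes `J`
      have hxJ := hJ.x_mem
      have hxJt : x ∈ normalizer (IntrinsicBasic.cj t J : Set G) := by
        rw [mem_normalizer_iff_cj] at hxJ ⊢
        rw [← cj_mul, ← hN.tri.comm, cj_mul, hxJ]
      have hlX : l ∈ centralizer ({y} : Set G) := mem_c hly
      have hl' : l ∈ diag (centralizer ({y} : Set G)) J t := heq ▸ hlC
      obtain ⟨k, hk, hlk⟩ := h3 l hl'
      have hlk' : Fixes (k⁻¹ * l) J := fixes_inv_mul hJ.comp htC hne hk hlX hlk
      have hlJ : l ∈ normalizer (J : Set G) := by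
        have h5 := mul_mem (le_normalizer (H := J) hk) hlk'.1
        rwa [mul_inv_cancel_left] at h5
      have hlJt : l ∈ normalizer (IntrinsicBasic.cj t J : Set G) := by
        rw [mem_normalizer_iff_cj] at hlJ ⊢
        rw [← cj_mul, hlt, cj_mul, hlJ]
      have hfJ : Fixes (x * l) J := by
        refine fixes_of_comm_diag hJ.comp htC htt hne (mem_c hxly) (mul_mem hxJ hlJ)
          (mul_mem hxJt hlJt) fun m hm => ?_
        have h5 := hflC.2 m (heq ▸ hm)
        rw [heq, h4] at h5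
        exact h5.2
      have hin : IsInner x J := by
        refine ⟨k, hk, ?_⟩
        have h5 := fixes_mul hfJ (fixes_conj hlk' (le_normalizer (H := J) hk))
        have h6 : x * k⁻¹ = (x * l) * (k * (k⁻¹ * l) * k⁻¹) := by
          calc x * k⁻¹ = x * (l * l) * k⁻¹ := by rw [hll, mul_one]
            _ = _ := by group
        rw [h6]
        exact h5
      have hJty : IsL2 (Bar J) := hU _ _ _ hN.tri hN.inn hN.ty y J hJ (by
        rw [hN.card, ← hZcard, heq]; exact Subgroup.card_dvd_of_surjective f hf1)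
      have hcardJ : Nat.card (Bar J) = M0 := by
        apply le_antisymm (hmax x y J hJ hin hJty)
        rw [← hZcard, heq]
        exact Nat.card_le_card_of_surjective f hf1
      have hFJ : FF M0 x y J := ⟨hJ, hin, hJty, hcardJ⟩
      refine ⟨J, hFJ, ?_, hne, hC ▸ heq⟩
      have h5 := hFJ.cj (g := t) hN.tri.comm
      rwa [conj_of_comm hyt.symm] at h5

end Cfsg.Agent.UGT.L2i
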