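import Cfsg.Agent.UGT.L2Inner.P3What
import Cfsg.Agent.UGT.L2i.Defs

/-!
# CANON, step (1), (3), (4): frames and the functor

`Frame M Y`: `M` perfect with `QFacts (M / O(M))`, `Y ≤ C(M)` a four-group, for `s ∈ Y#` a 2-component
`L` of `C(s)` with `M ≤ L = M O(L)`.
`FW Wh M Y`: a conjugation invariant function on subgroups, constant on the subgroups of order 8 of `Y V`,
`V ≤ M` a four-group.
-/

set_option autoImplicit false
set_option linter.unusedSectionVars false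
set_option linter.unusedVariables false

open Cfsg Subgroup
open Cfsg.Agent.SignalizersComponents Cfsg.Agent.Lib
open Cfsg.Agent.SignalizersComponents.IntrinsicBasic
open Cfsg.Agent.SignalizersComponents.IntrinsicIntr
open Cfsg.Agent.Intrinsic.Basic Cfsg.Agent.Intrinsic.Cen
open Cfsg.Agent.McLLyComp.Act
open Cfsg.Agent.UGT.Triple Cfsg.Agent.UGT.TMCSyl
open Cfsg.Agent.UGT.TriBase (IsSyl exists_isSyl card_cj fixes_self' exists_central isPGroup_cj)
open Cfsg.Agent.UGT.L2Inner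
open scoped commutatorElement

universe u

namespace Cfsg.Agent.UGT.L2i

variable {G : Type u} [Group G]

/-- `M` is a perfect group with `M / O(M)` simple with (Gam), `Y ≤ C(M)` is a four-group and `M` covers a
2-component of `C(s)`, `s ∈ Y#`. -/
structure Frame (M Y : Subgroup G) : Prop where
  self : IsComp M M
  facts : QFacts (↥M ⧸ oddCore ↥M)
  four : Four Y
  comm : ∀ m ∈ M, ∀ y ∈ Y, m * y = y * m
  ex : ∀ s ∈ Y, s ≠ 1 → ∃ L, IsComp (centralizer ({s} : Set G)) L ∧ M ≤ L ∧ M ⊔ core L = L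

/-- the functor -/
structure FW (Wh : Subgroup G → Subgroup G) (M Y : Subgroup G) : Prop where
  cj : ∀ (g : G) (D : Subgroup G), Wh (cj g D) = cj g (Wh D)
  eq : ∀ {V : Subgroup G}, Four V → V ≤ M → ∀ {D D' : Subgroup G},
    D ≤ Y ⊔ V → D' ≤ Y ⊔ V → Nat.card D = 8 → Nat.card D' = 8 → Wh D = Wh D'

variable {Wh : Subgroup G → Subgroup G} {M Y V W : Subgroup G}

theorem FW.mem_of_normalizes (hW : FW Wh M Y) {g : G} {D : Subgroup G} (h : IntrinsicBasic.cj g D = D) :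
    g ∈ normalizer (Wh D : Set G) := by
  rw [mem_normalizer_iff_cj, ← hW.cj, h]

/-- elements commuting with `D` normalize `D` -/
theorem cj_of_comm {x : G} {D : Subgroup G} (hx : ∀ d ∈ D, x * d = d * x) : cj x D = D := by
  ext z
  rw [mem_cj]
  constructor
  · intro hz
    have h2 := hx _ hz
    have h3 : x⁻¹ * z * x = z := by
      have h4 : x * (x⁻¹ * z * x) = z * x := by group
      rw [h4] at h2
      exact (mul_right_cancel h2).symm
    rw [h3] at hz; exact hz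
  · intro hz
    have h2 := hx _ hz
    rw [mul_assoc, ← h2, ← mul_assoc, inv_mul_cancel, one_mul]
    exact hz

section finite

variable [Finite G]

/-- the centre of `M / O(M)` is trivial -/
theorem eq_one_of_center {M : Subgroup G} (hs : IsSimpleGroup (↥M ⧸ oddCore ↥M))
    (hn : ¬ ∀ x y : ↥M ⧸ oddCore ↥M, x * y = y * x) (a : ↥M ⧸ oddCore ↥M) (ha : ∀ b, a * b = b * a) :
    a = 1 := by
  have h1 : a ∈ center (↥M ⧸ oddCore ↥M) := mem_center_iff.mpr fun b => (ha b).symm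
  rcases IsSimpleGroup.eq_bot_or_eq_top_of_normal (center (↥M ⧸ oddCore ↥M)) inferInstance with h | h
  · rw [h] at h1; exact mem_bot.mp h1
  · exfalso
    apply hn
    intro x y
    have h2 : x ∈ center (↥M ⧸ oddCore ↥M) := h ▸ mem_top x
    exact (mem_center_iff.mp h2 y).symm

/-- an involution of `M` does not fix `M` -/
theorem eq_one_of_fixes {M : Subgroup G} (hs : IsSimpleGroup (↥M ⧸ oddCore ↥M))
    (hn : ¬ ∀ x y : ↥M ⧸ oddCore ↥M, x * y = y * x) {x : G} (hx : x ∈ M) (hf : Fixes x M)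
    (hxx : x * x = 1) : x = 1 := by
  have h1 := (act_eq_one_iff hf.1).mpr hf
  have h2 := act_of_mem (K := M) hx
  have h3 : MulAut.conj (QuotientGroup.mk ⟨x, hx⟩ : ↥M ⧸ oddCore ↥M) = 1 := by rw [← h2]; exact h1
  have h4 : (QuotientGroup.mk ⟨x, hx⟩ : ↥M ⧸ oddCore ↥M) = 1 := by
    apply eq_one_of_center hs hn
    intro b
    have h5 := DFunLike.congr_fun h3 b
    rw [MulAut.conj_apply, MulAut.one_apply] at h5
    exact mul_inv_eq_iff_eq_mul.mp h5
  exact eq_one_of_mem_core_sq ((mk_eq_one_iff hx).mp h4) hxx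

namespace Frame

variable (F : Frame M Y)
include F

theorem le_cent {s : G} (hs : s ∈ Y) : M ≤ centralizer ({s} : Set G) := fun m hm =>
  mem_c (F.comm m hm s hs)

theorem fixes {s : G} (hs : s ∈ Y) : Fixes s M := fixes_self' (F.le_cent hs)

theorem eq_one {x : G} (hx : x ∈ M) (hf : Fixes x M) (hxx : x * x = 1) : x = 1 :=
  eq_one_of_fixes F.facts.simple F.facts.nab hx hf hxx

theorem notMem {s : G} (hs : s ∈ Y) (hs1 : s ≠ 1) : s ∉ M := fun h =>
  hs1 (F.eq_one h (F.fixes hs) (F.four.elem s hs))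

variable (hV : Four V) (hVM : V ≤ M)
include hV hVM

theorem notMem_V {s : G} (hs : s ∈ Y) (hs1 : s ≠ 1) : s ∉ V := fun h => F.notMem hs hs1 (hVM h)

theorem comm_V {v s : G} (hv : v ∈ V) (hs : s ∈ Y) : v * s = s * v := F.comm v (hVM hv) s hs

theorem notMem_Y {v : G} (hv : v ∈ V) (hv1 : v ≠ 1) : v ∉ Y := fun h =>
  hv1 (F.eq_one (hVM hv) (F.fixes h) (hV.elem v hv))

theorem card_s {s : G} (hs : s ∈ Y) (hs1 : s ≠ 1) : Nat.card (jn s V) = 8 :=
  hV.card_jn (F.four.elem s hs) (fun p hp => F.comm_V hV hVM hp hs) (F.notMem_V hV hVM hs hs1)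

theorem card_v {v : G} (hv : v ∈ V) (hv1 : v ≠ 1) : Nat.card (jn v Y) = 8 :=
  F.four.card_jn (hV.elem v hv) (fun p hp => (F.comm_V hV hVM hv hp).symm) (F.notMem_Y hV hVM hv hv1)

theorem s_le {s : G} (hs : s ∈ Y) : jn s V ≤ Y ⊔ V := jn_le (mem_sup_left hs) le_sup_right

theorem v_le {v : G} (hv : v ∈ V) : jn v Y ≤ Y ⊔ V := jn_le (mem_sup_right hv) le_sup_left

theorem mem_sup {x : G} (hx : x ∈ Y ⊔ V) : ∃ s ∈ Y, ∃ v ∈ V, x = s * v := by
  have hn : V ≤ normalizer (Y : Set G) := by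
    intro v hv
    rw [mem_normalizer_iff_cj]
    exact cj_of_comm fun s hs => F.comm_V hV hVM hv hs
  have h1 : x ∈ ((Y ⊔ V : Subgroup G) : Set G) := hx
  rw [sup_comm, Subgroup.coe_mul_of_left_le_normalizer_right V Y hn] at h1
  obtain ⟨v, hv, s, hs, rfl⟩ := h1
  exact ⟨s, hs, v, hv, F.comm_V hV hVM hv hs⟩

theorem elem : Elem (Y ⊔ V) := by
  intro x hx
  obtain ⟨s, hs, v, hv, rfl⟩ := F.mem_sup hV hVM hx
  exact mul_sq (F.four.elem s hs) (hV.elem v hv) (F.comm_V hV hVM hv hs).symm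

theorem card : Nat.card ↥(Y ⊔ V) = 16 := by
  obtain ⟨a, ha, ha1, -⟩ := F.four.exists_ne 1
  obtain ⟨b, hb, hb1, hba⟩ := F.four.exists_ne a
  have haa := F.four.elem a ha
  have hbb := F.four.elem b hb
  have hE := F.elem hV hVM
  have h1 : Y ⊔ V = jn a (jn b V) := by
    apply le_antisymm
    · refine sup_le ?_ ((le_jn _ _).trans (le_jn _ _))
      intro y hy
      have h1 : a ∈ jn a (jn b V) := self_mem_jn _ _
      have h2 : b ∈ jn a (jn b V) := le_jn _ _ (self_mem_jn _ _)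
      rcases F.four.mem_cases ha hb ha1 hb1 hba hy with rfl | rfl | rfl | rfl
      · exact one_mem _
      · exact h1
      · exact h2
      · exact mul_mem h1 h2
    · exact jn_le (mem_sup_left ha) (jn_le (mem_sup_left hb) le_sup_right)
  have h2 : jn b V ≤ Y ⊔ V := F.s_le hV hVM hb
  rw [h1, card_jn (fun x hx => hE x (h2 hx)) haa (fun p hp => hE.comm (h2 hp) (mem_sup_left ha)),
    F.card_s hV hVM hb hb1]
  intro h
  have h3 : ∀ p ∈ V, p * b = b * p := fun p hp => F.comm_V hV hVM hp hb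
  rcases (mem_jn hbb h3).mp h with h4 | h4
  · exact F.notMem_V hV hVM ha ha1 h4
  · refine F.notMem_V hV hVM (mul_mem hb ha) ?_ h4
    intro h5
    apply hba
    have h6 : b = a⁻¹ := eq_inv_of_mul_eq_one_left h5
    rw [h6]
    exact inv_eq_of_mul_eq_one_left haa

end Frame

namespace Frame

variable (F : Frame M Y) (hW : FW Wh M Y) (hV : Four V) (hVM : V ≤ M)
include F hW hV hVM

/-- `C(D) ≤ N(W)`, `D ≤ Y V` of order 8 -/
theorem cent_le {D D' : Subgroup G} (hD : D ≤ Y ⊔ V) (hD8 : Nat.card D = 8) (hD' : D' ≤ Y ⊔ V)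
    (hD'8 : Nat.card D' = 8) {x : G} (hx : ∀ d ∈ D, x * d = d * x) : x ∈ normalizer (Wh D' : Set G) := by
  rw [hW.eq hV hVM hD' hD hD'8 hD8]
  exact hW.mem_of_normalizes (cj_of_comm hx)

/-- **(1)** `M ≤ N(W)` -/
theorem M_le {D : Subgroup G} (hD : D ≤ Y ⊔ V) (hD8 : Nat.card D = 8) :
    M ≤ normalizer (Wh D : Set G) := by
  obtain ⟨a, haP, ha1, -⟩ := hV.exists_ne 1
  obtain ⟨b, hbP, hb1, hba⟩ := hV.exists_ne a
  have haa := hV.elem a haP
  have hbb := hV.elem b hbP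
  have hab := hV.elem.comm haP hbP
  have habP := mul_mem haP hbP
  have hab1 : a * b ≠ 1 := by
    intro h
    apply hba
    have h2 : b = a⁻¹ := (inv_eq_of_mul_eq_one_right h).symm
    rw [h2]
    exact inv_eq_of_mul_eq_one_left haa
  have key : ∀ v ∈ V, v ≠ 1 → ∀ x ∈ M, x * v = v * x → x ∈ normalizer (Wh D : Set G) := by
    intro v hv hv1 x hx hxv
    refine F.cent_le hW hV hVM (F.v_le hV hVM hv) (F.card_v hV hVM hv hv1) hD hD8 fun d hd => ?_
    rcases (mem_jn (hV.elem v hv) fun p hp => (F.comm_V hV hVM hv hp).symm).mp hd with h | h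
    · exact F.comm x hx d h
    · have h1 := F.comm x hx _ h
      have h2 : d = v * (v * d) := by rw [← mul_assoc, hV.elem v hv, one_mul]
      calc x * d = (x * v) * (v * d) := by rw [mul_assoc, ← h2]
        _ = (v * x) * (v * d) := by rw [hxv]
        _ = v * (x * (v * d)) := by group
        _ = v * ((v * d) * x) := by rw [h1]
        _ = (v * (v * d)) * x := by group
        _ = d * x := by rw [← h2]
  have hcore : core M ≤ normalizer (Wh D : Set G) := by
    refine KleinGen.le_of_klein _ _ (odd_card_core _) a b haa hbb hab ?_ ?_ ?_ ?_ ?_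
    · exact fun h hh => conj_mem_core (le_normalizer (hVM haP)) hh
    · exact fun h hh => conj_mem_core (le_normalizer (hVM hbP)) hh
    · exact fun x hx => key a haP ha1 x (core_le _ hx.1) (comm_c hx.2)
    · exact fun x hx => key b hbP hb1 x (core_le _ hx.1) (comm_c hx.2)
    · exact fun x hx => key _ habP hab1 x (core_le _ hx.1) (comm_c hx.2)
  have hnf : ∀ v ∈ V, v ≠ 1 → ∃ x ∈ M, x⁻¹ * (v * x * v⁻¹) ∉ core M := by
    intro v hv hv1
    by_contra hno
    push Not at hno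
    exact hv1 (F.eq_one (hVM hv) (fixes_iff_conj.mpr ⟨le_normalizer (hVM hv), hno⟩) (hV.elem v hv))
  have hgam : SL.GamAut (↥M ⧸ (core M).subgroupOf M) := by
    have h1 : (core M).subgroupOf M = oddCore ↥M := by
      ext x
      rw [mem_subgroupOf]
      exact mem_core_iff x.2
    exact F.facts.gam.congr (QuotientGroup.quotientMulEquivOfEq h1).symm
  exact SL.gam_mod' (L2Inner.normal_core _) (core_le _)
    (odd_card_core _) hgam haa hbb hab (le_normalizer (hVM haP)) (le_normalizer_core _ (hVM haP))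
    (le_normalizer (hVM hbP)) (le_normalizer_core _ (hVM hbP)) (hnf a haP ha1) (hnf b hbP hb1)
    (hnf _ habP hab1) _ hcore (key a haP ha1) (key b hbP hb1) (key _ habP hab1)

/-- **(2)** `O(C(s)) ≤ N(W)` -/
theorem core_le_norm {D : Subgroup G} (hD : D ≤ Y ⊔ V) (hD8 : Nat.card D = 8) {s : G} (hs : s ∈ Y) :
    core (centralizer ({s} : Set G)) ≤ normalizer (Wh D : Set G) := by
  have : Fact (Nat.Prime 2) := ⟨Nat.prime_two⟩
  obtain ⟨E, hE⟩ : ∃ E, E = Y ⊔ V := ⟨_, rfl⟩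
  have hEe : Elem E := hE ▸ F.elem hV hVM
  have hE16 : Nat.card E = 16 := hE ▸ F.card hV hVM
  have hEA : IsElementaryAbelian 2 E := by
    refine ⟨⟨⟨fun a b => Subtype.ext (hEe.comm a.2 b.2)⟩⟩, fun a ha => ?_⟩
    rw [pow_two]
    exact hEe a ha
  have hE1 : E ≠ ⊥ := by
    rintro rfl
    rw [card_bot] at hE16
    omega
  have hEy : E ≤ centralizer ({s} : Set G) := by
    intro x hx
    exact mem_c (hEe.comm hx (hE ▸ mem_sup_left hs))
  have h1 := CoprimeHyperplane.le_iSup_hyperplane (p := 2) E (core (centralizer ({s} : Set G))) hEA hE1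
    (coprime_card_core _) (hEy.trans (le_normalizer_core _))
  rw [h1]
  refine iSup_le fun ⟨B, hBE, hB⟩ => ?_
  have hB8 : Nat.card B = 8 := by
    have h2 := Subgroup.relIndex_mul_relIndex (⊥ : Subgroup G) B E bot_le hBE
    rw [relIndex_bot_left, relIndex_bot_left, hB, hE16] at h2
    omega
  intro x hx
  refine F.cent_le hW hV hVM (hE ▸ hBE) hB8 hD hD8 fun d hd => ?_
  exact (mem_centralizer_iff.mp hx.2 d hd).symm

/-- `L ≤ N(W)` for `L = M O(L)` a 2-component of `C(s)` -/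
theorem L_le {D : Subgroup G} (hD : D ≤ Y ⊔ V) (hD8 : Nat.card D = 8) {s : G} (hs : s ∈ Y)
    {L : Subgroup G} (hL : IsComp (centralizer ({s} : Set G)) L) (hsup : M ⊔ core L = L) :
    L ≤ normalizer (Wh D : Set G) := by
  have h : M ⊔ core L ≤ normalizer (Wh D : Set G) :=
    sup_le (F.M_le hW hV hVM hD hD8) (hL.core_le_core.trans (F.core_le_norm hW hV hVM hD hD8 hs))
  rwa [hsup] at h

end Frame

/-- all involutions of `M` are conjugate -/
theorem exists_conj {M : Subgroup G} (h : QFacts (↥M ⧸ oddCore ↥M)) {v w : G} (hv : v ∈ M) (hw : w ∈ M)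
    (hvv : v * v = 1) (hv1 : v ≠ 1) (hww : w * w = 1) (hw1 : w ≠ 1) : ∃ m ∈ M, m * v * m⁻¹ = w := by
  obtain ⟨c, hc⟩ := h.conj (QuotientGroup.mk ⟨v, hv⟩) (QuotientGroup.mk ⟨w, hw⟩)
    ((mk_eq_one_iff (M.mul_mem hv hv)).mpr (by rw [hvv]; exact one_mem _))
    (fun h1 => hv1 (eq_one_of_mem_core_sq ((mk_eq_one_iff hv).mp h1) hvv))
    ((mk_eq_one_iff (M.mul_mem hw hw)).mpr (by rw [hww]; exact one_mem _))
    (fun h1 => hw1 (eq_one_of_mem_core_sq ((mk_eq_one_iff hw).mp h1) hww))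
  obtain ⟨⟨c, hcM⟩, rfl⟩ := QuotientGroup.mk_surjective c
  have h1 : c * v * c⁻¹ ∈ M := M.mul_mem (M.mul_mem hcM hv) (M.inv_mem hcM)
  have h2 : (c * v * c⁻¹)⁻¹ * w ∈ core M := (mk_eq_iff h1 hw).mp hc
  have h3 := conj_sq' (g := c) hvv
  have h4 : (c * v * c⁻¹)⁻¹ = c * v * c⁻¹ := inv_eq_of_mul_eq_one_left h3
  rw [h4] at h2
  obtain ⟨k, hk, hkc⟩ := SL.conj_of_coset (odd_card_core M) h3 hww h2
  refine ⟨k * c, M.mul_mem (core_le M hk) hcM, ?_⟩
  rw [← hkc]
  group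

namespace Frame

variable (F : Frame M Y) (hW : FW Wh M Y)
include F hW

/-- **(3)** all four-groups of `M` give the same `W` -/
theorem eq_of_four (hV : Four V) (hVM : V ≤ M) {V' : Subgroup G} (hV' : Four V') (hVM' : V' ≤ M) {s : G}
    (hs : s ∈ Y) (hs1 : s ≠ 1) : Wh (jn s V) = Wh (jn s V') := by
  obtain ⟨v, hv, hv1, -⟩ := hV.exists_ne 1
  obtain ⟨w, hw, hw1, -⟩ := hV'.exists_ne 1
  obtain ⟨m, hm, hmv⟩ := exists_conj F.facts (hVM hv) (hVM' hw) (hV.elem v hv) hv1 (hV'.elem w hw) hw1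
  have hms : m * s = s * m := F.comm m hm s hs
  have e0 : Wh (jn s (cj m V)) = Wh (jn s V) := by
    rw [← cj_jn_of_comm hms, hW.cj]
    exact mem_normalizer_iff_cj.mp (F.M_le hW hV hVM (F.s_le hV hVM hs) (F.card_s hV hVM hs hs1) hm)
  have hV₁ := hV.cj m
  have hVM₁ : cj m V ≤ M := by
    have := cj_mono (g := m) hVM
    rwa [cj_eq_self_of_mem hm] at this
  have hw₁ : w ∈ cj m V := by rw [← hmv]; exact conj_mem_cj hv
  have e1 : Wh (jn s (cj m V)) = Wh (jn w Y) :=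
    hW.eq hV₁ hVM₁ (F.s_le hV₁ hVM₁ hs) (F.v_le hV₁ hVM₁ hw₁) (F.card_s hV₁ hVM₁ hs hs1)
      (F.card_v hV₁ hVM₁ hw₁ hw1)
  have e2 : Wh (jn s V') = Wh (jn w Y) :=
    hW.eq hV' hVM' (F.s_le hV' hVM' hs) (F.v_le hV' hVM' hw) (F.card_s hV' hVM' hs hs1)
      (F.card_v hV' hVM' hw hw1)
  rw [← e0, e1, e2]

/-- **(4)** the same for all four-groups of `L` -/
theorem eq_of_L (hV : Four V) (hVM : V ≤ M) {V' L : Subgroup G} {s : G} (hs : s ∈ Y) (hs1 : s ≠ 1)
    (hL : IsComp (centralizer ({s} : Set G)) L) (hsup : M ⊔ core L = L) (hV' : Four V') (hVL : V' ≤ L) :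
    Wh (jn s V') = Wh (jn s V) := by
  obtain ⟨S, hS, hVS⟩ := exists_isSyl (E := M) hV.elem.isPGroup hVM
  have hSL := isSyl_of_cover hsup hS
  obtain ⟨n, hn, hle⟩ := hSL.conj hV'.elem.isPGroup hVL
  have hV₁ : cj n⁻¹ V' ≤ S := by
    have := cj_mono (g := n⁻¹) hle
    rwa [cj_inv_cj] at this
  have hV₁4 : Four (cj n⁻¹ V') := hV'.cj _
  have e1 := F.eq_of_four hW hV₁4 (hV₁.trans hS.le) hV hVM hs hs1
  have hns : n * s = s * n := comm_c (hL.le hn)
  have e3 : Wh (jn s V') = cj n (Wh (jn s (cj n⁻¹ V'))) := by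
    rw [← hW.cj, cj_jn_of_comm hns, cj_cj_inv]
  rw [e3, e1]
  exact mem_normalizer_iff_cj.mp (F.L_le hW hV hVM (F.s_le hV hVM hs) (F.card_s hV hVM hs hs1) hs hL hsup hn)

/-- **(4)** `C(s) ∩ N(L) ≤ N(W)` -/
theorem mem_norm (hV : Four V) (hVM : V ≤ M) {L : Subgroup G} {s : G} (hs : s ∈ Y) (hs1 : s ≠ 1)
    (hL : IsComp (centralizer ({s} : Set G)) L) (hsup : M ⊔ core L = L) {g : G} (hg : g * s = s * g)
    (hgL : g ∈ normalizer (L : Set G)) : g ∈ normalizer (Wh (jn s V) : Set G) := by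
  have hML : M ≤ L := by rw [← hsup]; exact le_sup_left
  rw [mem_normalizer_iff_cj, ← hW.cj, cj_jn_of_comm hg]
  refine F.eq_of_L hW hV hVM hs hs1 hL hsup (hV.cj g) ?_
  have := cj_mono (g := g) (hVM.trans hML)
  rwa [mem_normalizer_iff_cj.mp hgL] at this

/-- two frames sharing `s` and `L` -/
theorem eq_of_share {M' Y' V' L : Subgroup G} (F' : Frame M' Y') (hV : Four V) (hVM : V ≤ M)
    (hV' : Four V') (hVM' : V' ≤ M') {s : G} (hs : s ∈ Y) (hs1 : s ≠ 1)
    (hL : IsComp (centralizer ({s} : Set G)) L) (hsup : M ⊔ core L = L) (hM'L : M' ≤ L) :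
    Wh (jn s V') = Wh (jn s V) :=
  F.eq_of_L hW hV hVM hs hs1 hL hsup hV' (hVM'.trans hM'L)

end Frame

end finite

end Cfsg.Agent.UGT.L2i
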