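import Cfsg.Agent.UGT.L2i.Pre
import Cfsg.Agent.UGT.FrameRank
import Cfsg.Agent.GH.L2One.Inst
import Cfsg.Agent.UGT.Trich
import Cfsg.Agent.UGT.InUList

/-!
# N5, `m₂(Q) = 1`, `|Q| ≥ 4`

`Pre M0 l k M Q` where `Q` has only one involution and `|Q| ≥ 4` contradicts `r(G) ≥ 5` in a minimal counterexample.
`norm_of_one`, `frame_of_one`: the 2-component `L` is normal in `C(a)`, `Q = T ⊓ fix L` for a Sylow 2-subgroup `T` of
`C(a)` (these do not need `|Q| ≥ 4`).
-/

set_option autoImplicit false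

open Cfsg Subgroup
open Cfsg.Agent.SignalizersComponents Cfsg.Agent.Lib
open Cfsg.Agent.SignalizersComponents.IntrinsicBasic
open Cfsg.Agent.SignalizersComponents.IntrinsicIntr
open Cfsg.Agent.SignalizersComponents.PLayerAut
open Cfsg.Agent.Intrinsic.Basic Cfsg.Agent.Intrinsic.Cen Cfsg.Agent.Intrinsic.Diag
open Cfsg.Agent.McLLyComp.Act
open Cfsg.Agent.UGT.TMCBase Cfsg.Agent.UGT.TMCSyl Cfsg.Agent.UGT.TMCMax Cfsg.Agent.UGT.TMCBad
open Cfsg.Agent.UGT.Triple (IsTriple)
open Cfsg.Agent.UGT.Iface (Bar IsInner IsL2 IsAlt MinCex)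
open Cfsg.Agent.Walter.SylowIn
open scoped commutatorElement

universe u

namespace Cfsg.Agent.UGT.L2i.OneFour

variable {G : Type u} [Group G] [Finite G]

section rank

variable {A : Type*} [Group A] {x : G} {K T D Q : Subgroup G} {d : ℕ} {r c : G} {o1 : G → ℤˣ} {o2 : G → A}

/-- **CASE II**: `T` is not a Sylow 2-subgroup of `G` if `O(G) = 1` and `Z(G) = 1`. -/
theorem caseTwo (hodd : ∀ N : Subgroup G, N.Normal → Odd (Nat.card N) → N = ⊥) (hc : center G = ⊥)
    (F : GH.L2One.Frame x K T D Q d r c o1 o2) (P : Sylow 2 G) (hP : (P : Subgroup G) = T) : False := by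
  obtain ⟨z, H⟩ := F.two P hP
  have hxo : orderOf x = 2 := orderOf_eq_prime (by rw [pow_two]; exact F.xx) F.x_ne
  obtain ⟨N, hN, hNodd, hNc⟩ := Cfsg.Agent.S0215.result P x hxo (by
      show x ∈ (P : Subgroup G)
      rw [hP]; exact F.x_T) (by
    intro g hg
    by_contra hne
    refine H.no_bad (y := g * x * g⁻¹) ⟨?_, hne, g, rfl⟩
    rw [← hP]; exact hg)
  have h1 := hodd N hN hNodd
  have hxc : x ∈ center G := by
    rw [mem_center_iff]
    intro g
    have h2 := hNc g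
    rw [h1, mem_bot] at h2
    calc g * x = (x * g * x⁻¹ * g⁻¹)⁻¹ * (x * g) := by group
      _ = x * g := by rw [h2, inv_one, one_mul]
  rw [hc, mem_bot] at hxc
  exact F.x_ne hxc

/-- `m₂(Q) = 1`, `|Q| ≥ 4`: sectional 2-rank at most 4. -/
theorem rank_of_frame (hodd : ∀ N : Subgroup G, N.Normal → Odd (Nat.card N) → N = ⊥) (hc : center G = ⊥)
    (F : GH.L2One.Frame x K T D Q d r c o1 o2) : SectionalPRankLE 2 4 G := by
  obtain ⟨P, hTP⟩ := F.T_two.exists_le_sylow
  by_cases hPT : T = (P : Subgroup G)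
  · exact (caseTwo hodd hc F P hPT.symm).elim
  · obtain ⟨s, T0, h, -⟩ := GH.L2One.CaseOne.dbl F P.isPGroup' hTP hPT
    exact FrameRank.rank_of_dbl P h

end rank

theorem odd_of_minCex (hG : MinCex G) (hr : ¬ SectionalPRankLE 2 4 ↥(generalizedFittingSubgroup G))
    (N : Subgroup G) (hN : N.Normal) (hodd : Odd (Nat.card N)) : N = ⊥ := by
  have hs := hG.simple
  have hF : (generalizedFittingSubgroup G).Normal := Trich.normal_fs
  have h1 : N ⊓ generalizedFittingSubgroup G = ⊥ := by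
    have hn : (N.subgroupOf (generalizedFittingSubgroup G)).Normal := hN.comap _
    rcases hn.eq_bot_or_eq_top with h | h
    · rwa [Subgroup.subgroupOf_eq_bot, disjoint_iff] at h
    · exfalso
      rw [Subgroup.subgroupOf_eq_top] at h
      have h2 : Odd (Nat.card ↥(generalizedFittingSubgroup G)) :=
        Odd.of_dvd_nat hodd (Subgroup.card_dvd_of_le h)
      exact hr (GH.Rank.le_mono (by norm_num)
        (GH.Rank.zero_of_not_dvd Nat.prime_two h2.not_two_dvd_nat) (by norm_num))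
  have h2 : N ≤ centralizer (generalizedFittingSubgroup G : Set G) := by
    intro x hx
    rw [mem_centralizer_iff]
    intro y hy
    exact (Subgroup.commute_of_normal_of_disjoint _ _ hF hN
      (disjoint_iff.mpr (by rw [inf_comm]; exact h1)) y x hy hx).eq
  rw [Trich.centralizer_fs hG] at h2
  exact le_bot_iff.mp h2

theorem center_of_minCex (hG : MinCex G) : center G = ⊥ := by
  rw [eq_bot_iff, ← Trich.centralizer_fs hG]
  exact Subgroup.center_le_centralizer _

variable {M0 : ℕ} {l k : G} {M Q : Subgroup G}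

section one

variable {a : G} {L : Subgroup G}

omit [Finite G] in
/-- `k ∈ {1, a}` -/
theorem k_comm (h : Pre M0 l k M Q) (h1 : ∀ q ∈ Q, q * q = 1 → q = 1 ∨ q = a) {r : G}
    (hr : r * a = a * r) : r * k = k * r := by
  rcases h1 k h.kQ h.kk with h2 | h2
  · rw [h2, mul_one, one_mul]
  · rw [h2]; exact hr

/-- a 2-subgroup of `FX a L` containing `Q` is `Q` -/
theorem eq_Q (h : Pre M0 l k M Q) (ha : a ∈ Q) (haa : orderOf a = 2)
    (h1 : ∀ q ∈ Q, q * q = 1 → q = 1 ∨ q = a) (hL : IsComp (centralizer ({a} : Set G)) L) (hML : M ≤ L)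
    {R : Subgroup G} (hR : IsPGroup 2 R) (hQR : Q ≤ R) (hRL : R ≤ FX a L) : R = Q :=
  h.syl ha haa hL hML hR hQR (fun r hr => mem_FX.mp (hRL hr))
    (fun r hr => k_comm h h1 (mem_FX.mp (hRL hr)).1)
    (fun c hc => k_comm h h1 (comm_c (hL.le hc)))

omit [Finite G] in
/-- `a ∈ Z(Q)` -/
theorem a_comm (h : Pre M0 l k M Q) (ha : a ∈ Q) (haa : orderOf a = 2)
    (h1 : ∀ q ∈ Q, q * q = 1 → q = 1 ∨ q = a) {q : G} (hq : q ∈ Q) : q * a = a * q := by
  have h2 := Triple.sq_of_order haa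
  have h3 : q * a * q⁻¹ = a := by
    refine (h1 _ (mul_mem (mul_mem hq ha) (inv_mem hq)) ?_).resolve_left fun h4 => ?_
    · calc q * a * q⁻¹ * (q * a * q⁻¹) = q * (a * a) * q⁻¹ := by group
        _ = 1 := by rw [h2]; group
    · apply Triple.ne_one_of_order haa
      calc a = q⁻¹ * (q * a * q⁻¹) * q := by group
        _ = 1 := by rw [h4]; group
  rwa [mul_inv_eq_iff_eq_mul] at h3

theorem Q_le (h : Pre M0 l k M Q) (ha : a ∈ Q) (haa : orderOf a = 2)
    (h1 : ∀ q ∈ Q, q * q = 1 → q = 1 ∨ q = a)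
    (hL : IsComp (centralizer ({a} : Set G)) L) (hML : M ≤ L) : Q ≤ FX a L := by
  obtain ⟨L', hF, hML', hs⟩ := h.good a ha haa
  obtain rfl := h.unique hL hF.tri.comp hML hML'
  intro q hq
  have hqa := a_comm h ha haa h1 hq
  exact mem_FX.mpr ⟨hqa, TMC.fixes_of_cent h.self hL hs hqa
    (mem_centralizer_iff.mpr fun m hm => (h.comm q hq m hm).symm)⟩

/-- `Q` is a Sylow 2-subgroup of `FX a L`. -/
theorem sylIn_Q (h : Pre M0 l k M Q) (ha : a ∈ Q) (haa : orderOf a = 2)
    (h1 : ∀ q ∈ Q, q * q = 1 → q = 1 ∨ q = a) (hL : IsComp (centralizer ({a} : Set G)) L) (hML : M ≤ L) :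
    SylIn 2 Q (FX a L) := by
  obtain ⟨R, hR, hQR⟩ := exists_sylIn_ge (Q_le h ha haa h1 hL hML) h.two
  rwa [eq_Q h ha haa h1 hL hML hR.isPGroup hQR hR.le] at hR

/-- **`L` is normal in `C(a)`** if `a` is the only involution of `Q`. -/
theorem norm_of_one (h : Pre M0 l k M Q) (ha : a ∈ Q) (haa : orderOf a = 2)
    (h1 : ∀ q ∈ Q, q * q = 1 → q = 1 ∨ q = a) (hL : IsComp (centralizer ({a} : Set G)) L) (hML : M ≤ L) :
    centralizer ({a} : Set G) ≤ normalizer (L : Set G) := by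
  have hp2 : Fact (Nat.Prime 2) := ⟨Nat.prime_two⟩
  obtain ⟨L', hF, hML', -⟩ := h.good a ha haa
  obtain rfl := h.unique hL hF.tri.comp hML hML'
  intro c hc
  rw [mem_normalizer_iff_cj]
  by_contra hne
  have hca : c * a * c⁻¹ = a := conj_of_comm (comm_c hc)
  have hT' := hF.cj' c
  rw [hca] at hT'
  have hT := hT'.tri
  have hc' := hT.comp
  obtain ⟨u, hu⟩ := exists_prime_orderOf_dvd_card' 2 hc'.even
  have huL : (u : G) ∈ cj c L := u.2
  have hu2 : orderOf (u : G) = 2 := by rw [Subgroup.orderOf_coe, hu]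
  have huF : (u : G) ∈ FX a L :=
    mem_FX.mpr ⟨comm_c (hc'.le huL), hL.fixes_of_mem hc' (fun h => hne h.symm) huL⟩
  have huu := Triple.sq_of_order hu2
  have hu1 := Triple.ne_one_of_order hu2
  obtain ⟨g, hg, hgQ⟩ := (sylIn_Q h ha haa h1 hL hML).conj_le (zpowers_le.mpr huF) (isPGroup_zp huu)
  have h2 := hgQ _ (mem_zpowers (u : G))
  have h3 : g * u * g⁻¹ = a := by
    refine (h1 _ h2 ?_).resolve_left fun h4 => hu1 ?_
    · calc g * (u : G) * g⁻¹ * (g * u * g⁻¹) = g * ((u : G) * u) * g⁻¹ := by group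
        _ = 1 := by rw [huu]; group
    · calc (u : G) = g⁻¹ * (g * u * g⁻¹) * g := by group
        _ = 1 := by rw [h4]; group
  have h4 : (u : G) = a := by
    calc (u : G) = g⁻¹ * (g * u * g⁻¹) * g := by group
      _ = g⁻¹ * (a * g) := by rw [h3, mul_assoc]
      _ = a := by rw [← (mem_FX.mp hg).1]; group
  refine not_fixes_inv hT'.ctr huL huu hu1 ?_
  rw [h4]
  exact fixes_self hc'

/-- `Q = T ⊓ fix L` -/
theorem inf_fix (h : Pre M0 l k M Q) (ha : a ∈ Q) (haa : orderOf a = 2)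
    (h1 : ∀ q ∈ Q, q * q = 1 → q = 1 ∨ q = a) (hL : IsComp (centralizer ({a} : Set G)) L) (hML : M ≤ L)
    {T : Subgroup G} (hT : SylIn 2 T (centralizer ({a} : Set G))) (hQT : Q ≤ T) :
    T ⊓ GH.L2Frame.fix L = Q := by
  refine eq_Q h ha haa h1 hL hML (hT.isPGroup.to_le inf_le_left) (le_inf hQT fun q hq => ?_) ?_
  · exact GH.L2Frame.mem_fix.mpr (mem_FX.mp (Q_le h ha haa h1 hL hML hq)).2
  · intro r hr
    exact mem_FX.mpr ⟨comm_c (hT.le hr.1), GH.L2Frame.mem_fix.mp hr.2⟩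

end one

omit [Finite G] in
/-- type of the simple group -/
theorem hasData {L : Subgroup G} (hZ : center (Bar L) = ⊥) (h : IsL2 (Bar L) ∨ IsAlt 7 (Bar L)) :
    GH.L2One.HasData (GH.Defs.STop L) := by
  have e : Bar L ≃* GH.Defs.STop L :=
    ((QuotientGroup.quotientMulEquivOfEq hZ).trans QuotientGroup.quotientBot).symm
  rcases h with h | h
  · exact (GH.L2One.hasData_of_l2 h).congr e
  · exact (GH.L2One.hasData_of_a7 h).congr e

omit [Finite G] in
theorem not_evenCenter {L : Subgroup G} (hZ : center (Bar L) = ⊥) : ¬ GH.Defs.EvenCenter L := by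
  intro h
  have h1 : Nat.card (center (Bar L)) = 1 := by rw [hZ]; exact Subgroup.card_bot
  change Even (Nat.card (center (Bar L))) at h
  rw [h1] at h
  exact Nat.not_even_one h

/-- **N5, `m₂(Q) = 1`, `|Q| ≥ 4`.** -/
theorem false_of_pre (hG : MinCex G) (hr : ¬ SectionalPRankLE 2 4 ↥(generalizedFittingSubgroup G))
    (h : Pre M0 l k M Q) {a : G} (ha : a ∈ Q) (haa : orderOf a = 2)
    (h1 : ∀ q ∈ Q, q * q = 1 → q = 1 ∨ q = a) (h4 : 4 ≤ Nat.card Q) : False := by
  obtain ⟨L, hF, hML, -⟩ := h.good a ha haa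
  have hL := hF.tri.comp
  have hZ := hF.ctr
  have hn := norm_of_one h ha haa h1 hL hML
  obtain ⟨T, hT, hQT⟩ := exists_sylIn_ge (p := 2) (R := Q) (H := centralizer ({a} : Set G))
    (fun q hq => mem_c (mem_FX.mp (Q_le h ha haa h1 hL hML hq)).1) h.two
  have hf := inf_fix h ha haa h1 hL hML hT hQT
  obtain ⟨A, _, d, r, c, o1, o2, F⟩ := GH.L2One.HasData.frame haa
    ⟨hL, not_evenCenter hZ, hT.le.trans hn, hT⟩ hn (hasData hZ (Or.inl hF.ty))
    (by rw [hf]; exact h1) (by rw [hf]; exact h4)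
  exact hr (GH.Rank.of_subgroup
    (rank_of_frame (odd_of_minCex hG hr) (center_of_minCex hG) F) _)

end Cfsg.Agent.UGT.L2i.OneFour
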