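import Cfsg.Agent.UGT.L2i.Setup
import Cfsg.Agent.UGT.Q2.Defs

/-!
# P0 (SETUP): `|Q| = 2` gives the hypothesis `(H)` of THEOREM Q2
-/

set_option autoImplicit false

open Cfsg Subgroup
open Cfsg.Agent.SignalizersComponents Cfsg.Agent.Lib
open Cfsg.Agent.SignalizersComponents.IntrinsicBasic
open Cfsg.Agent.SignalizersComponents.IntrinsicIntr
open Cfsg.Agent.SignalizersComponents.PLayerAut
open Cfsg.Agent.Intrinsic.Basic Cfsg.Agent.Intrinsic.Cen Cfsg.Agent.Intrinsic.Diag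
open Cfsg.Agent.McLLyComp.Act
open Cfsg.Agent.UGT.TMCBase Cfsg.Agent.UGT.TMCSyl Cfsg.Agent.UGT.TMCMax Cfsg.Agent.UGT.TMCBad
open Cfsg.Agent.UGT.Triple (IsTriple)
open Cfsg.Agent.UGT.Iface (Bar IsInner IsL2 IsAlt)
open scoped commutatorElement

universe u

namespace Cfsg.Agent.UGT.L2i

variable {G : Type u} [Group G] [Finite G]

theorem world (hT : ∀ (x a : G) (L : Subgroup G), IsTriple x a L → IsL2 (Bar L) ∨ IsAlt 7 (Bar L)) :
    Q2.World G := by
  intro x a L h
  rcases hT x a L h with h1 | h1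
  · obtain ⟨F, i1, i2, -, h2⟩ := L2i.exists_rep h1
    exact Or.inl ⟨F, i1, i2, h2⟩
  · exact Or.inr h1

/-- `PSL(2,F)` and `A₇` have different orders -/
theorem isL2_of_l2q (hT : ∀ (x a : G) (L : Subgroup G), IsTriple x a L → IsL2 (Bar L) ∨ IsAlt 7 (Bar L))
    {q : ℕ} {x a : G} {L : Subgroup G} (h : IsTriple x a L) (hq : Q2.L2q q L) :
    IsL2 (Bar L) ∧ Nat.card (Bar L) * 2 = q * (q ^ 2 - 1) := by
  obtain ⟨F, i1, i2, h1, ⟨R⟩⟩ := hq
  have h2 := R.card_mul_two
  rw [h1] at h2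
  refine ⟨(hT x a L h).resolve_right ?_, h2⟩
  rintro ⟨e⟩
  change Nat.card (Bar L) * 2 = _ at h2
  rw [Nat.card_congr e.toEquiv, card_alt7] at h2
  rcases le_or_gt q 17 with h3 | h3
  · interval_cases q <;> simp at h2
  · have h4 : 18 ^ 2 ≤ q ^ 2 := Nat.pow_le_pow_left h3 2
    have h5 : 18 * (18 ^ 2 - 1) ≤ q * (q ^ 2 - 1) := Nat.mul_le_mul h3 (by omega)
    omega

section two

variable {M0 : ℕ} {l k : G} {M Q : Subgroup G}

/-- the uniform bound for `|Q| = 2` -/
theorem Pre.tp_le (h : Pre M0 l k M Q) (h2 : Nat.card Q = 2) {x e : G} {N : Subgroup G} (hF : FF M0 x e N) :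
    tp (FXx x e N) ≤ 2 := by
  have hee := Triple.sq_of_order hF.tri.inva
  have he : e ∈ FXx x e N := mem_FXx.mpr ⟨⟨rfl, fixes_self hF.tri.comp⟩, hF.tri.comm⟩
  have h3 : 2 ≤ el (FXx x e N) := by
    rw [← show Nat.card (zpowers e) = 2 by rw [Nat.card_zpowers, hF.tri.inva]]
    refine le_el (zpowers_le.mpr he) fun v hv => ?_
    have hv' := mem_zpowers_iff.mp hv
    obtain ⟨n, rfl⟩ := hv'
    have h9 : Commute e e := Commute.refl e
    rw [← h9.mul_zpow, hee, one_zpow]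
  have h4 : el Q ≤ 2 := by
    obtain ⟨A, hA, -, hAc⟩ := exists_el Q
    rw [← hAc, ← h2]
    exact Subgroup.card_le_of_le hA
  have h5 := h.uni x e N hF (le_antisymm (h.rk x e N hF) (h4.trans h3))
  rwa [h2] at h5

/-- **(H)** for the maximal family -/
theorem Pre.bound (h : Pre M0 l k M Q) (h2 : Nat.card Q = 2) {x e : G} {N R : Subgroup G}
    (hF : FF M0 x e N) (hR : IsPGroup 2 R) (hRe : ∀ r ∈ R, r * e = e * r) (hRN : ∀ r ∈ R, Fixes r N) :
    Nat.card R ≤ 2 := by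
  have hp2 : Fact (Nat.Prime 2) := ⟨Nat.prime_two⟩
  have T := hF.tri
  have hee := Triple.sq_of_order T.inva
  have he1 := Triple.ne_one_of_order T.inva
  obtain ⟨l', hl', hll, hl1, -, hxl, hfl⟩ := exists_l T hF.ctr hF.inn (Q := ⊥) (IsPGroup.of_bot)
    (by intro q hq; rw [mem_bot.mp hq, one_mul, mul_one]) (by intro q hq; rw [mem_bot.mp hq, one_mul, mul_one])
    (by intro q hq; rw [mem_bot.mp hq]; exact fixes_one N)
  have hxx := Triple.sq_of_order T.invx
  have hle := comm_c (T.comp.le hl')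
  -- `u = x l'`
  have huF : x * l' ∈ FXx x e N := by
    refine mem_FXx.mpr ⟨⟨?_, hfl⟩, ?_⟩
    · rw [mul_assoc, hle, ← mul_assoc, ← T.comm, mul_assoc]
    · rw [mul_assoc, ← hxl]
  have huu : (x * l') * (x * l') = 1 := by
    calc (x * l') * (x * l') = x * (l' * x) * l' := by group
      _ = (x * x) * (l' * l') := by rw [← hxl]; group
      _ = 1 := by rw [hxx, hll, one_mul]
  have heF : e ∈ FXx x e N := mem_FXx.mpr ⟨⟨rfl, fixes_self T.comp⟩, T.comm⟩
  have hu : x * l' = 1 ∨ x * l' = e := by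
    have hR2 : IsPGroup 2 ↥(zpowers e ⊔ zpowers (x * l')) := by
      refine (isPGroup_zp hee).to_sup_of_normal_left' (isPGroup_zp huu) ?_
      rw [zpowers_le]
      apply mem_normalizer_iff_cj.mpr
      refine cj_of_comm fun q hq => mem_c ?_
      have := (mem_FXx.mp huF).1.1
      obtain ⟨n, rfl⟩ := mem_zpowers_iff.mp hq
      exact ((show Commute (x * l') e from this).zpow_right n).eq.symm
    have h3 := (card_le_tp hR2 (sup_le (zpowers_le.mpr heF) (zpowers_le.mpr huF))).trans (h.tp_le h2 hF)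
    have h4 : Nat.card (zpowers e) = 2 := by rw [Nat.card_zpowers, T.inva]
    have h5 : zpowers e = zpowers e ⊔ zpowers (x * l') :=
      Subgroup.eq_of_le_of_card_ge le_sup_left (by rw [h4]; exact h3)
    have h6 : x * l' ∈ zpowers e := by rw [h5]; exact mem_sup_right (mem_zpowers _)
    rw [Subgroup.mem_zpowers_iff] at h6
    obtain ⟨n, hn⟩ := h6
    rcases Int.even_or_odd' n with ⟨m, h7 | h7⟩
    · left; rw [← hn, h7, zpow_mul]
      have : e ^ (2 : ℤ) = 1 := by rw [zpow_two, hee]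
      rw [this, one_zpow]
    · right; rw [← hn, h7, zpow_add, zpow_mul, zpow_one]
      have : e ^ (2 : ℤ) = 1 := by rw [zpow_two, hee]
      rw [this, one_zpow, one_mul]
  -- an `R`-invariant conjugate of `l'`
  obtain ⟨w, hw, hww, hwr, hwP⟩ := TMCMax.exists_lift T.comp (fun r hr => mem_c (hRe r hr)) hR hl'
    (by rw [hll]; exact one_mem _) (fun r hr => T.comp.core_le_core ((hRN r hr).2 l' hl'))
  have hlw : l' * w ∈ core N := by
    rw [T.comp.core_eq]
    refine ⟨mul_mem hl' hw, ?_⟩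
    rwa [inv_of_sq hll] at hwr
  obtain ⟨c, hc, hcw⟩ := SL.conj_of_coset (odd_card_core N) hll hww hlw
  have hcL : c ∈ N := core_le N hc
  have hcy : c * e = e * c := comm_c (T.comp.le hcL)
  have hF' := hF.cj' c
  have hx : x = l' * (x * l') := by rw [← mul_assoc, ← hxl, mul_assoc, hll, mul_one]
  have hcu : ∀ v : G, v * e = e * v → v * (x * l') = (x * l') * v := by
    intro v hv
    rcases hu with h3 | h3
    · rw [h3, mul_one, one_mul]
    · rw [h3]; exact hv
  have e1 : c * x * c⁻¹ = w * (x * l') := by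
    have h3 : c * (l' * (x * l')) * c⁻¹ = w * (x * l') := by
      have h4 := hcu c⁻¹ (by
        have : Commute c e := hcy
        exact this.inv_left)
      rw [← hcw]
      calc c * (l' * (x * l')) * c⁻¹ = c * l' * ((x * l') * c⁻¹) := by group
        _ = c * l' * (c⁻¹ * (x * l')) := by rw [h4]
        _ = c * l' * c⁻¹ * (x * l') := by group
    rwa [← hx] at h3
  have e2 : cj c N = N := mem_normalizer_iff_cj.mp (le_normalizer hcL)
  rw [e1, conj_of_comm hcy, e2] at hF'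
  have hRF : R ≤ FXx (w * (x * l')) e N := by
    intro r hr
    refine mem_FXx.mpr ⟨⟨hRe r hr, hRN r hr⟩, ?_⟩
    calc r * (w * (x * l')) = r * w * (x * l') := by rw [mul_assoc r w]
      _ = w * r * (x * l') := by rw [hwP r hr]
      _ = w * (r * (x * l')) := by rw [mul_assoc w r]
      _ = w * (x * l' * r) := by rw [hcu r (hRe r hr)]
      _ = w * (x * l') * r := by rw [mul_assoc w]
  exact (card_le_tp hR hRF).trans (h.tp_le h2 hF')

/-- **`(H)`.** -/
theorem Pre.hq (hT : ∀ (x a : G) (L : Subgroup G), IsTriple x a L → IsL2 (Bar L) ∨ IsAlt 7 (Bar L))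
    (h : Pre M0 l k M Q) (h2 : Nat.card Q = 2) :
    ∃ q, Q2.HQ G q ∧ ∃ (x a : G) (L : Subgroup G), IsTriple x a L ∧ Q2.L2q q L ∧ IsInner x L := by
  obtain ⟨a, L, haQ, ha, hF, -⟩ := h.exists_Lx
  obtain ⟨F, i1, i2, -, ⟨R⟩⟩ := L2i.exists_rep hF.ty
  have hL : Q2.L2q (Nat.card F) L := ⟨F, i1, i2, rfl, ⟨R⟩⟩
  refine ⟨Nat.card F, ?_, l * k, a, L, hF.tri, hL, hF.inn⟩
  intro x e N hTr hN hin Q' hQ' hQe hQN
  obtain ⟨h3, h4⟩ := isL2_of_l2q hT hTr hN
  obtain ⟨-, h5⟩ := isL2_of_l2q hT hF.tri hL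
  have hc : Nat.card (Bar N) = M0 := by
    have := hF.card
    omega
  exact h.bound h2 ⟨hTr, hin, h3, hc⟩ hQ' (fun r hr => comm_c (hQe hr)) hQN

end two

end Cfsg.Agent.UGT.L2i
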