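import Cfsg.Agent.UGT.L2i.Setup
import Cfsg.Agent.UGT.L2i.CanonEnd
import Cfsg.Agent.UGT.L2i.ClsEnd
import Cfsg.Agent.UGT.L2i.OneFour
import Cfsg.Agent.UGT.L2i.ToQ2
import Cfsg.Agent.UGT.TT.FactsL2
import Cfsg.Agent.UGT.NodesR1

/-!
# N5: assembly

`Pre` (SETUP) → rank of `Q` at least 2: `ActA` → `Pkg` → CANON → `Cls` → contradiction (`false_of_rank`);
`Q` with one involution, `|Q| ≥ 4`: `OneFour`; `|Q| = 2`: THEOREM Q2.

* `false_of_inner` : the three cases.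
* `nodeL2r` : **N5 in the world `PSL₂(q)`** (`NodesR1`), from THEOREM Q2.
* `nodeL2i_of` : **N5 in the world `PSL₂(q)`, `A₇`**, from THEOREM Q2 and `ThmBad`: no bad configuration `Bad7`.
-/

set_option autoImplicit false

open Cfsg Subgroup
open Cfsg.Agent.SignalizersComponents Cfsg.Agent.Lib
open Cfsg.Agent.SignalizersComponents.IntrinsicBasic
open Cfsg.Agent.Intrinsic.Basic Cfsg.Agent.Intrinsic.Cen Cfsg.Agent.Intrinsic.Diag
open Cfsg.Agent.UGT.TMCSyl
open Cfsg.Agent.UGT.Triple (IsTriple)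
open Cfsg.Agent.UGT.Iface (Bar IsInner IsL2 IsAlt MinCex)
open Cfsg.Agent.UGT.L2Inner (L2T T27 No7 Four no7_of_rep)
open scoped commutatorElement

universe u

namespace Cfsg.Agent.UGT.L2i

variable {G : Type u} [Group G] [Finite G] {M0 : ℕ} {l k : G} {M Q : Subgroup G}

/-- two different commuting involutions or a unique involution -/
theorem Pre.rank_or (h : Pre M0 l k M Q) :
    (∃ a ∈ Q, ∃ b ∈ Q, orderOf a = 2 ∧ orderOf b = 2 ∧ a * b = b * a ∧ a ≠ b) ∨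
    ∃ a ∈ Q, orderOf a = 2 ∧ ∀ q ∈ Q, q * q = 1 → q = 1 ∨ q = a := by
  have hp2 : Fact (Nat.Prime 2) := ⟨Nat.prime_two⟩
  obtain ⟨a, haQ, ha, -⟩ := h.src
  have : Nontrivial Q := by
    refine ⟨⟨⟨a, haQ⟩, 1, fun h1 => Triple.ne_one_of_order ha (congrArg Subtype.val h1)⟩⟩
  obtain ⟨⟨z, hz⟩, hz2⟩ : ∃ z : center Q, orderOf z = 2 := by
    have h1 : Nontrivial (center Q) := h.two.center_nontrivial
    have h2 : IsPGroup 2 (center Q) := h.two.to_subgroup _
    obtain ⟨n, hn⟩ := IsPGroup.iff_card.mp h2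
    have h3 : 2 ∣ Nat.card (center Q) := by
      rw [hn]
      refine dvd_pow_self 2 fun h4 => ?_
      rw [h4, pow_zero] at hn
      exact absurd hn (Finite.one_lt_card (α := center Q)).ne'
    exact exists_prime_orderOf_dvd_card' 2 h3
  have hzo : orderOf (z : G) = 2 := by
    rw [Subgroup.orderOf_coe]
    rw [← Subgroup.orderOf_coe] at hz2
    exact hz2
  have hzc : ∀ q ∈ Q, q * (z : G) = z * q := fun q hq =>
    congrArg Subtype.val (mem_center_iff.mp hz ⟨q, hq⟩)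
  by_cases h1 : ∀ q ∈ Q, q * q = 1 → q = 1 ∨ q = z
  · exact Or.inr ⟨z, z.2, hzo, h1⟩
  · push Not at h1
    obtain ⟨q, hq, hqq, hq1, hqz⟩ := h1
    exact Or.inl ⟨z, z.2, q, hq, hzo, order_two hqq hq1, (hzc q hq).symm, fun h => hqz h.symm⟩

/-- `M / O(M)` is of type `PSL(2,F)` -/
theorem Pre.l2T (h : Pre M0 l k M Q) : L2T M := by
  obtain ⟨F, i1, i2, -, R⟩ := h.exists_rep
  exact ⟨F, i1, i2, R⟩

/-- for a 2-component `L` covered by `M` -/
theorem Pre.exists_comp (h : Pre M0 l k M Q) {y : G} (hy : y ∈ Q) (hyy : y * y = 1) (hy1 : y ≠ 1) :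
    ∃ L, IsComp (centralizer ({y} : Set G)) L ∧ M ≤ L ∧ M ⊔ core L = L ∧ L2T L := by
  obtain ⟨L, h1, h2, h3⟩ := h.good y hy (order_two hyy hy1)
  obtain ⟨e, -⟩ := exists_quotEquiv h3
  exact ⟨L, h1.tri.comp, h2, h3, l2t_congr e h.l2T⟩

section rank

variable (rep : ∀ (x a : G) (K : Subgroup G), IsTriple x a K → T27 K)
include rep

theorem Pre.yFrame (h : Pre M0 l k M Q) {Y : Subgroup G} (hYQ : Y ≤ Q) (hY : ∀ y ∈ Y, y * y = 1)
    (hc : Nat.card Y = 4) : L2Inner.YFrame M Y where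
  ysq := hY
  ycard := hc
  ym := fun y hy m hm => h.comm y (hYQ hy) m hm
  comp := fun y hy hy1 => h.exists_comp (hYQ hy) (hY y hy) hy1
  rep := rep

theorem Pre.actA (h : Pre M0 l k M Q) (no7 : ∀ Y : Subgroup G, Four Y → Y ≤ Q → k ∈ Y → No7 M Y) :
    ActA M Q k := by
  intro Y t s t' c hYQ hk hY hYc htM htt ht1 hsM hst hodd ht' htt' ht't hinv hc hs
  have h1 := (h.yFrame rep hYQ hY hYc).mem_core (no7 Y ⟨hYc, hY⟩ hYQ hk) (t := t) (s := s) (t' := t')
    (c := 1) (c' := c) ⟨htM, htt, ht1, hsM, hst, hodd, ht', htt', ht't, hinv⟩ hc hs (one_mem _)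
  rwa [one_mul] at h1

/-- **The case `m₂(Q) ≥ 2`.** -/
theorem Pre.false_of_rank (h1173 : SL.P1173.{u}) (FT : ∀ Y : Subgroup G, Odd (Nat.card Y) → Group.IsSolvable Y)
    (hG : MinCex G) (hO : oddCore G = ⊥) (h : Pre M0 l k M Q)
    (no7 : ∀ k' : G, Pre M0 l k' M Q → ∀ Y : Subgroup G, Four Y → Y ≤ Q → k' ∈ Y → No7 M Y)
    (hr : ∃ a ∈ Q, ∃ b ∈ Q, orderOf a = 2 ∧ orderOf b = 2 ∧ a * b = b * a ∧ a ≠ b) : False := by
  obtain ⟨F, _, _, h11, ⟨R⟩⟩ := h.exists_rep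
  have h1 := h.one_of_rank (h.actA rep (no7 k h)) hr
  obtain ⟨N₀, -, h2, C⟩ := (h1.pkg hr).canon7 h.l2T rep
    (fun Y hY hYQ => no7 1 h1 Y hY hYQ (one_mem Y)) FT
  obtain ⟨e, -⟩ := exists_quotEquiv h2
  exact ClsEnd.false_of_minCex h1173 hG hO C (TT.tfacts R h11) e.symm

end rank

/-- `O(G) = 1` -/
theorem oddCore_of_minCex (hG : MinCex G) (hr : ¬ SectionalPRankLE 2 4 ↥(generalizedFittingSubgroup G)) :
    oddCore G = ⊥ :=
  OneFour.odd_of_minCex hG hr _ (inferInstance) (GH.L2Frame.odd_card_oddCore G)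

/-- **N5, the three cases.** -/
theorem false_of_inner (hG : MinCex G) (hr : ¬ SectionalPRankLE 2 4 ↥(generalizedFittingSubgroup G))
    (hT : ∀ (x a : G) (L : Subgroup G), IsTriple x a L → IsL2 (Bar L) ∨ IsAlt 7 (Bar L))
    (hrank : ∀ (M0 : ℕ) (l k : G) (M Q : Subgroup G), Pre M0 l k M Q →
      (∀ (x a : G) (L : Subgroup G), IsTriple x a L → IsInner x L → IsL2 (Bar L) → Nat.card (Bar L) ≤ M0) →
      (∃ a ∈ Q, ∃ b ∈ Q, orderOf a = 2 ∧ orderOf b = 2 ∧ a * b = b * a ∧ a ≠ b) → False)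
    (hq2 : ∀ q : ℕ, Q2.World G → Q2.HQ G q → ¬ SectionalPRankLE 2 4 G →
      ¬ ∃ (x a : G) (L : Subgroup G), IsTriple x a L ∧ Q2.L2q q L ∧ IsInner x L)
    {x a : G} {L : Subgroup G} (h : IsTriple x a L) (hty : IsL2 (Bar L)) (hin : IsInner x L) : False := by
  obtain ⟨M0, l, k, M, Q, hP, hM0⟩ := exists_pre hT ⟨x, a, L, h, hin, hty⟩
  rcases hP.rank_or with h1 | ⟨a, haQ, ha, h1⟩
  · exact hrank M0 l k M Q hP hM0 h1
  · by_cases h4 : 4 ≤ Nat.card Q
    · exact OneFour.false_of_pre hG hr hP haQ ha h1 h4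
    · have h2 : Nat.card Q = 2 := by
        have hp2 : Fact (Nat.Prime 2) := ⟨Nat.prime_two⟩
        obtain ⟨n, hn⟩ := IsPGroup.iff_card.mp hP.two
        have h5 : n = 1 := by
          rcases n with _ | _ | n
          · exfalso
            rw [pow_zero] at hn
            have h6 := Subgroup.card_eq_one.mp hn
            rw [h6, mem_bot] at haQ
            exact Triple.ne_one_of_order ha haQ
          · rfl
          · exfalso
            rw [hn] at h4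
            apply h4
            have : 2 ^ 2 ≤ 2 ^ (n + 1 + 1) := Nat.pow_le_pow_right (by norm_num) (by omega)
            omega
        rw [hn, h5, pow_one]
      obtain ⟨q, h5, h6⟩ := hP.hq hT h2
      exact hq2 q (world hT) h5 (fun h7 => hr (GH.Rank.of_subgroup h7 _)) h6

/-- THEOREM Q2 -/
def ThmQ2 : Prop := ∀ (G : Type u) [Group G] [Finite G] (q : ℕ), Q2.World G → Q2.HQ G q →
  ¬ SectionalPRankLE 2 4 G → ¬ ∃ (x a : G) (L : Subgroup G), IsTriple x a L ∧ Q2.L2q q L ∧ IsInner x L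

/-- the sectional 2-rank of `F*(G)` is at least 5 -/
def Rank5 : Prop := ∀ (G : Type u) [Group G] [Finite G], MinCex G →
  ¬ SectionalPRankLE 2 4 ↥(generalizedFittingSubgroup G)

/-- the type of the triples -/
theorem t27 (hT : ∀ (x a : G) (L : Subgroup G), IsTriple x a L → IsL2 (Bar L) ∨ IsAlt 7 (Bar L))
    (x a : G) (L : Subgroup G) (h : IsTriple x a L) : T27 L := by
  rcases hT x a L h with h1 | h1
  · obtain ⟨F, i1, i2, -, h2⟩ := L2i.exists_rep h1
    exact Or.inl ⟨F, i1, i2, h2⟩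
  · obtain ⟨e⟩ := h1
    exact Or.inr (UAlt.Mod.nonempty_of_equiv (K := L) (S := (Finset.univ : Finset (Fin 7)))
      (by rw [Finset.card_univ, Fintype.card_fin]) (Ω := Fin 7) (by rw [Finset.card_univ]) e)

/-- **N5 in the world `PSL₂(q)`.** -/
theorem nodeL2r (h1173 : SL.P1173.{u})
    (FT : ∀ (G : Type u) [Group G] [Finite G] (Y : Subgroup G), Odd (Nat.card Y) → Group.IsSolvable Y)
    (h5 : Rank5.{u}) (hQ : ThmQ2.{u}) : Nodes.NodeL2r.{u} := by
  intro G _ _ hG hT x a L h hin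
  have hr := h5 G hG
  refine false_of_inner hG hr (fun x a L t => Or.inl (hT x a L t)) ?_ (fun q => hQ G q) h (hT x a L h) hin
  have rep : ∀ (x a : G) (K : Subgroup G), IsTriple x a K → L2T K := by
    intro x a K t
    obtain ⟨F, i1, i2, -, h2⟩ := L2i.exists_rep (hT x a K t)
    exact ⟨F, i1, i2, h2⟩
  intro M0 l k M Q hP _ h1
  exact hP.false_of_rank (fun x a K t => (rep x a K t).t27) h1173 (FT G) hG (oddCore_of_minCex hG hr)
    (fun _ _ _ _ _ _ => no7_of_rep rep) h1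

/-- There is no bad configuration (bb #12930). -/
def ThmBad : Prop := ∀ (G : Type u) [Group G] [Finite G], ¬ SectionalPRankLE 2 4 G →
  (∀ (x a : G) (L : Subgroup G), IsTriple x a L → IsL2 (Bar L) ∨ IsAlt 7 (Bar L)) →
  ∀ (M0 : ℕ) (l k : G) (M Q : Subgroup G), Pre M0 l k M Q →
    (∀ (x a : G) (L : Subgroup G), IsTriple x a L → IsInner x L → IsL2 (Bar L) → Nat.card (Bar L) ≤ M0) →
    ∀ Y : Subgroup G, Four Y → Y ≤ Q → k ∈ Y → No7 M Y

/-- **N5.** -/
theorem nodeL2i_of (h1173 : SL.P1173.{u})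
    (FT : ∀ (G : Type u) [Group G] [Finite G] (Y : Subgroup G), Odd (Nat.card Y) → Group.IsSolvable Y)
    (h5 : Rank5.{u}) (hQ : ThmQ2.{u}) (hB : ThmBad.{u}) : Nodes.NodeL2i.{u} := by
  intro G _ _ hG hT x a L h hty hin
  have hr := h5 G hG
  have hr' : ¬ SectionalPRankLE 2 4 G := fun h7 => hr (GH.Rank.of_subgroup h7 _)
  refine false_of_inner hG hr hT ?_ (fun q => hQ G q) h hty hin
  intro M0 l k M Q hP hM0 h1
  exact hP.false_of_rank (t27 hT) h1173 (FT G) hG (oddCore_of_minCex hG hr)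
    (fun k' hk' => hB G hr' hT M0 l k' M Q hk' hM0) h1

end Cfsg.Agent.UGT.L2i
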