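import Cfsg.Agent.UGT.L2i.Wt

/-!
# P0 (SETUP), part 3: `x = l k`, `l ∈ M`, `k ∈ Z(Q)`

`Pre M0 l k M Q`: `M` commutes with the 2-group `Q ≠ 1` and covers a 2-component `L_y` of `C(y)` for all involutions
`y ∈ Q`; `x = l k` with an involution `l ∈ M` and `k ∈ Z(Q)`, `k² = 1`; the `(x, y, L_y)` are inner triples of maximal
order `M0`, and `Q` has maximal weight.
-/

set_option autoImplicit false

open Cfsg Subgroup
open Cfsg.Agent.SignalizersComponents Cfsg.Agent.Lib
open Cfsg.Agent.SignalizersComponents.IntrinsicBasic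
open Cfsg.Agent.SignalizersComponents.IntrinsicIntr
open Cfsg.Agent.SignalizersComponents.PLayerAut
open Cfsg.Agent.Intrinsic.Basic Cfsg.Agent.Intrinsic.Cen Cfsg.Agent.Intrinsic.Diag
open Cfsg.Agent.McLLyComp.Act
open Cfsg.Agent.UGT.TMCBase Cfsg.Agent.UGT.TMCSyl Cfsg.Agent.UGT.TMCMax Cfsg.Agent.UGT.TMCBad
open Cfsg.Agent.UGT.Triple (IsTriple)
open Cfsg.Agent.UGT.Iface (Bar IsInner IsL2)
open scoped commutatorElement

universe u

namespace Cfsg.Agent.UGT.L2i

variable {G : Type u} [Group G]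

/-- The output of the second part of SETUP. -/
structure Pre (M0 : ℕ) (l k : G) (M Q : Subgroup G) : Prop where
  self : IsComp M M
  comm : ∀ q ∈ Q, ∀ m ∈ M, q * m = m * q
  two : IsPGroup 2 Q
  src : ∃ a ∈ Q, orderOf a = 2 ∧ ∃ L : Subgroup G, IsComp (centralizer ({a} : Set G)) L ∧ Q ≤ FX a L ∧
    M = TMC.KK L Q
  lM : l ∈ M
  ll : l * l = 1
  l1 : l ≠ 1
  kQ : k ∈ Q
  kk : k * k = 1
  kc : ∀ q ∈ Q, q * k = k * q
  good : ∀ y ∈ Q, orderOf y = 2 → ∃ L, FF M0 (l * k) y L ∧ M ≤ L ∧ M ⊔ core L = L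
  /-- the weight is maximal among all inner triples of order `M0` -/
  max : ∀ (x' e : G) (N : Subgroup G), FF M0 x' e N → Q ≤ FXx x' e N → tp (FXx x' e N) ≤ Nat.card Q
  /-- the rank is maximal among all inner triples of order `M0` -/
  rk : ∀ (x' e : G) (N : Subgroup G), FF M0 x' e N → el (FXx x' e N) ≤ el Q
  /-- the 2-part is maximal among all inner triples of order `M0` and the same rank -/
  uni : ∀ (x' e : G) (N : Subgroup G), FF M0 x' e N → el (FXx x' e N) = el Q → tp (FXx x' e N) ≤ Nat.card Q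

variable [Finite G]

/-- `O^{2'}(C_L(Q))` covers the trivial pump-ups -/
theorem KK_cov {a e : G} {L Q N : Subgroup G} (hL : IsComp (centralizer ({a} : Set G)) L)
    (h2 : IsPGroup 2 Q) (hQ : Q ≤ FX a L) (he : e ∈ Q) (hee : e * e = 1) (hN : cen L e ⊔ core N = N) :
    TMC.KK L Q ⊔ core N = N := by
  have hs := TMC.KK_sup hL h2 hQ
  have hcore : core (cen L e) ≤ core N := core_le_of_sup hN
  have hcN : cen L e ≤ N := by rw [← hN]; exact le_sup_left
  have hKe : TMC.KK L Q ≤ cen L e := by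
    refine PComponents.pElem_mono (le_inf inf_le_left ?_)
    intro x hx
    exact mem_c (mem_centralizer_iff.mp hx.2 e he).symm
  have hceq : core (cen L e) = cen L e ⊓ core L :=
    core_cen hL (mem_c (hQ he).1) hee (hQ he).2
  refine sup_of_exists (hKe.trans hcN) fun x hx => ?_
  obtain ⟨c, hc, hcx⟩ := exists_mul_of_sup hN hx
  obtain ⟨k, hk, hkc⟩ := exists_mul_of_sup hs (cen_le L e hc)
  refine ⟨k, hk, ?_⟩
  have h1 : k⁻¹ * c ∈ core (cen L e) := by
    rw [hceq]
    exact ⟨(cen L e).mul_mem ((cen L e).inv_mem (hKe hk)) hc, hkc⟩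
  have h2 : k⁻¹ * x = (k⁻¹ * c) * (c⁻¹ * x) := by group
  rw [h2]
  exact mul_mem (hcore h1) hcx

/-- a 2-subgroup of `FXx` normalised by ... a commuting involution of `FXx` lies in `Q` -/
theorem TermX.mem {M0 : ℕ} {x a : G} {L Q : Subgroup G} (h : TermX M0 x a L Q) {k : G}
    (hk : k ∈ FXx x a L) (hkk : k * k = 1) (hkQ : ∀ q ∈ Q, q * k = k * q) : k ∈ Q := by
  have hp2 : Fact (Nat.Prime 2) := ⟨Nat.prime_two⟩
  have hR2 : IsPGroup 2 ↥(Q ⊔ zpowers k) := by
    refine h.base.two.to_sup_of_normal_left' (isPGroup_zp hkk) ?_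
    rw [zpowers_le]
    apply mem_normalizer_iff_cj.mpr
    exact cj_of_comm fun q hq => mem_c (hkQ q hq)
  have hle : Q ⊔ zpowers k ≤ FXx x a L := sup_le h.le (zpowers_le.mpr hk)
  have h1 := card_le_tp hR2 hle
  rw [← h.card] at h1
  have h2 : Q = Q ⊔ zpowers k := Subgroup.eq_of_le_of_card_ge le_sup_left h1
  rw [h2]
  exact mem_sup_right (mem_zpowers k)

/-- **SETUP, second part.** -/
theorem TermX.pre {M0 : ℕ} {x a : G} {L Q : Subgroup G} (h : TermX M0 x a L Q) :
    ∃ l k, x = l * k ∧ Pre M0 l k (TMC.KK L Q) Q := by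
  have hT := h.base.fam.tri
  have hL := hT.comp
  have hQF : Q ≤ FX a L := fun q hq => (mem_FXx.mp (h.le hq)).1
  have hQx : ∀ q ∈ Q, q * x = x * q := fun q hq => comm_c (h.base.le hq)
  have hxx := Triple.sq_of_order hT.invx
  obtain ⟨l, hl, hll, hl1, hlq, hxl, hfl⟩ := exists_l hT h.base.fam.ctr h.base.fam.inn h.base.two
    h.base.comm hQx h.base.fix
  have hs := TMC.KK_sup hL h.base.two hQF
  have hM := TMC.isComp_self hL hs (TMC.pElem_pElem _)
  have hlM : l ∈ TMC.KK L Q := by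
    refine PComponents.mem_pElem (n := 1) ⟨hl, ?_⟩ (by rw [pow_one, pow_two, hll])
    exact mem_centralizer_iff.mpr fun q hq => hlq q hq
  have hkk : (x * l) * (x * l) = 1 := by
    calc (x * l) * (x * l) = x * (l * x) * l := by group
      _ = (x * x) * (l * l) := by rw [← hxl]; group
      _ = 1 := by rw [hxx, hll, one_mul]
  have hkc : ∀ q ∈ Q, q * (x * l) = (x * l) * q := by
    intro q hq
    rw [← mul_assoc, hQx q hq, mul_assoc, hlq q hq, mul_assoc]
  have hkF : x * l ∈ FXx x a L := by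
    refine mem_FXx.mpr ⟨⟨?_, hfl⟩, ?_⟩
    · rw [mul_assoc, comm_c (hL.le hl), ← mul_assoc, ← hT.comm, mul_assoc]
    · rw [mul_assoc, ← hxl]
  have hkQ := h.mem hkF hkk hkc
  have hxlk : l * (x * l) = x := by rw [← mul_assoc, ← hxl, mul_assoc, hll, mul_one]
  refine ⟨l, x * l, hxlk.symm, hM, fun q hq m hm => TMC.KK_comm hm hq, h.base.two,
    ⟨a, h.base.mem, hT.inva, L, hL, hQF, rfl⟩, hlM, hll, hl1, hkQ, hkk, hkc, ?_, h.max, h.rk, h.uni⟩
  intro y hy hyy
  rw [hxlk]
  obtain ⟨N, hN, hNs⟩ := h.good y hy (sq_of_order hyy) (ne_one_of_order hyy)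
  have h1 := KK_cov hL h.base.two hQF hy (sq_of_order hyy) hNs
  exact ⟨N, hN, by rw [← h1]; exact le_sup_left, h1⟩

section pre

variable {M0 : ℕ} {l k : G} {M Q : Subgroup G}

/-- the 2-component belonging to `M` is unique -/
theorem Pre.unique (h : Pre M0 l k M Q) {y : G} {L L' : Subgroup G}
    (hL : IsComp (centralizer ({y} : Set G)) L) (hL' : IsComp (centralizer ({y} : Set G)) L')
    (hM : M ≤ L) (hM' : M ≤ L') : L = L' := h.self.unique hL hL' hM hM'

/-- `Q` is a Sylow 2-subgroup of `FX y L_y` if `y = k` or `k = 1`. -/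
theorem Pre.syl (h : Pre M0 l k M Q) {y : G} (hy : y ∈ Q) (hyy : orderOf y = 2) {L : Subgroup G}
    (hL : IsComp (centralizer ({y} : Set G)) L) (hML : M ≤ L) {R : Subgroup G} (hR : IsPGroup 2 R)
    (hQR : Q ≤ R) (hRL : ∀ r ∈ R, r * y = y * r ∧ Fixes r L) (hRk : ∀ r ∈ R, r * k = k * r)
    (hLk : ∀ c ∈ L, c * k = k * c) : R = Q := by
  obtain ⟨L', hF, hML', -⟩ := h.good y hy hyy
  obtain rfl := h.unique hL hF.tri.comp hML hML'
  have hlL := hML h.lM
  have hX : core (centralizer ({y} : Set G)) ≤ centralizer ({y} : Set G) := core_le _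
  -- an `R`-invariant conjugate of `l`
  obtain ⟨w, hw, hww, hwr, hwP⟩ := exists_lift hL (fun r hr => mem_c (hRL r hr).1) hR hlL
    (by rw [h.ll]; exact one_mem _) (fun r hr => hL.core_le_core ((hRL r hr).2.2 l hlL))
  have hlw : l * w ∈ core L := by
    rw [hL.core_eq]
    refine ⟨mul_mem hlL hw, ?_⟩
    rwa [inv_of_sq h.ll] at hwr
  obtain ⟨c, hc, hcw⟩ := SL.conj_of_coset (odd_card_core L) h.ll hww hlw
  have hcL : c ∈ L := core_le L hc
  have hcy : c * y = y * c := comm_c (hL.le hcL)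
  have hF' := hF.cj' c
  have e1 : c * (l * k) * c⁻¹ = w * k := by
    rw [← hcw]
    calc c * (l * k) * c⁻¹ = c * l * (k * c⁻¹) := by group
      _ = c * l * (c⁻¹ * k) := by rw [hLk _ (inv_mem hcL)]
      _ = c * l * c⁻¹ * k := by group
  have e2 : cj c L = L := mem_normalizer_iff_cj.mp (le_normalizer hcL)
  rw [e1, conj_of_comm hcy, e2] at hF'
  have hRF : R ≤ FXx (w * k) y L := by
    intro r hr
    refine mem_FXx.mpr ⟨hRL r hr, ?_⟩
    rw [← mul_assoc, hwP r hr, mul_assoc, hRk r hr, mul_assoc]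
  have h1 := h.max _ _ _ hF' (hQR.trans hRF)
  have h2 := (card_le_tp hR hRF).trans h1
  exact (Subgroup.eq_of_le_of_card_ge hQR h2).symm

/-- the `max` field of `Pkg` -/
theorem Pre.max_of_one (h : Pre M0 l 1 M Q) {y : G} (hy : y ∈ Q) (hyy : orderOf y = 2) {L : Subgroup G}
    (hL : IsComp (centralizer ({y} : Set G)) L) (hML : M ≤ L) {R : Subgroup G} (hR : IsPGroup 2 R)
    (hQR : Q ≤ R) (hRL : ∀ r ∈ R, r * y = y * r ∧ Fixes r L) : R = Q :=
  h.syl hy hyy hL hML hR hQR hRL (fun r _ => by rw [mul_one, one_mul])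
    (fun r _ => by rw [mul_one, one_mul])

/-- if some `m ∈ M ∩ O(C(l))` is not in `O(M)`, then `x` may be replaced by `l` -/
theorem Pre.one (h : Pre M0 l k M Q) {m : G} (hm : m ∈ M) (hmc : m ∉ core M)
    (hml : m ∈ core (centralizer ({l} : Set G))) : Pre M0 l 1 M Q where
  self := h.self
  comm := h.comm
  two := h.two
  src := h.src
  lM := h.lM
  ll := h.ll
  l1 := h.l1
  kQ := one_mem _
  kk := mul_one _
  kc q _ := by rw [mul_one, one_mul]
  good := by
    intro y hy hyy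
    obtain ⟨L, hF, hML, hs⟩ := h.good y hy hyy
    have hZ := hF.ctr
    rw [mul_one]
    refine ⟨L, ⟨⟨order_two h.l1 h.ll, hyy, h.comm y hy l h.lM, hF.tri.comp, m, hml,
      mem_c (h.comm y hy m hm).symm, fun hf => hmc ?_⟩, ⟨l, hML h.lM, ?_⟩, hF.ty, hF.card⟩, hML, hs⟩
    · have hmL := hML hm
      have h3 : (QuotientGroup.mk' (oddCore ↥L)) ⟨m, hmL⟩ ∈ center (Bar L) := (mk_center_iff hmL).mpr hf
      rw [hZ, mem_bot] at h3
      have h4 : m ∈ core L := (mem_core_iff hmL).mpr ((QuotientGroup.eq_one_iff _).mp h3)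
      rw [core_of_sup hs]
      exact ⟨hm, h4⟩
    · rw [mul_inv_cancel]; exact fixes_one L
  max := h.max
  rk := h.rk
  uni := h.uni

end pre

end Cfsg.Agent.UGT.L2i
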