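import Cfsg.Agent.UGT.L2i.Setup

/-!
# P0 (SETUP): the triples `(t k, y, L_y)` for all involutions `t ∈ M`
-/

set_option autoImplicit false

open Cfsg Subgroup
open Cfsg.Agent.SignalizersComponents Cfsg.Agent.Lib
open Cfsg.Agent.SignalizersComponents.IntrinsicBasic
open Cfsg.Agent.SignalizersComponents.IntrinsicIntr
open Cfsg.Agent.SignalizersComponents.PLayerAut
open Cfsg.Agent.Intrinsic.Basic Cfsg.Agent.Intrinsic.Cen Cfsg.Agent.Intrinsic.Diag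
open Cfsg.Agent.McLLyComp.Act
open Cfsg.Agent.UGT.TMCBase Cfsg.Agent.UGT.TMCSyl Cfsg.Agent.UGT.TMCMax Cfsg.Agent.UGT.TMCBad
open Cfsg.Agent.UGT.Triple (IsTriple)
open Cfsg.Agent.UGT.Iface (Bar IsInner IsL2 IsAlt)
open scoped commutatorElement

universe u

namespace Cfsg.Agent.UGT.L2i

variable {G : Type u} [Group G] [Finite G] {M0 : ℕ} {l k : G} {M Q : Subgroup G}

/-- all involutions of `M` are conjugate in `M` -/
theorem Pre.exists_conj' (h : Pre M0 l k M Q) {t t₁ : G} (ht : t ∈ M) (htt : t * t = 1) (ht1 : t ≠ 1)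
    (hs : t₁ ∈ M) (hss : t₁ * t₁ = 1) (hs1 : t₁ ≠ 1) : ∃ g ∈ M, g * t₁ * g⁻¹ = t := by
  obtain ⟨F, _, _, h11, ⟨R⟩⟩ := h.exists_rep
  have hq := qfacts R h11
  have hb : ∀ s ∈ M, s * s = 1 → s ≠ 1 → ∀ hs : s ∈ M,
      (QuotientGroup.mk ⟨s, hs⟩ : ↥M ⧸ oddCore ↥M) * QuotientGroup.mk ⟨s, hs⟩ = 1 ∧
      (QuotientGroup.mk ⟨s, hs⟩ : ↥M ⧸ oddCore ↥M) ≠ 1 := by
    intro s hs hss hs1 _
    refine ⟨congrArg (QuotientGroup.mk' (oddCore ↥M)) (Subtype.ext hss : (⟨s, hs⟩ : ↥M) * ⟨s, hs⟩ = 1), ?_⟩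
    intro h1
    exact hs1 (eq_one_of_mem_core_sq ((mem_core_iff hs).mpr ((QuotientGroup.eq_one_iff _).mp h1)) hss)
  obtain ⟨b1, b2⟩ := hb t₁ hs hss hs1 hs
  obtain ⟨b3, b4⟩ := hb t ht htt ht1 ht
  obtain ⟨g, hg⟩ := hq.conj _ _ b1 b2 b3 b4
  obtain ⟨⟨g₀, hg₀⟩, rfl⟩ := QuotientGroup.mk_surjective g
  have hgl : g₀ * t₁ * g₀⁻¹ ∈ M := M.mul_mem (M.mul_mem hg₀ hs) (M.inv_mem hg₀)
  have h1 : (QuotientGroup.mk ⟨g₀ * t₁ * g₀⁻¹, hgl⟩ : ↥M ⧸ oddCore ↥M) = QuotientGroup.mk ⟨t, ht⟩ := hg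
  have h2 : (g₀ * t₁ * g₀⁻¹)⁻¹ * t ∈ core M := (mk_eq_iff hgl ht).mp h1
  have h3 : (g₀ * t₁ * g₀⁻¹) * (g₀ * t₁ * g₀⁻¹) = 1 := by
    calc g₀ * t₁ * g₀⁻¹ * (g₀ * t₁ * g₀⁻¹) = g₀ * (t₁ * t₁) * g₀⁻¹ := by group
      _ = 1 := by rw [hss]; group
  rw [inv_of_sq h3] at h2
  obtain ⟨w, hw, hwt⟩ := SL.conj_of_coset (odd_card_core M) h3 htt h2
  refine ⟨w * g₀, mul_mem (core_le M hw) hg₀, ?_⟩
  rw [← hwt]
  group

theorem Pre.exists_conj (h : Pre M0 l k M Q) {t : G} (ht : t ∈ M) (htt : t * t = 1) (ht1 : t ≠ 1) :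
    ∃ g ∈ M, g * l * g⁻¹ = t := h.exists_conj' ht htt ht1 h.lM h.ll h.l1

/-- `l` may be replaced by any involution of `M`. -/
theorem Pre.replace (h : Pre M0 l k M Q) {t : G} (ht : t ∈ M) (htt : t * t = 1) (ht1 : t ≠ 1) :
    Pre M0 t k M Q := by
  obtain ⟨g, hg, hgt⟩ := h.exists_conj ht htt ht1
  refine ⟨h.self, h.comm, h.two, h.src, ht, htt, ht1, h.kQ, h.kk, h.kc, ?_, h.max, h.rk, h.uni⟩
  intro y hy hyy
  obtain ⟨L, hF, hML, hs⟩ := h.good y hy hyy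
  have hF' := hF.cj' g
  have e1 : g * (l * k) * g⁻¹ = t * k := by
    have h1 : k * g⁻¹ = g⁻¹ * k := h.comm k h.kQ _ (inv_mem hg)
    calc g * (l * k) * g⁻¹ = g * l * (k * g⁻¹) := by group
      _ = g * l * g⁻¹ * k := by rw [h1]; group
      _ = t * k := by rw [hgt]
  have e2 : cj g L = L := mem_normalizer_iff_cj.mp (le_normalizer (hML hg))
  rw [e1, conj_of_comm (h.comm y hy g hg).symm, e2] at hF'
  exact ⟨L, hF', hML, hs⟩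

end Cfsg.Agent.UGT.L2i
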