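import Cfsg.Agent.UGT.L2i.Pre
import Cfsg.Agent.UGT.L2Inner.WBStar
import Cfsg.Agent.UGT.L2Inner.P3Elem

/-!
# P0 (SETUP): the package `Pkg M Q`

* `Pre.exists_m` : `m ∈ M ∩ O(C(x))` of odd order, `m ∉ O(M)`, inverted by an involution `t' ∈ C_M(l)`.
* `ActA` : the statement (A2) of `L2Inner/ActA.lean` for `M` and the four-groups of `Q`.
* `Pre.pkg` : `Pkg M Q` if `x = l`; `exists_pkg` : the main theorem of SETUP.
-/

set_option autoImplicit false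

open Cfsg Subgroup
open Cfsg.Agent.SignalizersComponents Cfsg.Agent.Lib
open Cfsg.Agent.SignalizersComponents.IntrinsicBasic
open Cfsg.Agent.SignalizersComponents.IntrinsicIntr
open Cfsg.Agent.SignalizersComponents.PLayerAut
open Cfsg.Agent.Intrinsic.Basic Cfsg.Agent.Intrinsic.Cen Cfsg.Agent.Intrinsic.Diag
open Cfsg.Agent.McLLyComp.Act
open Cfsg.Agent.UGT.TMCBase Cfsg.Agent.UGT.TMCSyl Cfsg.Agent.UGT.TMCMax Cfsg.Agent.UGT.TMCBad
open Cfsg.Agent.UGT.Triple (IsTriple)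
open Cfsg.Agent.UGT.Iface (Bar IsInner IsL2 IsAlt)
open Cfsg.Agent.UGT.L2Inner (L2T)
open scoped commutatorElement

universe u

namespace Cfsg.Agent.UGT.L2i

variable {G : Type u} [Group G] [Finite G]

section pre

variable {M0 : ℕ} {l k : G} {M Q : Subgroup G}

/-- the data of the triple `(l k, a, L)` -/
theorem Pre.exists_Lx (h : Pre M0 l k M Q) : ∃ (a : G) (L : Subgroup G), a ∈ Q ∧ orderOf a = 2 ∧
    FF M0 (l * k) a L ∧ M ≤ L ∧ M ⊔ core L = L ∧ M = TMC.KK L Q ∧ Lx (l * k) a l L Q := by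
  obtain ⟨a, haQ, ha, L, hL, hQF, hM⟩ := h.src
  obtain ⟨L', hF, hML, hs⟩ := h.good a haQ ha
  have hML' : M ≤ L := hM ▸ TMC.KK_le L Q
  obtain rfl := h.unique hL hF.tri.comp hML' hML
  have hlk : l * k = k * l := (h.comm k h.kQ l h.lM).symm
  refine ⟨a, L, haQ, ha, hF, hML, hs, hM, hF.tri, hF.ty, hML h.lM, h.ll, h.l1, ?_, ?_, h.two, ?_, ?_, ?_, ?_⟩
  · rw [mul_assoc, ← hlk]
  · have e : l * k * l = k := by rw [hlk, mul_assoc, h.ll, mul_one]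
    rw [e]
    exact (hQF h.kQ).2
  · exact fun q hq => (hQF hq).1
  · intro q hq
    rw [← mul_assoc, h.comm q hq l h.lM, mul_assoc, h.kc q hq, mul_assoc]
  · exact fun q hq => h.comm q hq l h.lM
  · exact fun q hq => (hQF hq).2

/-- **The torus element.** -/
theorem Pre.exists_m (h : Pre M0 l k M Q) : ∃ m ∈ M, ∃ t' ∈ M, m * l = l * m ∧ t' * l = l * t' ∧
    t' * t' = 1 ∧ t' ≠ 1 ∧ t' ≠ l ∧ t' * m * t'⁻¹ = m⁻¹ ∧ Odd (orderOf m) ∧ m ∉ core M ∧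
    m ∈ core (centralizer ({l * k} : Set G)) := by
  obtain ⟨a, L, haQ, ha, hF, hML, hs, hM, hx⟩ := h.exists_Lx
  obtain ⟨d, hd, hda, hdQ, -, t', ht', htt, ht1, htl, hlt, htQ, hxt, hm⟩ := hx.exists_dt
  have hdL := hF.tri.mem_normalizer_of_core hd hda
  have hmemM : ∀ w ∈ L, w * w = 1 → (∀ q ∈ Q, q * w = w * q) → w ∈ M := by
    intro w hw hww hwQ
    rw [hM]
    refine PComponents.mem_pElem (n := 1) ⟨hw, ?_⟩ (by rw [pow_one, pow_two, hww])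
    exact mem_centralizer_iff.mpr fun q hq => hwQ q hq
  have ht'M := hmemM t' ht' htt htQ
  have hdt : d * t' * d⁻¹ ∈ M := by
    refine hmemM _ (conj_mem hdL ht') ?_ fun q hq => ?_
    · calc d * t' * d⁻¹ * (d * t' * d⁻¹) = d * (t' * t') * d⁻¹ := by group
        _ = 1 := by rw [htt]; group
    · have c1 : Commute q d := hdQ q hq
      have c2 : Commute q t' := htQ q hq
      exact ((c1.mul_right c2).mul_right c1.inv_right)
  have hmM : d * t' * d⁻¹ * t'⁻¹ ∈ M := mul_mem hdt (inv_mem ht'M)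
  have hmx : d * t' * d⁻¹ * t'⁻¹ ∈ core (centralizer ({l * k} : Set G)) := by
    have e : d * t' * d⁻¹ * t'⁻¹ = d * (t' * d⁻¹ * t'⁻¹) := by group
    rw [e]
    exact mul_mem hd (Triple.conj_core (mem_c hxt.symm) (inv_mem hd))
  have hdl : d * l = l * d := by
    have h1 : d * (l * k) = (l * k) * d := comm_c (core_le _ hd)
    have h2 : k * d = d * k := hdQ k h.kQ
    have h3 : d * l * k = l * d * k := by rw [mul_assoc, h1, mul_assoc, h2, ← mul_assoc]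
    exact mul_right_cancel h3
  refine ⟨_, hmM, t', ht'M, ?_, hlt.symm, htt, ht1, htl, ?_, ?_, ?_, hmx⟩
  · have c1 : Commute d l := hdl
    have c2 : Commute t' l := hlt.symm
    exact ((c1.mul_left c2).mul_left c1.inv_left).mul_left c2.inv_left
  · have hti := inv_of_sq htt
    rw [hti]
    calc t' * (d * t' * d⁻¹ * t') * t' = t' * d * t' * d⁻¹ * (t' * t') := by group
      _ = t' * d * t' * d⁻¹ := by rw [htt, mul_one]
      _ = t'⁻¹⁻¹ * (d * t'⁻¹ * d⁻¹) := by rw [inv_inv, hti]; group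
      _ = (d * t' * d⁻¹ * t'⁻¹)⁻¹ := by group
      _ = (d * t' * d⁻¹ * t')⁻¹ := by rw [hti]
  · have h4 := orderOf_dvd_natCard (⟨_, hmx⟩ : ↥(core (centralizer ({l * k} : Set G))))
    rw [Subgroup.orderOf_mk] at h4
    exact Odd.of_dvd_nat (odd_card_core _) h4
  · intro h5
    rw [core_of_sup hs] at h5
    exact hm h5.2

/-- `M / O(M) ≅ PSL₂(F)`, `|F| ≥ 11` -/
theorem Pre.exists_rep (h : Pre M0 l k M Q) : ∃ (F : Type) (_ : Field F) (_ : Finite F), 11 ≤ Nat.card F ∧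
    Nonempty (Cfsg.Agent.GH.L2Aut.Rep F (↥M ⧸ oddCore ↥M)) := by
  obtain ⟨a, L, haQ, ha, hF, hML, hs, hM, hx⟩ := h.exists_Lx
  obtain ⟨e, -⟩ := exists_quotEquiv hs
  obtain ⟨F, i1, i2, -, ⟨R⟩⟩ := L2i.exists_rep hF.ty
  have h11 := hx.eleven R
  have hty : IsL2 (↥M ⧸ oddCore ↥M) := isL2_congr hF.ty e.symm
  obtain ⟨F', j1, j2, -, ⟨R'⟩⟩ := L2i.exists_rep hty
  refine ⟨F', j1, j2, ?_, ⟨R'⟩⟩
  have h1 := R.card_mul_two
  have h2 := R'.card_mul_two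
  rw [Nat.card_congr e.toEquiv] at h2
  change Nat.card (↥L ⧸ oddCore ↥L) * 2 = _ at h1
  by_contra hlt
  push Not at hlt
  have h3 : Nat.card F' * (Nat.card F' ^ 2 - 1) < Nat.card F * (Nat.card F ^ 2 - 1) := by
    have h4 : Nat.card F' < Nat.card F := by omega
    have h5 : Nat.card F' ^ 2 - 1 ≤ Nat.card F ^ 2 - 1 :=
      Nat.sub_le_sub_right (Nat.pow_le_pow_left h4.le 2) 1
    refine Nat.mul_lt_mul_of_lt_of_le h4 h5 ?_
    have : 11 ^ 2 ≤ Nat.card F ^ 2 := Nat.pow_le_pow_left h11 2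
    omega
  omega

/-- **The package.** -/
theorem Pre.pkg (h : Pre M0 l 1 M Q)
    (hr : ∃ a ∈ Q, ∃ b ∈ Q, orderOf a = 2 ∧ orderOf b = 2 ∧ a * b = b * a ∧ a ≠ b) : Pkg M Q := by
  obtain ⟨F, _, _, h11, ⟨R⟩⟩ := h.exists_rep
  have hq := qfacts R h11
  refine ⟨h.self, hq, ?_, h.comm, h.two, hr, fun y hy hyy => ?_, fun y hy hyy L hL hML _ S hS hQS hSL => ?_⟩
  · intro t ht hto
    have htt := sq_of_order hto
    obtain ⟨m, hm, t', ht', hml, htl, htt', ht1, htl', hinv, hodd, hmc, -⟩ := h.exists_m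
    -- `l` and `t` are conjugate in `M`
    obtain ⟨g, hg, hgt⟩ : ∃ g ∈ M, g * l * g⁻¹ = t := by
      have hb : ∀ s ∈ M, s * s = 1 → s ≠ 1 → ∀ hs : s ∈ M,
          (QuotientGroup.mk ⟨s, hs⟩ : ↥M ⧸ oddCore ↥M) * QuotientGroup.mk ⟨s, hs⟩ = 1 ∧
          (QuotientGroup.mk ⟨s, hs⟩ : ↥M ⧸ oddCore ↥M) ≠ 1 := by
        intro s hs hss hs1 _
        refine ⟨congrArg (QuotientGroup.mk' (oddCore ↥M)) (Subtype.ext hss : (⟨s, hs⟩ : ↥M) * ⟨s, hs⟩ = 1), ?_⟩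
        intro h1
        exact hs1 (eq_one_of_mem_core_sq ((mem_core_iff hs).mpr ((QuotientGroup.eq_one_iff _).mp h1)) hss)
      obtain ⟨b1, b2⟩ := hb l h.lM h.ll h.l1 h.lM
      obtain ⟨b3, b4⟩ := hb t ht htt (ne_one_of_order hto) ht
      obtain ⟨g, hg⟩ := hq.conj _ _ b1 b2 b3 b4
      obtain ⟨⟨g₀, hg₀⟩, rfl⟩ := QuotientGroup.mk_surjective g
      have hgl : g₀ * l * g₀⁻¹ ∈ M := M.mul_mem (M.mul_mem hg₀ h.lM) (M.inv_mem hg₀)
      have h1 : (QuotientGroup.mk ⟨g₀ * l * g₀⁻¹, hgl⟩ : ↥M ⧸ oddCore ↥M) = QuotientGroup.mk ⟨t, ht⟩ := hg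
      have h2 : (g₀ * l * g₀⁻¹)⁻¹ * t ∈ core M := (mk_eq_iff hgl ht).mp h1
      have h3 : (g₀ * l * g₀⁻¹) * (g₀ * l * g₀⁻¹) = 1 := by
        calc g₀ * l * g₀⁻¹ * (g₀ * l * g₀⁻¹) = g₀ * (l * l) * g₀⁻¹ := by group
          _ = 1 := by rw [h.ll]; group
      rw [inv_of_sq h3] at h2
      obtain ⟨w, hw, hwt⟩ := SL.conj_of_coset (odd_card_core M) h3 htt h2
      refine ⟨w * g₀, mul_mem (core_le M hw) hg₀, ?_⟩
      rw [← hwt]
      group
    have hcj : ∀ {u v : G}, u * v = v * u → (g * u * g⁻¹) * (g * v * g⁻¹) = (g * v * g⁻¹) * (g * u * g⁻¹) := by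
      intro u v huv
      calc g * u * g⁻¹ * (g * v * g⁻¹) = g * (u * v) * g⁻¹ := by group
        _ = g * (v * u) * g⁻¹ := by rw [huv]
        _ = _ := by group
    have hord : ∀ u : G, orderOf (g * u * g⁻¹) = orderOf u := fun u => (MulAut.conj g).orderOf_eq u
    refine ⟨g * m * g⁻¹, M.mul_mem (M.mul_mem hg hm) (M.inv_mem hg), g * t' * g⁻¹,
      M.mul_mem (M.mul_mem hg ht') (M.inv_mem hg), ?_, ?_, ?_, ?_, ?_, ?_, ?_⟩
    · rw [← hgt]; exact hcj hml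
    · rw [← hgt]; exact hcj htl
    · rw [hord]; exact order_two ht1 htt'
    · rw [← hgt]
      intro h1
      exact htl' (by simpa using h1)
    · calc g * t' * g⁻¹ * (g * m * g⁻¹) * (g * t' * g⁻¹)⁻¹ = g * (t' * m * t'⁻¹) * g⁻¹ := by group
        _ = (g * m * g⁻¹)⁻¹ := by rw [hinv]; group
    · rw [hord]; exact hodd
    · intro h1
      apply hmc
      have h2 := conj_mem_core (le_normalizer (M.inv_mem hg)) h1
      have e : g⁻¹ * (g * m * g⁻¹) * g⁻¹⁻¹ = m := by group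
      rwa [e] at h2
  · obtain ⟨L, hF, hML, hs⟩ := h.good y hy hyy
    exact ⟨L, hF.tri.comp, hML, hs⟩
  · exact h.max_of_one hy hyy hL hML hS hQS hSL

/-- `(A2)` of `L2Inner/ActA.lean` for `M` and the four-groups of `Q` containing `k`: a torus element `s` inverted by
`t'` lying in `O(C(c t))`, `c ∈ Y`, lies in `O(C(t))`. -/
def ActA (M Q : Subgroup G) (k : G) : Prop := ∀ (Y : Subgroup G) (t s t' c : G), Y ≤ Q → k ∈ Y →
  (∀ y ∈ Y, y * y = 1) → Nat.card Y = 4 → t ∈ M → t * t = 1 → t ≠ 1 → s ∈ M → s * t = t * s → Odd (orderOf s) → t' ∈ M →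
  t' * t' = 1 → t' * t = t * t' → t' * s * t'⁻¹ = s⁻¹ → c ∈ Y → s ∈ core (centralizer ({c * t} : Set G)) →
  s ∈ core (centralizer ({t} : Set G))

/-- `x` may be replaced by `l` if `Q` contains a four-group -/
theorem Pre.one_of_rank (h : Pre M0 l k M Q) (hA : ActA M Q k)
    (hr : ∃ a ∈ Q, ∃ b ∈ Q, orderOf a = 2 ∧ orderOf b = 2 ∧ a * b = b * a ∧ a ≠ b) : Pre M0 l 1 M Q := by
  by_cases hk1 : k = 1
  · rw [hk1] at h; exact h
  obtain ⟨a, ha, b, hb, ha2, hb2, hab, hne⟩ := hr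
  obtain ⟨c, hc, hcc, hc1, hck⟩ : ∃ c ∈ Q, c * c = 1 ∧ c ≠ 1 ∧ c ≠ k := by
    by_cases h1 : a = k
    · exact ⟨b, hb, sq_of_order hb2, ne_one_of_order hb2, fun h2 => hne (h1.trans h2.symm)⟩
    · exact ⟨a, ha, sq_of_order ha2, ne_one_of_order ha2, h1⟩
  obtain ⟨m, hm, t', ht', hml, htl, htt', ht1, htl', hinv, hodd, hmc, hmx⟩ := h.exists_m
  have hf := L2Inner.four_of h.kk hcc (h.kc c hc).symm hk1 hc1 hck
  refine h.one hm hmc (hA _ l m t' k ?_ (L2Inner.le_jn _ _ (mem_zpowers k)) hf.elem hf.card h.lM h.ll h.l1 hm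
    hml hodd ht' htt' htl hinv ?_ ?_)
  · exact L2Inner.jn_le hc (zpowers_le.mpr h.kQ)
  · exact L2Inner.le_jn _ _ (mem_zpowers k)
  · rwa [h.comm k h.kQ l h.lM]

end pre

/-- **SETUP.** -/
theorem exists_pre (hT : ∀ (x a : G) (L : Subgroup G), IsTriple x a L → IsL2 (Bar L) ∨ IsAlt 7 (Bar L))
    (hne : ∃ (x a : G) (L : Subgroup G), IsTriple x a L ∧ IsInner x L ∧ IsL2 (Bar L)) :
    ∃ (M0 : ℕ) (l k : G) (M Q : Subgroup G), Pre M0 l k M Q ∧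
      ∀ (x a : G) (L : Subgroup G), IsTriple x a L → IsInner x L → IsL2 (Bar L) → Nat.card (Bar L) ≤ M0 := by
  obtain ⟨M0, x, a, L, Q, h, hM0⟩ := exists_termx (upOk hT) hne
  obtain ⟨l, k, -, hp⟩ := h.pre
  exact ⟨M0, l, k, _, Q, hp, hM0⟩

end Cfsg.Agent.UGT.L2i
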