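import Cfsg.Agent.UGT.L2i.PreConj
import Cfsg.Agent.UGT.L2i.CanonEnd
import Cfsg.Agent.UGT.A7.M1.CfgBase
import Cfsg.Agent.UGT.Q2.Facts

/-!
# N5, the bad configuration: the setting `Cfg7.Sit` from `Pre`

* `GT.of_l2` : `GT L` for `L / O(L) ≅ PSL(2,F)`.
* `cen_of_l2`, `cyc_of_l2` : four-groups of `L`; `N_M(V)` is transitive on `V#`.
* `Pre.sit` : `Sit (C(t k)) (FF M0 (t k)) M Y V` for a four-group `Y ≤ Q` with `k ∈ Y` and a four-group `V ≤ M`,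
  `t ∈ V#`.
-/

set_option autoImplicit false

open Cfsg Subgroup
open Cfsg.Agent.SignalizersComponents Cfsg.Agent.Lib
open Cfsg.Agent.SignalizersComponents.IntrinsicBasic
open Cfsg.Agent.SignalizersComponents.PLayerAut
open Cfsg.Agent.Intrinsic.Basic Cfsg.Agent.Intrinsic.Cen Cfsg.Agent.Intrinsic.Diag
open Cfsg.Agent.McLLyComp.Act
open Cfsg.Agent.UGT.TMCBase
open Cfsg.Agent.UGT.Triple (IsTriple)
open Cfsg.Agent.UGT.Iface (Bar IsInner IsL2 IsAlt)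
open Cfsg.Agent.UGT.L2Inner
open scoped commutatorElement

universe u

namespace Cfsg.Agent.UGT.L2i

variable {G : Type u} [Group G] [Finite G] {M Q Y V : Subgroup G}

/-- **`GT` for the type `PSL(2,F)`** -/
theorem gt_of_l2 {N : Subgroup G} (hT : L2T N) : A7.M1.GT N := by
  refine ⟨fun v hv hvv hv1 => not_fixes_of_mem hT.t27 hv hvv hv1, ?_⟩
  intro t htN htt ht1 D hDN hD hDt d hd
  have hft := not_fixes_of_mem hT.t27 htN htt ht1
  obtain ⟨F, _, _, ⟨R⟩⟩ := hT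
  let f : ↥D →* MulAut (↥N ⧸ oddCore ↥N) := (act N).comp (Subgroup.inclusion hDN)
  have hperf : ⁅f.range, f.range⁆ = f.range := by
    have h5 : Group.IsPerfect ↥D := by
      rw [isPerfect_iff]
      exact hD
    have h6 : ⁅(⊤ : Subgroup ↥D), ⊤⁆ = ⊤ := h5.commutator_eq_top
    rw [MonoidHom.range_eq_map, ← map_commutator, h6]
  have hbot : f.range = ⊥ := by
    refine WBAut.perfect_comm R (φ := act N ⟨t, le_normalizer htN⟩) ?_ ?_ ?_ hperf ?_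
    · rw [act_of_mem htN]
      exact R.conj_mem_PGL _
    · intro h1
      exact hft ((act_eq_one_iff (le_normalizer htN)).mp h1)
    · rw [← map_mul]
      have h7 : (⟨t, le_normalizer htN⟩ : ↥(normalizer (N : Set G))) * ⟨t, le_normalizer htN⟩ = 1 :=
        Subtype.ext htt
      rw [h7, map_one]
    · rintro _ ⟨⟨i, hi⟩, rfl⟩
      change act N ⟨i, hDN hi⟩ * _ = _ * act N ⟨i, hDN hi⟩
      rw [← commutatorElement_eq_one_iff_mul_comm, ← map_commutatorElement]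
      have h8 := hDt i hi
      exact (act_eq_one_iff h8.1).mpr h8
  rw [← act_eq_one_iff (hDN hd)]
  have h5 : f ⟨d, hd⟩ ∈ f.range := ⟨_, rfl⟩
  rw [hbot, mem_bot] at h5
  exact h5

/-- an involution of `L` commuting with a four-group of `L` lies in it -/
theorem cen_of_l2 {L V : Subgroup G} (hT : L2T L) (hV : Four V) (hVL : V ≤ L) {h : G} (hh : h ∈ L)
    (hhh : h * h = 1) (hc : ∀ p ∈ V, h * p = p * h) : h ∈ V := by
  obtain ⟨v, hv, v', hv', hv1, hv1', hne⟩ := exists_gens hV.card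
  have hvL := hVL hv
  have hvL' := hVL hv'
  have hvv := hV.elem v hv
  have hvv' := hV.elem v' hv'
  have hcomm : v * v' = v' * v := comm_of_sq hV.elem hv hv'
  obtain ⟨F, _, _, ⟨Re⟩⟩ := hT
  have hcore : ∀ (x : G) (hx : x ∈ L), x * x = 1 → x ≠ 1 →
      (QuotientGroup.mk ⟨x, hx⟩ : ↥L ⧸ oddCore ↥L) ≠ 1 := by
    intro x hx hxx hx1 h1
    rw [mk_eq_one_iff hx] at h1
    exact hx1 (eq_one_of_mem_core_sq h1 hxx)
  have hfour : GH.L2Aut.Four (QuotientGroup.mk ⟨v, hvL⟩ : ↥L ⧸ oddCore ↥L) (QuotientGroup.mk ⟨v', hvL'⟩) :=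
    { aa := congrArg QuotientGroup.mk (Subtype.ext hvv : (⟨v, hvL⟩ : ↥L) * ⟨v, hvL⟩ = 1)
      bb := congrArg QuotientGroup.mk (Subtype.ext hvv' : (⟨v', hvL'⟩ : ↥L) * ⟨v', hvL'⟩ = 1)
      a1 := hcore v hvL hvv hv1
      b1 := hcore v' hvL' hvv' hv1'
      ne := by
        intro h1
        rw [mk_eq_iff hvL hvL'] at h1
        have h2 : v⁻¹ * v' * (v⁻¹ * v') = 1 := by
          rw [inv_eq_of_mul_eq_one_left hvv]
          exact hV.elem _ (mul_mem hv hv')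
        exact hne (inv_mul_eq_one.mp (eq_one_of_mem_core_sq h1 h2))
      comm := congrArg QuotientGroup.mk (Subtype.ext hcomm :
        (⟨v, hvL⟩ : ↥L) * ⟨v', hvL'⟩ = ⟨v', hvL'⟩ * ⟨v, hvL⟩) }
  have hcase := WBAut.four_fix Re hfour (h := QuotientGroup.mk ⟨h, hh⟩)
    (congrArg QuotientGroup.mk (Subtype.ext (hc v hv) : (⟨h, hh⟩ : ↥L) * ⟨v, hvL⟩ = ⟨v, hvL⟩ * ⟨h, hh⟩))
    (congrArg QuotientGroup.mk (Subtype.ext (hc v' hv') :
      (⟨h, hh⟩ : ↥L) * ⟨v', hvL'⟩ = ⟨v', hvL'⟩ * ⟨h, hh⟩))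
  have hP : ∀ (p : G) (hp : p ∈ V), (QuotientGroup.mk ⟨h, hh⟩ : ↥L ⧸ oddCore ↥L) =
      QuotientGroup.mk ⟨p, hVL hp⟩ → h = p := by
    intro p hp h1
    rw [mk_eq_iff hh (hVL hp)] at h1
    have h3 : h⁻¹ * p * (h⁻¹ * p) = 1 := by
      rw [inv_eq_of_mul_eq_one_left hhh]
      calc h * p * (h * p) = h * (p * h) * p := by group
        _ = h * (h * p) * p := by rw [hc p hp]
        _ = (h * h) * (p * p) := by group
        _ = 1 := by rw [hhh, hV.elem p hp, one_mul]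
    exact inv_mul_eq_one.mp (eq_one_of_mem_core_sq h1 h3)
  rcases hcase with h1 | h1 | h1 | h1
  · rw [hP 1 (one_mem _) h1]; exact one_mem _
  · rw [hP v hv h1]; exact hv
  · rw [hP v' hv' h1]; exact hv'
  · rw [hP (v * v') (mul_mem hv hv') h1]; exact mul_mem hv hv'

/-- the images of a four-group -/
theorem four_of_l2 {L V : Subgroup G} (hV : Four V) (hVL : V ≤ L) {v v' : G} (hv : v ∈ V) (hv' : v' ∈ V)
    (hv1 : v ≠ 1) (hv1' : v' ≠ 1) (hne : v ≠ v') :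
    GH.L2Aut.Four (QuotientGroup.mk ⟨v, hVL hv⟩ : ↥L ⧸ oddCore ↥L) (QuotientGroup.mk ⟨v', hVL hv'⟩) := by
  have hvL := hVL hv
  have hvL' := hVL hv'
  have hvv := hV.elem v hv
  have hvv' := hV.elem v' hv'
  have hcomm : v * v' = v' * v := comm_of_sq hV.elem hv hv'
  have hcore : ∀ (x : G) (hx : x ∈ L), x * x = 1 → x ≠ 1 →
      (QuotientGroup.mk ⟨x, hx⟩ : ↥L ⧸ oddCore ↥L) ≠ 1 := by
    intro x hx hxx hx1 h1
    rw [mk_eq_one_iff hx] at h1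
    exact hx1 (eq_one_of_mem_core_sq h1 hxx)
  exact
    { aa := congrArg QuotientGroup.mk (Subtype.ext hvv : (⟨v, hvL⟩ : ↥L) * ⟨v, hvL⟩ = 1)
      bb := congrArg QuotientGroup.mk (Subtype.ext hvv' : (⟨v', hvL'⟩ : ↥L) * ⟨v', hvL'⟩ = 1)
      a1 := hcore v hvL hvv hv1
      b1 := hcore v' hvL' hvv' hv1'
      ne := by
        intro h1
        rw [mk_eq_iff hvL hvL'] at h1
        have h2 : v⁻¹ * v' * (v⁻¹ * v') = 1 := by
          rw [inv_eq_of_mul_eq_one_left hvv]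
          exact hV.elem _ (mul_mem hv hv')
        exact hne (inv_mul_eq_one.mp (eq_one_of_mem_core_sq h1 h2))
      comm := congrArg QuotientGroup.mk (Subtype.ext hcomm :
        (⟨v, hvL⟩ : ↥L) * ⟨v', hvL'⟩ = ⟨v', hvL'⟩ * ⟨v, hvL⟩) }

/-- `N_M(V)` is transitive on `V#` -/
theorem cyc_of_l2 (hM : L2T M) (hV : Four V) (hVM : V ≤ M) {t t' : G} (ht : t ∈ V) (ht' : t' ∈ V)
    (ht1 : t ≠ 1) (ht1' : t' ≠ 1) (hne : t ≠ t') : ∃ d ∈ M, d * t * d⁻¹ = t' ∧ d * t' * d⁻¹ = t * t' := by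
  obtain ⟨F, _, _, ⟨R⟩⟩ := hM
  have hfour := four_of_l2 hV hVM ht ht' ht1 ht1' hne
  obtain ⟨yb, h1, h2⟩ := Q2.Facts.rho R hfour
  obtain ⟨⟨y, hy⟩, rfl⟩ := QuotientGroup.mk_surjective yb
  have htt := hV.elem t ht
  have htt' := hV.elem t' ht'
  have htM := hVM ht
  have htM' := hVM ht'
  have hsq : ∀ v : G, v * v = 1 → (y * v * y⁻¹) * (y * v * y⁻¹) = 1 := by
    intro v hv
    calc y * v * y⁻¹ * (y * v * y⁻¹) = y * (v * v) * y⁻¹ := by group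
      _ = 1 := by rw [hv]; group
  have hyM : ∀ v ∈ M, y * v * y⁻¹ ∈ M := fun v hv => M.mul_mem (M.mul_mem hy hv) (M.inv_mem hy)
  have e1 : (QuotientGroup.mk ⟨y * t * y⁻¹, hyM t htM⟩ : ↥M ⧸ oddCore ↥M) = QuotientGroup.mk ⟨t', htM'⟩ := h1
  have e2 : (QuotientGroup.mk ⟨y * t' * y⁻¹, hyM t' htM'⟩ : ↥M ⧸ oddCore ↥M) =
    QuotientGroup.mk ⟨t * t', M.mul_mem htM htM'⟩ := h2
  rw [mk_eq_iff] at e1 e2
  rw [inv_eq_of_mul_eq_one_left (hsq t htt)] at e1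
  obtain ⟨w₁, hw₁, hwt⟩ := SL.conj_of_coset (odd_card_core M) (hsq t htt) htt' e1
  obtain ⟨s, hs⟩ : ∃ s, s = w₁ * (y * t' * y⁻¹) * w₁⁻¹ := ⟨_, rfl⟩
  have hww : ∀ v : G, v * v = 1 → (w₁ * v * w₁⁻¹) * (w₁ * v * w₁⁻¹) = 1 := by
    intro v hv
    calc w₁ * v * w₁⁻¹ * (w₁ * v * w₁⁻¹) = w₁ * (v * v) * w₁⁻¹ := by group
      _ = 1 := by rw [hv]; group
  have hss : s * s = 1 := hs ▸ hww _ (hsq t' htt')
  have hcomm : t * t' = t' * t := comm_of_sq hV.elem ht ht'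
  have hst : s * t' = t' * s := by
    have h5 : s * (w₁ * (y * t * y⁻¹) * w₁⁻¹) = (w₁ * (y * t * y⁻¹) * w₁⁻¹) * s := by
      rw [hs]
      calc w₁ * (y * t' * y⁻¹) * w₁⁻¹ * (w₁ * (y * t * y⁻¹) * w₁⁻¹) = w₁ * y * (t' * t) * y⁻¹ * w₁⁻¹ := by group
        _ = w₁ * y * (t * t') * y⁻¹ * w₁⁻¹ := by rw [hcomm]
        _ = w₁ * (y * t * y⁻¹) * w₁⁻¹ * (w₁ * (y * t' * y⁻¹) * w₁⁻¹) := by group
    rwa [hwt] at h5
  have htts : (t * t') * (t * t') = 1 := hV.elem _ (mul_mem ht ht')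
  -- `s ≡ t t'`
  have h3 : s * (t * t') ∈ core M := by
    have h4 : y * t' * y⁻¹ * (t * t') ∈ core M := by
      rwa [inv_eq_of_mul_eq_one_left (hsq t' htt')] at e2
    have h5 : s * (t * t') = w₁ * ((y * t' * y⁻¹ * (t * t')) * ((t * t') * w₁⁻¹ * (t * t')⁻¹)) := by
      rw [hs]
      have : (t * t')⁻¹ = t * t' := inv_eq_of_mul_eq_one_left htts
      calc w₁ * (y * t' * y⁻¹) * w₁⁻¹ * (t * t')
          = w₁ * (y * t' * y⁻¹) * ((t * t') * (t * t')) * w₁⁻¹ * (t * t') := by rw [htts, mul_one]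
        _ = w₁ * ((y * t' * y⁻¹ * (t * t')) * ((t * t') * w₁⁻¹ * (t * t'))) := by group
        _ = _ := by rw [this]
    rw [h5]
    refine mul_mem hw₁ (mul_mem h4 ?_)
    exact conj_mem_core (le_normalizer (M.mul_mem htM htM')) (inv_mem hw₁)
  have h4 : s * (t * t') ∈ core M ⊓ centralizer ({t'} : Set G) := by
    refine ⟨h3, mem_c ?_⟩
    calc s * (t * t') * t' = s * (t * (t' * t')) := by group
      _ = s * (t' * (t' * t)) := by rw [← mul_assoc t' t' t, htt', mul_one, one_mul]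
      _ = (s * t') * (t' * t) := by group
      _ = t' * (s * (t * t')) := by rw [hst, hcomm]; group
  have hodd : Odd (Nat.card ↥(core M ⊓ centralizer ({t'} : Set G))) :=
    Odd.of_dvd_nat (odd_card_core M) (Subgroup.card_dvd_of_le inf_le_left)
  obtain ⟨w₂, hw₂, hw⟩ := SL.conj_of_coset hodd hss htts h4
  refine ⟨w₂ * (w₁ * y), mul_mem (core_le M hw₂.1) (mul_mem (core_le M hw₁) hy), ?_, ?_⟩
  · have h5 : w₂ * t' = t' * w₂ := comm_c hw₂.2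
    calc w₂ * (w₁ * y) * t * (w₂ * (w₁ * y))⁻¹ = w₂ * (w₁ * (y * t * y⁻¹) * w₁⁻¹) * w₂⁻¹ := by group
      _ = w₂ * t' * w₂⁻¹ := by rw [hwt]
      _ = t' := by rw [h5, mul_inv_cancel_right]
  · calc w₂ * (w₁ * y) * t' * (w₂ * (w₁ * y))⁻¹ = w₂ * (w₁ * (y * t' * y⁻¹) * w₁⁻¹) * w₂⁻¹ := by group
      _ = w₂ * s * w₂⁻¹ := by rw [hs]
      _ = t * t' := hw

variable {M0 : ℕ} {l k : G}

theorem Pre.yf (h : Pre M0 l k M Q) (hl : L2T M) (hY : Four Y) (hYQ : Y ≤ Q) : A7.M1.YF M Y where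
  ysq := hY.elem
  ycard := hY.card
  ym y hy m hm := h.comm y (hYQ hy) m hm
  comp y hy hy1 := by
    obtain ⟨N, hN, h1, h2⟩ := h.good y (hYQ hy) (order_two (hY.elem y hy) hy1)
    obtain ⟨e, -⟩ := exists_quotEquiv h2
    exact ⟨N, hN.tri.comp, h1, h2, gt_of_l2 (l2t_congr e hl)⟩

theorem Pre.fr (h : Pre M0 l k M Q) (hl : L2T M) (hY : Four Y) (hYQ : Y ≤ Q) (hV : Four V) (hVM : V ≤ M) :
    A7.M1.Fr M Y V where
  toYF := h.yf hl hY hYQ
  psq := hV.elem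
  pcard := hV.card
  pm := hVM
  cen y hy hy1 L hL hML hs g hg hgg hgV := by
    obtain ⟨e, -⟩ := exists_quotEquiv hs
    exact cen_of_l2 (l2t_congr e hl) hV (hVM.trans hML) hg hgg hgV

/-- **The setting.** -/
theorem Pre.sit (h : Pre M0 l k M Q) (hl : L2T M)
    (hT : ∀ (x a : G) (L : Subgroup G), IsTriple x a L → IsL2 (Bar L) ∨ IsAlt 7 (Bar L))
    (hM0 : ∀ (x a : G) (L : Subgroup G), IsTriple x a L → IsInner x L → IsL2 (Bar L) → Nat.card (Bar L) ≤ M0)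
    (hY : Four Y) (hYQ : Y ≤ Q) (hk : k ∈ Y) (hV : Four V) (hVM : V ≤ M) {t : G} (ht : t ∈ V) (ht1 : t ≠ 1) :
    A7.M1.Cfg7.Sit (centralizer ({t * k} : Set G)) (FF M0 (t * k)) M Y V where
  toFr := h.fr hl hY hYQ hV hVM
  fam := fam (upOk hT) hM0 (t * k)
  famY y hy hy1 := by
    obtain ⟨N, hN, h1, h2⟩ := (h.replace (hVM ht) (hV.elem t ht) ht1).good y (hYQ hy)
      (order_two (hY.elem y hy) hy1)
    exact ⟨N, hN, h1, h2⟩
  gt y N hN := by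
    obtain ⟨F, i1, i2, -, h2⟩ := L2i.exists_rep hN.ty
    exact gt_of_l2 ⟨F, i1, i2, h2⟩
  gg j hj := by
    have h1 := hj t ((le_sup_right : V ≤ Y ⊔ V) ht)
    have h2 := hj k ((le_sup_left : Y ≤ Y ⊔ V) hk)
    exact mem_c (by rw [← mul_assoc, h1, mul_assoc, h2, mul_assoc])

end Cfsg.Agent.UGT.L2i
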