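import Cfsg.Agent.UGT.L2i.Fam
import Cfsg.Agent.GH.L2AutF

/-!
# P0 (SETUP): lifting involutions; the elements `d`, `t'`; `q ≥ 11`

* `lift_inv`: involutions of `C_{L/O(L)}(l)` lift to involutions commuting with `Q⟨x, l⟩`.
* `exists_dt`: `d ∈ O(C(x))` and an involution `t' ∈ L`, both commuting with `Q`, with `[d, t'] ∉ O(L)`.
* `eleven`: inner triples of type `PSL₂(q)` have `q ≥ 11`; `upOk`: `UpOk G` for the types `PSL₂(q)`, `A₇`.
-/

set_option autoImplicit false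

open Cfsg Subgroup
open Cfsg.Agent.SignalizersComponents Cfsg.Agent.Lib
open Cfsg.Agent.SignalizersComponents.IntrinsicBasic
open Cfsg.Agent.SignalizersComponents.IntrinsicIntr
open Cfsg.Agent.SignalizersComponents.PLayerAut
open Cfsg.Agent.Intrinsic.Basic Cfsg.Agent.Intrinsic.Cen Cfsg.Agent.Intrinsic.Diag
open Cfsg.Agent.McLLyComp.Act
open Cfsg.Agent.UGT.TMCBase Cfsg.Agent.UGT.TMCSyl Cfsg.Agent.UGT.TMCMax Cfsg.Agent.UGT.TMCBad
open Cfsg.Agent.UGT.Triple (IsTriple)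
open Cfsg.Agent.UGT.Iface (Bar IsInner IsL2 IsAlt)
open Cfsg.Agent.UGT.L2Inner
open scoped commutatorElement

universe u

namespace Cfsg.Agent.UGT.L2i

variable {G : Type u} [Group G]

theorem isPGroup_zp {x : G} (hx : x * x = 1) : IsPGroup 2 ↥(zpowers x) := by
  intro a
  obtain ⟨n, hn⟩ := mem_zpowers_iff.mp a.2
  refine ⟨1, Subtype.ext ?_⟩
  change (a : G) ^ 2 ^ 1 = 1
  rw [pow_one, pow_two, ← hn, ← zpow_add, ← two_mul, zpow_mul, zpow_two, hx, one_zpow]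

/-- `l` = the inner part of `x`, `Q` a 2-group fixing `L`, everything commuting -/
structure Lx (x a l : G) (L Q : Subgroup G) : Prop where
  tri : IsTriple x a L
  ty : IsL2 (Bar L)
  mem : l ∈ L
  ll : l * l = 1
  l1 : l ≠ 1
  xl : x * l = l * x
  fix : Fixes (x * l) L
  two : IsPGroup 2 ↥Q
  Qa : ∀ q ∈ Q, q * a = a * q
  Qx : ∀ q ∈ Q, q * x = x * q
  Ql : ∀ q ∈ Q, q * l = l * q
  QL : ∀ q ∈ Q, Fixes q L

variable [Finite G] {x a l : G} {L Q : Subgroup G}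

theorem exists_Lx (T : IsTriple x a L) (hty : IsL2 (Bar L)) (hin : IsInner x L) (hQ2 : IsPGroup 2 ↥Q)
    (hQa : ∀ q ∈ Q, q * a = a * q) (hQx : ∀ q ∈ Q, q * x = x * q) (hQL : ∀ q ∈ Q, Fixes q L) :
    ∃ l, Lx x a l L Q := by
  obtain ⟨l, hl, hll, hl1, hlq, hxl, hfl⟩ := exists_l T (center_of_L2 hty) hin hQ2 hQa hQx hQL
  exact ⟨l, T, hty, hl, hll, hl1, hxl, hfl, hQ2, hQa, hQx, hlq, hQL⟩

/-- **Lifting of involutions of `C_{L / O(L)}(l)`.** -/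
theorem Lx.lift_inv (h : Lx x a l L Q) {v₀ : G} (hv₀ : v₀ ∈ L) (hv2 : v₀ * v₀ ∈ core L)
    (hlv0 : ⁅l, v₀⁆ ∈ core L) : ∃ (v : G) (hv : v ∈ L), v * v = 1 ∧
      (QuotientGroup.mk ⟨v₀, hv₀⟩ : Bar L) = QuotientGroup.mk ⟨v, hv⟩ ∧
      (∀ q ∈ Q, q * v = v * q) ∧ x * v = v * x ∧ l * v = v * l := by
  have T := h.tri
  have hv₀X : v₀ ∈ centralizer ({a} : Set G) := T.comp.le hv₀
  obtain ⟨P, hP⟩ : ∃ P, P = (Q ⊔ zpowers x) ⊔ zpowers l := ⟨_, rfl⟩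
  have hQP : Q ≤ P := hP ▸ (le_sup_left.trans le_sup_left)
  have hxP : x ∈ P := hP ▸ mem_sup_left (mem_sup_right (mem_zpowers x))
  have hlP : l ∈ P := hP ▸ mem_sup_right (mem_zpowers l)
  have hP2 : IsPGroup 2 ↥P := by
    rw [hP]
    have h4 : IsPGroup 2 ↥(Q ⊔ zpowers x) := by
      refine h.two.to_sup_of_normal_left' (isPGroup_zp (Triple.sq_of_order T.invx)) ?_
      rw [zpowers_le]
      apply mem_normalizer_iff_cj.mpr
      exact cj_of_comm fun q hq => mem_c (h.Qx q hq)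
    refine h4.to_sup_of_normal_left' (isPGroup_zp h.ll) ?_
    rw [zpowers_le]
    apply mem_normalizer_iff_cj.mpr
    refine cj_of_comm (sup_le (fun q hq => mem_c (h.Ql q hq)) ?_)
    rw [zpowers_le]
    exact mem_c h.xl
  have hPle : P ≤ cmod (centralizer ({a} : Set G)) hv₀X := by
    have hlm : l ∈ cmod (centralizer ({a} : Set G)) hv₀X :=
      (mem_cmod hv₀X).mpr ⟨T.comp.le h.mem, T.comp.core_le_core hlv0⟩
    rw [hP]
    refine sup_le (sup_le (fun q hq => ?_) ?_) ?_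
    · exact (mem_cmod hv₀X).mpr ⟨mem_c (h.Qa q hq), T.comp.core_le_core ((h.QL q hq).2 v₀ hv₀)⟩
    · rw [zpowers_le]
      have h5 : x * l ∈ cmod (centralizer ({a} : Set G)) hv₀X :=
        (mem_cmod hv₀X).mpr ⟨mul_mem (mem_c T.comm.symm) (T.comp.le h.mem),
          T.comp.core_le_core (h.fix.2 v₀ hv₀)⟩
      have h6 := mul_mem h5 (inv_mem hlm)
      rwa [mul_inv_cancel_right] at h6
    · rw [zpowers_le]; exact hlm
  obtain ⟨v, hv, hvv, hvr, hvP⟩ := exists_lift T.comp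
    (fun p hp => ((mem_cmod hv₀X).mp (hPle hp)).1) hP2 hv₀ (T.comp.core_le_core hv2)
    (fun p hp => ((mem_cmod hv₀X).mp (hPle hp)).2)
  refine ⟨v, hv, hvv, ?_, fun q hq => hvP q (hQP hq), hvP x hxP, hvP l hlP⟩
  refine (mk_eq_iff hv₀ hv).mpr ?_
  rw [T.comp.core_eq]
  exact ⟨L.mul_mem (L.inv_mem hv₀) hv, hvr⟩

/-- lifting in terms of the quotient -/
theorem Lx.lift_bar (h : Lx x a l L Q) {v : Bar L} (hv : v * v = 1)
    (hlv : (QuotientGroup.mk ⟨l, h.mem⟩ : Bar L) * v = v * QuotientGroup.mk ⟨l, h.mem⟩) :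
    ∃ (w : G) (hw : w ∈ L), w * w = 1 ∧ (QuotientGroup.mk ⟨w, hw⟩ : Bar L) = v ∧
      (∀ q ∈ Q, q * w = w * q) ∧ x * w = w * x ∧ l * w = w * l := by
  obtain ⟨⟨v₀, hv₀⟩, rfl⟩ := QuotientGroup.mk_surjective v
  have h1 : v₀ * v₀ ∈ core L :=
    (mem_core_iff (L.mul_mem hv₀ hv₀)).mpr ((QuotientGroup.eq_one_iff _).mp hv)
  have h2 : ⁅l, v₀⁆ ∈ core L := by
    refine (mem_core_iff (commutator_mem' h.mem hv₀)).mpr ?_
    refine (QuotientGroup.eq_one_iff _).mp ?_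
    have h3 : (QuotientGroup.mk' (oddCore ↥L)) ⁅(⟨l, h.mem⟩ : ↥L), ⟨v₀, hv₀⟩⁆ = 1 := by
      rw [map_commutatorElement, commutatorElement_eq_one_iff_mul_comm]
      exact hlv
    exact h3
  obtain ⟨w, hw, h3, h4, h5⟩ := h.lift_inv hv₀ h1 h2
  exact ⟨w, hw, h3, h4.symm, h5⟩

omit [Finite G] in
theorem Lx.bar_ll (h : Lx x a l L Q) :
    (QuotientGroup.mk ⟨l, h.mem⟩ : Bar L) * QuotientGroup.mk ⟨l, h.mem⟩ = 1 := by
  have : (⟨l, h.mem⟩ : ↥L) * ⟨l, h.mem⟩ = 1 := Subtype.ext h.ll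
  exact congrArg (QuotientGroup.mk' (oddCore ↥L)) this

theorem Lx.bar_l1 (h : Lx x a l L Q) : (QuotientGroup.mk ⟨l, h.mem⟩ : Bar L) ≠ 1 := by
  intro h1
  exact h.l1 (eq_one_of_mem_core_sq ((mem_core_iff h.mem).mpr ((QuotientGroup.eq_one_iff _).mp h1)) h.ll)

/-- `x` acts on `L / O(L)` as conjugation by `l` -/
theorem Lx.act_x (h : Lx x a l L Q) :
    act L ⟨x, h.tri.x_mem⟩ = MulAut.conj (QuotientGroup.mk ⟨l, h.mem⟩ : Bar L) := by
  have hlL : l ∈ normalizer (L : Set G) := le_normalizer h.mem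
  have h1 : act L ⟨x * l, mul_mem h.tri.x_mem hlL⟩ = 1 := (act_eq_one_iff _).mpr h.fix
  have h2 : (⟨x * l, mul_mem h.tri.x_mem hlL⟩ : ↥(normalizer (L : Set G))) = ⟨x, h.tri.x_mem⟩ * ⟨l, hlL⟩ := rfl
  have h3 : act L ⟨l, hlL⟩ = MulAut.conj (QuotientGroup.mk ⟨l, h.mem⟩ : Bar L) := act_of_mem h.mem
  rw [h2, map_mul, h3] at h1
  rw [eq_inv_of_mul_eq_one_left h1, ← map_inv]
  congr 1
  exact inv_eq_of_mul_eq_one_left h.bar_ll

/-- `d ∈ O(C(x)) ∩ C(a) ∩ C(Q)` not fixing `L` -/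
theorem Lx.exists_d (h : Lx x a l L Q) : ∃ d ∈ core (centralizer ({x} : Set G)),
    d ∈ centralizer ({a} : Set G) ∧ (∀ q ∈ Q, q * d = d * q) ∧ ¬ Fixes d L := by
  have hp2 : Fact (Nat.Prime 2) := ⟨Nat.prime_two⟩
  have T := h.tri
  obtain ⟨d, hd, hda, hf⟩ := T.bad
  obtain ⟨F, hF⟩ : ∃ F : Subgroup G, ∀ e, e ∈ F ↔ e ∈ core (centralizer ({x} : Set G)) ∧
      e ∈ centralizer ({a} : Set G) ∧ Fixes e L := by
    refine ⟨{ carrier := {e | e ∈ core (centralizer ({x} : Set G)) ∧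
        e ∈ centralizer ({a} : Set G) ∧ Fixes e L}
              mul_mem' := ?_
              one_mem' := ?_
              inv_mem' := ?_ }, fun e => Iff.rfl⟩
    · rintro e e' ⟨h1, h2, h3⟩ ⟨h1', h2', h3'⟩
      exact ⟨mul_mem h1 h1', mul_mem h2 h2', fixes_mul h3 h3'⟩
    · exact ⟨one_mem _, one_mem _, fixes_one L⟩
    · rintro e ⟨h1, h2, h3⟩
      exact ⟨inv_mem h1, inv_mem h2, fixes_inv h3⟩
  have hFodd : Odd (Nat.card F) :=
    Odd.of_dvd_nat (odd_card_core (centralizer ({x} : Set G)))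
      (card_dvd_of_le fun e he => ((hF e).mp he).1)
  obtain ⟨X, hX⟩ : ∃ X : Subgroup G, X = (centralizer ({a} : Set G) ⊓ centralizer ({x} : Set G)) ⊓
    normalizer (L : Set G) := ⟨_, rfl⟩
  have hmemX : ∀ {g : G}, g ∈ X ↔ (g ∈ centralizer ({a} : Set G) ∧ g ∈ centralizer ({x} : Set G)) ∧
      g ∈ normalizer (L : Set G) := by
    intro g; rw [hX, mem_inf, mem_inf]
  have hFX : ∀ g ∈ X, ∀ e ∈ F, g * e * g⁻¹ ∈ F := by
    intro g hg e he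
    obtain ⟨⟨h1, h2⟩, h3⟩ := hmemX.mp hg
    obtain ⟨h4, h5, h6⟩ := (hF e).mp he
    exact (hF _).mpr ⟨Triple.conj_core h2 h4, mul_mem (mul_mem h1 h5) (inv_mem h1), fixes_conj h6 h3⟩
  have hn : (F.subgroupOf X).Normal := ⟨fun e he g => hFX g g.2 e he⟩
  have hdX : d ∈ X := hmemX.mpr ⟨⟨hda, core_le _ hd⟩, T.mem_normalizer_of_core hd hda⟩
  have hQX : Q ≤ X := fun q hq => hmemX.mpr ⟨⟨mem_c (h.Qa q hq), mem_c (h.Qx q hq)⟩, (h.QL q hq).1⟩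
  have hQ' : IsPGroup 2 ↥(Q.subgroupOf X) := h.two.comap_of_injective _ X.subtype_injective
  have hNp' : ¬ 2 ∣ Nat.card (F.subgroupOf X) := by
    intro h1
    have h2 : 2 ∣ Nat.card F := h1.trans (card_comap_dvd_of_injective _ _ (subtype_injective _))
    exact (Nat.not_even_iff_odd.mpr hFodd) (even_iff_two_dvd.mpr h2)
  obtain ⟨g, hg1, hg2⟩ := CoreOfCentralizer.exists_centralizing_of_quotient (Q.subgroupOf X) hQ'
    (F.subgroupOf X) hNp' (QuotientGroup.mk' (F.subgroupOf X) ⟨d, hdX⟩) (by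
      rintro ⟨p, hpX⟩ hp
      rw [← map_mul, ← map_mul]
      refine (QuotientGroup.eq.mpr ?_)
      change ((⟨p, hpX⟩ * ⟨d, hdX⟩ : ↥X)⁻¹ * (⟨d, hdX⟩ * ⟨p, hpX⟩) : ↥X) ∈ F.subgroupOf X
      change (p * d)⁻¹ * (d * p) ∈ F
      have hpd : (p * d)⁻¹ * (d * p) = d⁻¹ * (p⁻¹ * d * p) := by group
      have hpL := h.QL p hp
      have hdn := T.mem_normalizer_of_core hd hda
      have hpi : p⁻¹ ∈ X := inv_mem hpX
      refine (hF _).mpr ⟨?_, ?_, ?_⟩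
      · rw [hpd]
        refine mul_mem (inv_mem hd) ?_
        have := Triple.conj_core (hmemX.mp hpi).1.2 hd
        rwa [inv_inv] at this
      · exact mul_mem (inv_mem (mul_mem (hmemX.mp hpX).1.1 hda)) (mul_mem hda (hmemX.mp hpX).1.1)
      · have e1 : (p * d)⁻¹ * (d * p) = d⁻¹ * p⁻¹ * d⁻¹⁻¹ * p := by group
        rw [e1]
        exact fixes_mul (fixes_conj (fixes_inv hpL) (inv_mem hdn)) hpL)
  have hg3 : d⁻¹ * (g : G) ∈ F := by
    have h1 : (⟨d, hdX⟩ : ↥X)⁻¹ * g ∈ F.subgroupOf X := QuotientGroup.eq.mp hg2.symm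
    exact h1
  obtain ⟨h1, h2, h3⟩ := (hF _).mp hg3
  have hgd : (g : G) = d * (d⁻¹ * g) := by group
  refine ⟨g, ?_, ?_, ?_, ?_⟩
  · rw [hgd]; exact mul_mem hd h1
  · rw [hgd]; exact mul_mem hda h2
  · intro q hq
    exact congrArg Subtype.val (hg1 ⟨q, hQX hq⟩ hq)
  · intro h4
    apply hf
    have h5 : d = (g : G) * (d⁻¹ * g)⁻¹ := by group
    rw [h5]
    exact fixes_mul h4 (fixes_inv h3)

/-- **The elements `d`, `t'`.** -/
theorem Lx.exists_dt (h : Lx x a l L Q) : ∃ d ∈ core (centralizer ({x} : Set G)),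
    d ∈ centralizer ({a} : Set G) ∧ (∀ q ∈ Q, q * d = d * q) ∧ ⁅d, l⁆ ∈ core L ∧
    ∃ t' ∈ L, t' * t' = 1 ∧ t' ≠ 1 ∧ t' ≠ l ∧ l * t' = t' * l ∧ (∀ q ∈ Q, q * t' = t' * q) ∧
      x * t' = t' * x ∧ d * t' * d⁻¹ * t'⁻¹ ∉ core L := by
  obtain ⟨d, hd, hda, hdQ, hdf⟩ := h.exists_d
  have T := h.tri
  have hdL := T.mem_normalizer_of_core hd hda
  obtain ⟨F, _, _, h5, ⟨R⟩⟩ := exists_rep h.ty
  have hne : act L ⟨d, hdL⟩ ≠ 1 := fun h1 => hdf ((act_eq_one_iff hdL).mp h1)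
  have hodd : Odd (orderOf (act L ⟨d, hdL⟩)) := by
    have h3 : orderOf (act L ⟨d, hdL⟩) ∣ orderOf (⟨d, hdL⟩ : ↥(normalizer (L : Set G))) :=
      orderOf_map_dvd _ _
    rw [Subgroup.orderOf_mk] at h3
    refine Odd.of_dvd_nat ?_ h3
    have h4 := orderOf_dvd_natCard (⟨d, hd⟩ : ↥(core (centralizer ({x} : Set G))))
    rw [Subgroup.orderOf_mk] at h4
    exact Odd.of_dvd_nat (odd_card_core _) h4
  have hfix : act L ⟨d, hdL⟩ (QuotientGroup.mk ⟨l, h.mem⟩) = QuotientGroup.mk ⟨l, h.mem⟩ := by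
    apply R.conj_injective
    have h6 : (⟨d, hdL⟩ : ↥(normalizer (L : Set G))) * ⟨x, T.x_mem⟩ = ⟨x, T.x_mem⟩ * ⟨d, hdL⟩ :=
      Subtype.ext (comm_c (core_le _ hd))
    have h7 := congrArg (act L) h6
    rw [map_mul, map_mul, h.act_x] at h7
    have h8 : MulAut.conj (act L ⟨d, hdL⟩ (QuotientGroup.mk ⟨l, h.mem⟩)) =
        act L ⟨d, hdL⟩ * MulAut.conj (QuotientGroup.mk ⟨l, h.mem⟩ : Bar L) * (act L ⟨d, hdL⟩)⁻¹ := by
      ext y
      simp [MulAut.conj_apply]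
    rw [h8, h7, mul_inv_cancel_right]
  obtain ⟨t, htt, htl, htl', ht1, hdt⟩ := rep_refl R h.bar_ll h.bar_l1 hodd hne hfix
  obtain ⟨w, hw, hww, hwt, hwQ, hwx, hwl⟩ := h.lift_bar htt htl.symm
  refine ⟨d, hd, hda, hdQ, ?_, w, hw, hww, ?_, ?_, hwl, hwQ, hwx, ?_⟩
  · have h6 : (d * l * d⁻¹) * l⁻¹ ∈ core L := by
      rw [act_mk hdL h.mem] at hfix
      have h7 := (mk_eq_iff h.mem (conj_mem hdL h.mem)).mp hfix.symm
      have h8 : (d * l * d⁻¹) * l⁻¹ = l * (l⁻¹ * (d * l * d⁻¹)) * l⁻¹ := by group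
      rw [h8]
      exact conj_mem_core (le_normalizer h.mem) h7
    rw [commutatorElement_def]
    exact h6
  · rintro rfl
    apply ht1
    rw [← hwt]
    exact congrArg (QuotientGroup.mk' (oddCore ↥L)) (Subtype.ext rfl : (⟨1, hw⟩ : ↥L) = 1)
  · rintro rfl
    exact htl' hwt.symm
  · intro h6
    apply hdt
    rw [← hwt, act_mk hdL hw]
    refine (mk_eq_iff _ _).mpr ?_
    have h7 : (d * w * d⁻¹)⁻¹ * w = w⁻¹ * (d * w * d⁻¹ * w⁻¹)⁻¹ * w⁻¹⁻¹ := by group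
    rw [h7]
    exact conj_mem_core (inv_mem (le_normalizer hw)) (inv_mem h6)

/-- inner triples of type `PSL₂(q)` have `q ≥ 11` -/
theorem Lx.eleven (h : Lx x a l L Q) {F : Type*} [Field F] [Finite F]
    (R : Cfsg.Agent.GH.L2Aut.Rep F (Bar L)) : 11 ≤ Nat.card F := by
  obtain ⟨d, hd, hda, -, hdl, t', ht', htt, ht1, htl, hlt, -, hxt, hm⟩ := h.exists_dt
  have T := h.tri
  have hdL := T.mem_normalizer_of_core hd hda
  have hmL : d * t' * d⁻¹ * t'⁻¹ ∈ L := L.mul_mem (conj_mem hdL ht') (L.inv_mem ht')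
  have hmx : d * t' * d⁻¹ * t'⁻¹ ∈ core (centralizer ({x} : Set G)) := by
    have e : d * t' * d⁻¹ * t'⁻¹ = d * (t' * d⁻¹ * t'⁻¹) := by group
    rw [e]
    exact mul_mem hd (Triple.conj_core (mem_c hxt.symm) (inv_mem hd))
  refine rep_eleven R h.bar_ll h.bar_l1 (s := QuotientGroup.mk ⟨d * t' * d⁻¹ * t'⁻¹, hmL⟩) ?_ ?_ ?_
  · -- it commutes with `l` modulo the core
    have h1 : (QuotientGroup.mk ⟨d * t' * d⁻¹ * t'⁻¹, hmL⟩ : Bar L) =
        act L ⟨d, hdL⟩ (QuotientGroup.mk ⟨t', ht'⟩) * (QuotientGroup.mk ⟨t', ht'⟩)⁻¹ := rfl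
    have h2 : act L ⟨d, hdL⟩ (QuotientGroup.mk ⟨l, h.mem⟩) = QuotientGroup.mk ⟨l, h.mem⟩ := by
      rw [act_mk hdL h.mem]
      refine (mk_eq_iff _ _).mpr ?_
      have h7 : (d * l * d⁻¹)⁻¹ * l = l⁻¹ * ⁅d, l⁆⁻¹ * l⁻¹⁻¹ := by
        rw [commutatorElement_def]; group
      rw [h7]
      exact conj_mem_core (inv_mem (le_normalizer h.mem)) (inv_mem hdl)
    have h3 : (QuotientGroup.mk ⟨t', ht'⟩ : Bar L) * QuotientGroup.mk ⟨l, h.mem⟩ =
        QuotientGroup.mk ⟨l, h.mem⟩ * QuotientGroup.mk ⟨t', ht'⟩ :=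
      congrArg (QuotientGroup.mk' (oddCore ↥L)) (Subtype.ext hlt.symm :
        (⟨t', ht'⟩ : ↥L) * ⟨l, h.mem⟩ = ⟨l, h.mem⟩ * ⟨t', ht'⟩)
    have h4 : act L ⟨d, hdL⟩ (QuotientGroup.mk ⟨t', ht'⟩) * QuotientGroup.mk ⟨l, h.mem⟩ =
        QuotientGroup.mk ⟨l, h.mem⟩ * act L ⟨d, hdL⟩ (QuotientGroup.mk ⟨t', ht'⟩) := by
      have h8 := congrArg (act L ⟨d, hdL⟩) h3
      rwa [map_mul, map_mul, h2] at h8
    rw [h1]
    have c1 : Commute (act L ⟨d, hdL⟩ (QuotientGroup.mk ⟨t', ht'⟩)) (QuotientGroup.mk ⟨l, h.mem⟩ : Bar L) := h4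
    have c2 : Commute (QuotientGroup.mk ⟨t', ht'⟩ : Bar L)⁻¹ (QuotientGroup.mk ⟨l, h.mem⟩) :=
      (show Commute (QuotientGroup.mk ⟨t', ht'⟩ : Bar L) (QuotientGroup.mk ⟨l, h.mem⟩) from h3).inv_left
    exact c1.mul_left c2
  · intro h1
    exact hm ((mem_core_iff hmL).mpr ((QuotientGroup.eq_one_iff _).mp h1))
  · have h3 : orderOf (QuotientGroup.mk' (oddCore ↥L) ⟨d * t' * d⁻¹ * t'⁻¹, hmL⟩) ∣
        orderOf (⟨d * t' * d⁻¹ * t'⁻¹, hmL⟩ : ↥L) := orderOf_map_dvd _ _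
    rw [Subgroup.orderOf_mk] at h3
    refine Odd.of_dvd_nat ?_ h3
    have h4 := orderOf_dvd_natCard (⟨_, hmx⟩ : ↥(core (centralizer ({x} : Set G))))
    rw [Subgroup.orderOf_mk] at h4
    exact Odd.of_dvd_nat (odd_card_core _) h4

theorem card_alt7 : Nat.card (alternatingGroup (Fin 7)) = 2520 := by
  rw [nat_card_alternatingGroup, Nat.card_eq_fintype_card, Fintype.card_fin]
  decide

/-- **`UpOk G` for the types `PSL₂(q)`, `A₇`** -/
theorem upOk (hT : ∀ (x a : G) (L : Subgroup G), IsTriple x a L → IsL2 (Bar L) ∨ IsAlt 7 (Bar L)) :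
    UpOk G := by
  intro x t N T hin hty y J T' hdvd
  rcases hT x y J T' with h | ⟨⟨e⟩⟩
  · exact h
  exfalso
  obtain ⟨l, h⟩ := exists_Lx (Q := ⊥) T hty hin IsPGroup.of_bot
    (by intro q hq; rw [mem_bot.mp hq, one_mul, mul_one])
    (by intro q hq; rw [mem_bot.mp hq, one_mul, mul_one])
    (by intro q hq; rw [mem_bot.mp hq]; exact fixes_one N)
  obtain ⟨F, _, _, -, ⟨R⟩⟩ := exists_rep hty
  have h11 := h.eleven R
  have hc := R.card_mul_two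
  rw [Nat.card_congr e.toEquiv, card_alt7] at hdvd
  obtain ⟨q, hq⟩ : ∃ q, q = Nat.card F := ⟨_, rfl⟩
  have hodd := OddCyclic.PGLTorus.odd_card R
  have hle := Nat.le_of_dvd (by norm_num) hdvd
  obtain ⟨n, hn⟩ : ∃ n, n = Nat.card (Bar N) := ⟨_, rfl⟩
  rw [← hn] at hc hdvd hle
  rw [← hq] at hc h11 hodd
  have h17 : q ≤ 17 := by
    by_contra hlt
    push Not at hlt
    have h1 : 18 * (18 ^ 2 - 1) ≤ q * (q ^ 2 - 1) :=
      Nat.mul_le_mul hlt (Nat.sub_le_sub_right (Nat.pow_le_pow_left hlt 2) 1)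
    omega
  have h2 : q = 11 ∨ q = 13 ∨ q = 15 ∨ q = 17 := by omega
  rcases h2 with rfl | rfl | rfl | rfl
  · have : n = 660 := by norm_num at hc; omega
    subst this; norm_num at hdvd
  · have : n = 1092 := by norm_num at hc; omega
    subst this; norm_num at hdvd
  · have : n = 1680 := by norm_num at hc; omega
    subst this; norm_num at hdvd
  · have : n = 2448 := by norm_num at hc; omega
    subst this; norm_num at hdvd

end Cfsg.Agent.UGT.L2i
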