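import Cfsg.Agent.UGT.L2i.Tor

/-!
# P0 (SETUP), part 2: the weights

`TermX M0 x a L Q`: the inner triple `(x, a, L)` has maximal order `M0` and maximal weight
(rank, 2-part of the order) of `{g ∈ C(a) ∩ C(x) : g fixes L}`, `Q` is a Sylow 2-subgroup of this group, and all
pump-ups of `L` through the involutions of `Q` are trivial.
-/

set_option autoImplicit false

open Cfsg Subgroup
open Cfsg.Agent.SignalizersComponents Cfsg.Agent.Lib
open Cfsg.Agent.SignalizersComponents.IntrinsicBasic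
open Cfsg.Agent.SignalizersComponents.IntrinsicIntr
open Cfsg.Agent.SignalizersComponents.PLayerAut
open Cfsg.Agent.Intrinsic.Basic Cfsg.Agent.Intrinsic.Cen Cfsg.Agent.Intrinsic.Diag
open Cfsg.Agent.McLLyComp.Act
open Cfsg.Agent.UGT.TMCBase Cfsg.Agent.UGT.TMCSyl Cfsg.Agent.UGT.TMCMax Cfsg.Agent.UGT.TMCBad
open Cfsg.Agent.UGT.Triple (IsTriple)
open Cfsg.Agent.UGT.Iface (Bar IsInner IsL2)
open scoped commutatorElement

universe u

namespace Cfsg.Agent.UGT.L2i

variable {G : Type u} [Group G]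

/-- `{g ∈ C(t) ∩ C(x) : g fixes N}` -/
def FXx (x t : G) (N : Subgroup G) : Subgroup G := FX t N ⊓ centralizer ({x} : Set G)

theorem mem_FXx {x t : G} {N : Subgroup G} {g : G} :
    g ∈ FXx x t N ↔ (g * t = t * g ∧ Fixes g N) ∧ g * x = x * g := by
  rw [FXx, mem_inf, mem_FX, mem_centralizer_singleton_iff]

theorem fixes_self {t : G} {N : Subgroup G} (h : IsComp (centralizer ({t} : Set G)) N) : Fixes t N := by
  have h1 : ∀ y ∈ N, t * y = y * t := fun y hy => (comm_c (h.le hy)).symm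
  refine ⟨mem_normalizer_iff_cj.mpr (cj_of_comm h.le), fun y hy => ?_⟩
  rw [commutatorElement_eq_one_iff_mul_comm.mpr (h1 y hy)]
  exact one_mem _

variable [Finite G]

/-- an involution of `L` does not fix `L` if `L / O(L)` has trivial centre -/
theorem not_fixes_inv {L : Subgroup G} (hZ : center (Bar L) = ⊥) {l : G} (hl : l ∈ L)
    (hll : l * l = 1) (hl1 : l ≠ 1) : ¬ Fixes l L := by
  intro h
  have h3 : (QuotientGroup.mk' (oddCore ↥L)) ⟨l, hl⟩ ∈ center (Bar L) := (mk_center_iff hl).mpr h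
  rw [hZ, mem_bot] at h3
  exact hl1 (eq_one_of_mem_core_sq ((mem_core_iff hl).mpr ((QuotientGroup.eq_one_iff _).mp h3)) hll)

/-- a four-group `⟨l, v⟩` of `L` centralising `Q` and `x` -/
theorem Lx.exists_v {x a l : G} {L Q : Subgroup G} (h : Lx x a l L Q) : ∃ v ∈ L, v * v = 1 ∧ v ≠ 1 ∧ v ≠ l ∧
    l * v = v * l ∧ (∀ q ∈ Q, q * v = v * q) ∧ x * v = v * x ∧ ¬ Fixes v L ∧ ¬ Fixes (l * v) L := by
  have hZ := center_of_L2 h.ty
  obtain ⟨F, _, _, -, ⟨R⟩⟩ := exists_rep h.ty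
  obtain ⟨f, hff, hf1, hfl, hcf⟩ := rep_four R h.bar_ll h.bar_l1
  obtain ⟨v, hv, hvv, hvf, hvQ, hxv, hlv⟩ := h.lift_bar hff hcf
  have hv1 : v ≠ 1 := by
    rintro rfl
    apply hf1
    rw [← hvf]
    exact congrArg (QuotientGroup.mk' (oddCore ↥L)) (Subtype.ext rfl : (⟨1, hv⟩ : ↥L) = 1)
  have hvl : v ≠ l := by
    rintro rfl
    exact hfl hvf.symm
  have hlv1 : l * v ≠ 1 := by
    intro h1
    apply hvl
    calc v = l * (l * v) := by rw [← mul_assoc, h.ll, one_mul]
      _ = l := by rw [h1, mul_one]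
  have hlv2 : (l * v) * (l * v) = 1 := by
    calc (l * v) * (l * v) = l * (v * l) * v := by group
      _ = (l * l) * (v * v) := by rw [← hlv]; group
      _ = 1 := by rw [h.ll, hvv, one_mul]
  exact ⟨v, hv, hvv, hv1, hvl, hlv, hvQ, hxv, not_fixes_inv hZ hv hvv hv1,
    not_fixes_inv hZ (L.mul_mem h.mem hv) hlv2 hlv1⟩

/-- two components `J ≠ Y` of `C(z)`, `(x, z, Y)` an inner triple: the rank of `FXx x z J` is large -/
theorem four_le {x z : G} {J Y : Subgroup G} (hJ : IsComp (centralizer ({z} : Set G)) J)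
    (hY : IsTriple x z Y) (hin : IsInner x Y) (hty : IsL2 (Bar Y)) (hne : J ≠ Y) {A : Subgroup G} (hA : Elem A)
    (hAz : ∀ a ∈ A, a * z = z * a) (hAx : ∀ a ∈ A, a * x = x * a) (hAJ : ∀ a ∈ A, Fixes a J)
    (hAY : ∀ a ∈ A, Fixes a Y) : 4 * Nat.card A ≤ el (FXx x z J) := by
  obtain ⟨l, h⟩ := exists_Lx hY hty hin hA.isPGroup hAz hAx hAY
  obtain ⟨v, hv, hvv, hv1, hvl, hlv, hvq, hxv, hnv, hnlv⟩ := h.exists_v
  have hl := h.mem
  have hll := h.ll
  have hlq := h.Ql
  have hxl := h.xl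
  have hnl := not_fixes_inv (center_of_L2 hty) hl hll h.l1
  obtain ⟨B₁, hAB₁, hlB₁, hB₁m, hB₁E, hB₁c⟩ := elem_insert hA hll hlq (fun h => hnl (hAY l h))
  have hB₁v : ∀ b ∈ B₁, b * v = v * b := by
    intro b hb
    rcases hB₁m b hb with h | h
    · exact hvq b h
    · have h1 := hvq _ h
      have h2 : l * (b * v) = l * (v * b) := by
        calc l * (b * v) = (l * b) * v := by group
          _ = v * (l * b) := h1
          _ = (v * l) * b := by group
          _ = (l * v) * b := by rw [hlv]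
          _ = l * (v * b) := by group
      exact mul_left_cancel h2
  have hvB₁ : v ∉ B₁ := by
    intro h
    rcases hB₁m v h with h | h
    · exact hnv (hAY v h)
    · exact hnlv (hAY _ h)
  obtain ⟨B₂, hB₁₂, hvB₂, hB₂m, hB₂E, hB₂c⟩ := elem_insert hB₁E hvv hB₁v hvB₁
  have hcard : Nat.card B₂ = 4 * Nat.card A := by rw [hB₂c, hB₁c]; ring
  rw [← hcard]
  have hAF : ∀ b ∈ A, b ∈ FXx x z J := fun b hb => mem_FXx.mpr ⟨⟨hAz b hb, hAJ b hb⟩, hAx b hb⟩
  have hYF : ∀ y ∈ Y, x * y = y * x → y ∈ FXx x z J := fun y hy h =>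
    mem_FXx.mpr ⟨⟨comm_c (hY.comp.le hy), hJ.fixes_of_mem hY.comp hne hy⟩, h.symm⟩
  have hB₁F : ∀ b ∈ B₁, b ∈ FXx x z J := by
    intro b hb
    rcases hB₁m b hb with h | h
    · exact hAF b h
    · have h1 := mul_mem (inv_mem (hYF l hl hxl)) (hAF _ h)
      rwa [inv_mul_cancel_left] at h1
  refine le_el (fun b hb => ?_) hB₂E
  rcases hB₂m b hb with h | h
  · exact hB₁F b h
  · have h1 := mul_mem (inv_mem (hYF v hv hxv)) (hB₁F _ h)
    rwa [inv_mul_cancel_left] at h1

/-- the rank grows if a central involution of `Q` is bad -/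
theorem el_badx {M0 : ℕ} {x t z : G} {L J Q A : Subgroup G}
    (hF : Fam (centralizer ({x} : Set G)) (FF M0 x))
    (hQ : Base (centralizer ({x} : Set G)) (FF M0 x) t L Q) (hz : z ∈ Q) (hzz : z * z = 1)
    (hzQ : ∀ q ∈ Q, q * z = z * q) (hB : BadW (FF M0 x) t L z J) (hAQ : A ≤ Q) (hA : Elem A) :
    2 * Nat.card A ≤ el (FXx x z J) := by
  have hL := hQ.fam
  have htt := hF.sq hL
  have hzt := hQ.comm z hz
  have hzL := hQ.fix z hz
  have hJ := hB.fam.tri.comp
  have hfix : ∀ q ∈ Q, cj q J = J → Fixes q J ∧ Fixes q (cj t J) := by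
    intro q h1 h2
    have h3 := hB.fixes_of_normalizes hF hL hzz hzt hzL (hQ.comm q h1) (hzQ q h1) (hQ.fix q h1)
      (mem_normalizer_iff_cj.mpr h2)
    refine ⟨h3, ?_⟩
    have h4 := h3.cj t
    rwa [show t * q * t⁻¹ = q from conj_of_comm (hQ.comm q h1).symm] at h4
  obtain ⟨A₁, hA₁⟩ : ∃ A₁, A₁ = A ⊓ normalizer (J : Set G) := ⟨_, rfl⟩
  have hmem : ∀ {q : G}, q ∈ A₁ ↔ q ∈ A ∧ cj q J = J := by
    intro q
    rw [hA₁, mem_inf, mem_normalizer_iff_cj]
  have hA₁E : Elem A₁ := fun q hq => hA q (hmem.mp hq).1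
  have hA₁Q : A₁ ≤ Q := fun q hq => hAQ (hmem.mp hq).1
  have h4 : 4 * Nat.card A₁ ≤ el (FXx x z J) :=
    four_le hJ hB.fam'.tri hB.fam'.inn hB.fam'.ty hB.ne.symm hA₁E (fun a ha => hzQ a (hA₁Q ha))
      (fun a ha => comm_c (hQ.le (hA₁Q ha)))
      (fun a ha => (hfix a (hA₁Q ha) (hmem.mp ha).2).1) (fun a ha => (hfix a (hA₁Q ha) (hmem.mp ha).2).2)
  refine le_trans ?_ h4
  by_cases hall : ∀ q ∈ A, cj q J = J
  · have : A₁ = A := le_antisymm (fun q hq => (hmem.mp hq).1) fun q hq => hmem.mpr ⟨hq, hall q hq⟩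
    rw [this]; omega
  push Not at hall
  obtain ⟨g, hgA, hgJ⟩ := hall
  have hcases : ∀ q ∈ A, cj q J = J ∨ cj q J = cj t J := fun q hq =>
    hQ.perm hF hzt hB (hAQ hq) (hzQ q (hAQ hq))
  have hle : A₁ ≤ A := hA₁ ▸ inf_le_left
  have hgJ' := (hcases g hgA).resolve_left hgJ
  have h1 : A₁.relIndex A = 2 := by
    rw [Subgroup.relIndex_eq_two_iff]
    refine ⟨g, hgA, fun q hq => ?_⟩
    rcases hcases q hq with h | h
    · right
      refine ⟨hmem.mpr ⟨hq, h⟩, fun h' => ?_⟩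
      have h3 := (hmem.mp h').2
      rw [cj_mul, hgJ'] at h3
      apply hB.ne
      have h4 : cj q (cj t J) = cj q J := by rw [h3, h]
      exact cj_injective q h4
    · left
      refine ⟨hmem.mpr ⟨mul_mem hq hgA, ?_⟩, fun h' => ?_⟩
      · rw [cj_mul, hgJ', ← cj_mul, hQ.comm q (hAQ hq), cj_mul, h, cj_cj_self htt]
      · exact hB.ne (h.symm.trans (hmem.mp h').2)
  have h2 := Subgroup.card_mul_index (A₁.subgroupOf A)
  have h3 : (A₁.subgroupOf A).index = 2 := h1
  rw [h3, Nat.card_congr (Subgroup.subgroupOfEquivOfLe hle).toEquiv] at h2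
  omega

/-- The output of the first part of SETUP. -/
structure TermX (M0 : ℕ) (x a : G) (L Q : Subgroup G) : Prop where
  base : Base (centralizer ({x} : Set G)) (FF M0 x) a L Q
  le : Q ≤ FXx x a L
  card : Nat.card Q = tp (FXx x a L)
  syl : ∀ R : Subgroup G, R ≤ FXx x a L → IsPGroup 2 R → ∃ h ∈ FXx x a L, cj h R ≤ Q
  good : ∀ b ∈ Q, b * b = 1 → b ≠ 1 → Good (FF M0 x) L b
  /-- the weight is maximal among all inner triples of order `M0` -/
  max : ∀ (x' e : G) (N : Subgroup G), FF M0 x' e N → Q ≤ FXx x' e N → tp (FXx x' e N) ≤ Nat.card Q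
  /-- the rank is maximal among all inner triples of order `M0` -/
  rk : ∀ (x' e : G) (N : Subgroup G), FF M0 x' e N → el (FXx x' e N) ≤ el Q
  /-- the 2-part is maximal among all inner triples of order `M0` and the same rank -/
  uni : ∀ (x' e : G) (N : Subgroup G), FF M0 x' e N → el (FXx x' e N) = el Q → tp (FXx x' e N) ≤ Nat.card Q

/-- **SETUP, first part.** -/
theorem exists_termx (hU : UpOk G)
    (hne : ∃ (x a : G) (L : Subgroup G), IsTriple x a L ∧ IsInner x L ∧ IsL2 (Bar L)) :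
    ∃ (M0 : ℕ) (x a : G) (L Q : Subgroup G), TermX M0 x a L Q ∧
      ∀ (x a : G) (L : Subgroup G), IsTriple x a L → IsInner x L → IsL2 (Bar L) → Nat.card (Bar L) ≤ M0 := by
  have hp2 : Fact (Nat.Prime 2) := ⟨Nat.prime_two⟩
  -- the maximal order
  obtain ⟨M0, hM0, hex⟩ : ∃ M0 : ℕ, (∀ (x a : G) (L : Subgroup G), IsTriple x a L → IsInner x L →
      IsL2 (Bar L) → Nat.card (Bar L) ≤ M0) ∧ ∃ (x a : G) (L : Subgroup G), FF M0 x a L := by
    obtain ⟨x₀, a₀, L₀, h₀, h₀', h₀''⟩ := hne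
    obtain ⟨⟨x, a, L⟩, hmem, hmax⟩ := Set.Finite.exists_maximalFor
      (fun p : G × G × Subgroup G => Nat.card (Bar p.2.2))
      {p : G × G × Subgroup G | IsTriple p.1 p.2.1 p.2.2 ∧ IsInner p.1 p.2.2 ∧ IsL2 (Bar p.2.2)}
      (Set.toFinite _) ⟨(x₀, a₀, L₀), h₀, h₀', h₀''⟩
    refine ⟨Nat.card (Bar L), fun x' a' L' h h' h'' => ?_, x, a, L, hmem.1, hmem.2.1, hmem.2.2, rfl⟩
    rcases le_total (Nat.card (Bar L')) (Nat.card (Bar L)) with h1 | h1
    · exact h1
    · exact hmax (j := (x', a', L')) ⟨h, h', h''⟩ h1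
  -- the maximal weight
  obtain ⟨x, a, L, hL, hmax⟩ : ∃ (x a : G) (L : Subgroup G), FF M0 x a L ∧
      ∀ (x' a' : G) (L' : Subgroup G), FF M0 x' a' L' → el (FXx x' a' L') ≤ el (FXx x a L) ∧
      (el (FXx x' a' L') = el (FXx x a L) → tp (FXx x' a' L') ≤ tp (FXx x a L)) := by
    obtain ⟨x₀, a₀, L₀, h₀⟩ := hex
    obtain ⟨⟨x, a, L⟩, hmem, hmax⟩ := Set.Finite.exists_maximalFor
      (fun p : G × G × Subgroup G => el (FXx p.1 p.2.1 p.2.2) * (Nat.card G + 1) + tp (FXx p.1 p.2.1 p.2.2))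
      {p : G × G × Subgroup G | FF M0 p.1 p.2.1 p.2.2} (Set.toFinite _) ⟨(x₀, a₀, L₀), h₀⟩
    refine ⟨x, a, L, hmem, fun x' a' L' h' => ?_⟩
    have h1 : el (FXx x' a' L') * (Nat.card G + 1) + tp (FXx x' a' L') ≤
        el (FXx x a L) * (Nat.card G + 1) + tp (FXx x a L) := by
      rcases le_total (el (FXx x' a' L') * (Nat.card G + 1) + tp (FXx x' a' L'))
        (el (FXx x a L) * (Nat.card G + 1) + tp (FXx x a L)) with h | h
      · exact h
      · exact hmax (j := (x', a', L')) h' h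
    have h2 : tp (FXx x a L) ≤ Nat.card G := tp_le
    constructor
    · by_contra hlt
      push Not at hlt
      have h3 : (el (FXx x a L) + 1) * (Nat.card G + 1) ≤ el (FXx x' a' L') * (Nat.card G + 1) :=
        Nat.mul_le_mul_right _ hlt
      have h4 : (el (FXx x a L) + 1) * (Nat.card G + 1) = el (FXx x a L) * (Nat.card G + 1) +
        (Nat.card G + 1) := by ring
      omega
    · intro heq
      rw [heq] at h1
      omega
  have hF := fam hU hM0 x
  have haa := Triple.sq_of_order hL.tri.inva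
  have ha1 := Triple.ne_one_of_order hL.tri.inva
  obtain ⟨Q, hQ, h2, hcard, hsyl⟩ := exists_syl (FXx x a L)
  have haX : a ∈ FXx x a L := mem_FXx.mpr ⟨⟨rfl, fixes_self hL.tri.comp⟩, hL.tri.comm⟩
  have haQ : a ∈ Q := by
    have h4 : IsPGroup 2 (zpowers a) := by
      have : Nat.card (zpowers a) = 2 ^ 1 := by rw [Nat.card_zpowers, hL.tri.inva]; norm_num
      exact IsPGroup.of_card this
    obtain ⟨h, hh, hle⟩ := hsyl _ (zpowers_le.mpr haX) h4
    apply hle
    rw [mem_cj]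
    have h5 : h⁻¹ * a * h = a := by
      have := (mem_FXx.mp hh).1.1
      rw [mul_assoc, ← this, ← mul_assoc, inv_mul_cancel, one_mul]
    rw [h5]
    exact mem_zpowers a
  have hB : Base (centralizer ({x} : Set G)) (FF M0 x) a L Q :=
    ⟨hL, h2, haQ, fun q hq => (hQ hq).2, fun q hq => (mem_FXx.mp (hQ hq)).1.1,
      fun q hq => (mem_FXx.mp (hQ hq)).1.2⟩
  obtain ⟨A, hAQ, hAE, hAc⟩ := TMC.exists_el_le hsyl
  have hZ : ∀ z ∈ Q, z * z = 1 → z ≠ 1 → (∀ q ∈ Q, q * z = z * q) → Good (FF M0 x) L z := by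
    intro z hz hzz hz1 hzQ
    rcases hF.pump hL z (hB.le hz) hzz hz1 (hB.comm z hz) (hB.fix z hz) with h | ⟨J, hJ⟩
    · exact h
    exfalso
    have h3 := el_badx hF hB hz hzz hzQ hJ hAQ hAE
    have h5 := (hmax x z J hJ.fam).1
    have h6 : 0 < Nat.card A := Nat.card_pos
    omega
  have hgood : ∀ b ∈ Q, b * b = 1 → b ≠ 1 → Good (FF M0 x) L b := by
    rcases main hF hB hZ with h | ⟨b, hbQ, hbb, hb1, hba, -, ⟨J, hJ⟩, hb⟩
    · exact h
    exfalso
    have hbt := hB.comm b hbQ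
    have hbx : b * x = x * b := comm_c (hB.le hbQ)
    -- `⟨b⟩`
    obtain ⟨B₀, -, hbB₀, hB₀m, hB₀E, hB₀c⟩ := elem_insert (A := (⊥ : Subgroup G))
      (by intro x hx; rw [mem_bot.mp hx, one_mul]) hbb
      (by intro x hx; rw [mem_bot.mp hx, one_mul, mul_one]) (fun h => hb1 (mem_bot.mp h))
    have hB₀mem : ∀ x ∈ B₀, x = 1 ∨ x = b := by
      intro x hx
      rcases hB₀m x hx with h | h
      · exact Or.inl (mem_bot.mp h)
      · right
        have h2 := mem_bot.mp h
        calc x = b⁻¹ * (b * x) := by group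
          _ = b := by rw [h2, mul_one, inv_of_sq hbb]
    have h8 : 4 * Nat.card B₀ ≤ el (FXx x b J) := by
      refine four_le hJ.fam.tri.comp hJ.fam'.tri hJ.fam'.inn hJ.fam'.ty hJ.ne.symm hB₀E ?_ ?_ ?_ ?_
      · intro c hc
        rcases hB₀mem c hc with rfl | rfl
        · rw [one_mul, mul_one]
        · rfl
      · intro c hc
        rcases hB₀mem c hc with rfl | rfl
        · rw [one_mul, mul_one]
        · exact hbx
      · intro c hc
        rcases hB₀mem c hc with rfl | rfl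
        · exact fixes_one J
        · exact fixes_self hJ.fam.tri.comp
      · intro c hc
        rcases hB₀mem c hc with rfl | rfl
        · exact fixes_one _
        · exact fixes_self hJ.fam'.tri.comp
    rw [hB₀c, card_bot, mul_one] at h8
    have h9 := (hmax x b J hJ.fam).1
    -- the four-group `⟨a, b⟩`
    obtain ⟨B₁, -, haB₁, hB₁m, hB₁E, hB₁c⟩ := elem_insert (A := (⊥ : Subgroup G))
      (by intro x hx; rw [mem_bot.mp hx, one_mul]) haa
      (by intro x hx; rw [mem_bot.mp hx, one_mul, mul_one]) (fun h => ha1 (mem_bot.mp h))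
    have hB₁mem : ∀ x ∈ B₁, x = 1 ∨ x = a := by
      intro x hx
      rcases hB₁m x hx with h | h
      · exact Or.inl (mem_bot.mp h)
      · right
        have h2 := mem_bot.mp h
        calc x = a⁻¹ * (a * x) := by group
          _ = a := by rw [h2, mul_one, inv_of_sq haa]
    obtain ⟨B₂, hB₁₂, hbB₂, hB₂m, hB₂E, hB₂c⟩ := elem_insert hB₁E hbb
      (by
        intro x hx
        rcases hB₁mem x hx with rfl | rfl
        · rw [one_mul, mul_one]
        · exact (hB.comm b hbQ).symm)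
      (by
        intro h
        rcases hB₁mem b h with h | h
        · exact hb1 h
        · exact hba h)
    have hB₂Q : B₂ ≤ Q := by
      have hB₁Q : B₁ ≤ Q := by
        intro x hx
        rcases hB₁mem x hx with rfl | rfl
        · exact one_mem _
        · exact hB.mem
      intro x hx
      rcases hB₂m x hx with h | h
      · exact hB₁Q h
      · have h1 := Q.mul_mem (Q.inv_mem hbQ) (hB₁Q h)
        rwa [inv_mul_cancel_left] at h1
    have hc4 : Nat.card (B₂.subgroupOf Q) = 4 := by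
      rw [Nat.card_congr (Subgroup.subgroupOfEquivOfLe hB₂Q).toEquiv, hB₂c, hB₁c, card_bot]
    have hle4 : Nat.card (A.subgroupOf Q) ≤ 4 := by
      refine MinSimple.SelfCentFour.card_le h2 hc4 ?_ ?_ ?_
      · rintro ⟨v, hv⟩ hv'
        exact Subtype.ext (hB₂E v hv')
      · rintro ⟨q, hq⟩ hqc
        have h10 : q * b = b * q :=
          congrArg Subtype.val ((mem_centralizer_iff.mp hqc ⟨b, hbQ⟩ hbB₂).symm)
        change q ∈ B₂
        have haB₂ := hB₁₂ haB₁
        rcases hb q hq h10 with rfl | rfl | rfl | rfl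
        · exact one_mem _
        · exact haB₂
        · exact hbB₂
        · exact mul_mem haB₂ hbB₂
      · rintro ⟨x, hx⟩ hx'
        exact Subtype.ext (hAE x hx')
    rw [Nat.card_congr (Subgroup.subgroupOfEquivOfLe hAQ).toEquiv, hAc] at hle4
    omega
  have hel : el (FXx x a L) = el Q := le_antisymm (by rw [← hAc]; exact le_el hAQ hAE) (el_mono hQ)
  refine ⟨M0, x, a, L, Q, ⟨hB, hQ, hcard, hsyl, hgood, fun x' e N hN hQN => ?_,
    fun x' e N hN => (hmax x' e N hN).1.trans_eq hel, fun x' e N hN h1 => ?_⟩, hM0⟩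
  swap
  · rw [hcard]
    exact (hmax x' e N hN).2 (h1.trans hel.symm)
  have h3 : el (FXx x a L) ≤ el (FXx x' e N) := by
    rw [← hAc]; exact le_el (hAQ.trans hQN) hAE
  rw [hcard]
  exact (hmax x' e N hN).2 (le_antisymm (hmax x' e N hN).1 h3)

end Cfsg.Agent.UGT.L2i
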